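import Cfsg.Agent.Lib.TwoDim.SLValues
import Cfsg.Agent.Lib.Char.Quotient
import Cfsg.Agent.Lib.Char.Clifford
import Cfsg.Prelude.Def_DegreeGraph

/-!
# Degrees of the irreducible characters of `SL₂` and `PSL₂`
-/

set_option autoImplicit false
set_option linter.unusedSectionVars false

namespace Cfsg.Lib.TwoDim

open Finset Matrix Cfsg Cfsg.Lib.Char
open scoped MatrixGroups

universe u v w

variable {F : Type u} [Field F] [Fintype F] [DecidableEq F]

local notation "q" => Fintype.card F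

local notation "Z₂" => Subgroup.center SL(2, F)

/-- The six degrees. -/
theorem sl_degree_cases {χ : SL(2, F) → ℂ} (hχ : IsIrrCharacter SL(2, F) χ) :
    χ = oneR F ∨ χ = stR F ∨ χ 1 = ((q + 1 : ℕ) : ℂ) ∨ χ 1 = ((q - 1 : ℕ) : ℂ) ∨
      (Odd q ∧ χ 1 = (((q + 1) / 2 : ℕ) : ℂ)) ∨ (Odd q ∧ χ 1 = (((q - 1) / 2 : ℕ) : ℂ)) := by
  rcases sl_cases hχ with h | h | ⟨α, -, rfl⟩ | ⟨φ, -, rfl⟩ | ⟨ho, α, -, -, h⟩ | ⟨ho, φ, -, -, h⟩
  · exact Or.inl h
  · exact Or.inr (Or.inl h)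
  · exact Or.inr (Or.inr (Or.inl (psR_one α)))
  · exact Or.inr (Or.inr (Or.inr (Or.inl (cuR_one _))))
  · exact Or.inr (Or.inr (Or.inr (Or.inr (Or.inl ⟨ho, h.degree_ps ho⟩))))
  · exact Or.inr (Or.inr (Or.inr (Or.inr (Or.inr ⟨ho, h.degree_cu ho⟩))))

theorem charDegree_nat {H : Type v} [Group H] {χ : H → ℂ} {n : ℕ} (h : χ 1 = (n : ℂ)) :
    charDegree χ = n := by
  simp [charDegree, h]

theorem sl_charDegrees_subset {d : ℕ} (hd : d ∈ charDegrees SL(2, F)) :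
    d = 1 ∨ d = q ∨ d ∣ q + 1 ∨ d ∣ q - 1 := by
  obtain ⟨χ, rfl⟩ := hd
  have h2 := two_le_q (F := F)
  rcases sl_degree_cases χ.2 with h | h | h | h | ⟨ho, h⟩ | ⟨ho, h⟩
  · exact Or.inl (charDegree_nat (by rw [h, oneR_one]))
  · exact Or.inr (Or.inl (charDegree_nat (by rw [h, stR_one])))
  · exact Or.inr (Or.inr (Or.inl (dvd_of_eq (charDegree_nat h))))
  · exact Or.inr (Or.inr (Or.inr (dvd_of_eq (charDegree_nat h))))
  · obtain ⟨m, hm⟩ := ho
    exact Or.inr (Or.inr (Or.inl (by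
      rw [charDegree_nat h]; exact ⟨2, by omega⟩)))
  · obtain ⟨m, hm⟩ := ho
    exact Or.inr (Or.inr (Or.inr (by
      rw [charDegree_nat h]; exact ⟨2, by omega⟩)))

theorem center_cases {g : SL(2, F)} (hg : g ∈ Z₂) : g = 1 ∨ g = -1 := by
  obtain ⟨r, hr, hg⟩ := Matrix.SpecialLinearGroup.mem_center_iff.1 hg
  rw [Fintype.card_fin, sq_eq_one_iff] at hr
  rcases hr with rfl | rfl
  · exact Or.inl (Subtype.ext (by rw [← hg]; simp))
  · refine Or.inr (Subtype.ext ?_)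
    rw [← hg, Matrix.SpecialLinearGroup.coe_neg, Matrix.SpecialLinearGroup.coe_one, map_neg, map_one]

theorem trivial_on_center {χ : SL(2, F) → ℂ} (h : χ (-1) = χ 1) : ∀ z ∈ Z₂, χ z = χ 1 := by
  intro z hz
  rcases center_cases hz with rfl | rfl
  · rfl
  · exact h

theorem stR_neg_one : stR F (-1) = stR F 1 := by
  simp only [stR_eq, Pi.sub_apply, oneR_eq, neg_one_val_psR]
  rw [MulChar.one_apply (isUnit_one.neg), one_mul]

theorem exists_ps (hq : 4 ≤ q) (h5 : Odd q → 5 < q) :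
    ∃ α : MulChar F ℂ, α ^ 2 ≠ 1 ∧ α (-1) = 1 := by
  obtain ⟨γ, hγ⟩ := IsCyclic.exists_generator (α := MulChar F ℂ)
  have hord : orderOf γ = q - 1 := by
    rw [orderOf_eq_card_of_forall_mem_zpowers hγ, Nat.card_eq_fintype_card, card_mulChar]
  rcases Nat.even_or_odd q with he | ho
  · refine ⟨γ, fun h => ?_, ?_⟩
    · have h1 := Nat.le_of_dvd two_pos (orderOf_dvd_of_pow_eq_one h)
      omega
    · obtain ⟨m, hm⟩ := he
      have hc : ringChar F = 2 := FiniteField.even_card_iff_char_two.2 (by omega)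
      haveI : CharP F 2 := ringChar.of_eq hc
      rw [CharTwo.neg_eq, map_one]
  · refine ⟨γ ^ 2, fun h => ?_, ?_⟩
    · rw [← pow_mul] at h
      have h1 := orderOf_dvd_of_pow_eq_one h
      rw [hord] at h1
      have := Nat.le_of_dvd (by norm_num) h1
      obtain ⟨m, hm⟩ := ho
      have := h5 ⟨m, hm⟩
      omega
    · rw [MulChar.pow_apply' _ two_ne_zero, ← map_pow, neg_one_sq, map_one]

theorem exists_cu (hq : 4 ≤ q) (h5 : Odd q → 5 < q) :
    ∃ φ : ↥(normOne F) →* ℂˣ, φ ^ 2 ≠ 1 ∧ cuQ φ (-1) = cuQ φ 1 := by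
  obtain ⟨γ, hγ⟩ := IsCyclic.exists_generator (α := ↥(normOne F) →* ℂˣ)
  have hord : orderOf γ = q + 1 := by
    rw [orderOf_eq_card_of_forall_mem_zpowers hγ, Nat.card_eq_fintype_card, card_normOneHom]
  have key : ∀ φ : ↥(normOne F) →* ℂˣ, (∀ z : ↥(normOne F), z ^ 2 = 1 → φ z = 1) →
      cuQ φ (-1) = cuQ φ 1 := by
    intro φ h
    have hmem : Units.map (inc (F := F)).toMonoidHom (-1) ∈ normOne F := by
      rw [mem_normOne]
      show nm (inc ((-1 : Fˣ) : F)) = 1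
      rw [nm_inc_eq_one]; simp
    have e := lift1_apply φ ⟨_, hmem⟩
    rw [h ⟨_, hmem⟩ (Subtype.ext (by rw [Subgroup.coe_pow, ← map_pow, neg_one_sq, map_one]; rfl)),
      Units.val_one] at e
    rw [neg_one_val_cuQ, show inc (-1 : F) = inc ((-1 : Fˣ) : F) by simp]
    simp only [Units.coe_map] at e
    erw [e, one_mul]
  rcases Nat.even_or_odd q with he | ho
  · refine ⟨γ, fun h => ?_, key _ fun z hz => ?_⟩
    · have h1 := Nat.le_of_dvd two_pos (orderOf_dvd_of_pow_eq_one h)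
      omega
    · have hodd : Odd (Nat.card ↥(normOne F)) := by
        rw [card_normOne]; exact he.add_one
      have h1 : z = 1 := by
        have := orderOf_dvd_of_pow_eq_one hz
        rcases (Nat.dvd_prime Nat.prime_two).1 this with h | h
        · exact orderOf_eq_one_iff.1 h
        · exfalso
          have h2 := h ▸ orderOf_dvd_natCard z
          exact (Nat.not_even_iff_odd.2 hodd) (even_iff_two_dvd.2 h2)
      rw [h1, map_one]
  · refine ⟨γ ^ 2, fun h => ?_, key _ fun z hz => ?_⟩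
    · rw [← pow_mul] at h
      have h1 := orderOf_dvd_of_pow_eq_one h
      rw [hord] at h1
      have := Nat.le_of_dvd (by norm_num) h1
      omega
    · rw [MonoidHom.pow_apply, ← map_pow, hz, map_one]

theorem charDegrees_quotient_subset {H : Type v} [Group H] [Finite H] (N : Subgroup H) [N.Normal] {d : ℕ}
    (hd : d ∈ charDegrees (H ⧸ N)) : d ∈ charDegrees H := by
  obtain ⟨χ, rfl⟩ := hd
  refine ⟨⟨_, isIrrCharacter_inflate N χ.2⟩, ?_⟩
  simp only [charDegree]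
  rfl

theorem mem_charDegrees_quotient {χ : SL(2, F) → ℂ} (hχ : IsIrrCharacter SL(2, F) χ)
    (h : χ (-1) = χ 1) {n : ℕ} (hn : χ 1 = (n : ℂ)) : n ∈ charDegrees (SL(2, F) ⧸ Z₂) := by
  obtain ⟨ψ, hψ, he⟩ := exists_deflate_irr Z₂ hχ (trivial_on_center h)
  exact ⟨⟨ψ, hψ⟩, charDegree_nat (by rw [← hn, ← he 1]; rfl)⟩

/-- The degrees of `SL₂` or `PSL₂`, up to divisors of `q ± 1`. -/
theorem degrees_sandwich (hq : 4 ≤ q) (h5 : Odd q → 5 < q) {S : Type v} [Group S]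
    (hS : Nonempty (S ≃* Matrix.ProjectiveSpecialLinearGroup (Fin 2) F) ∨
      Nonempty (S ≃* Matrix.SpecialLinearGroup (Fin 2) F)) :
    (∀ d ∈ charDegrees S, d = 1 ∨ d = q ∨ d ∣ q + 1 ∨ d ∣ q - 1) ∧
      q ∈ charDegrees S ∧ q + 1 ∈ charDegrees S ∧ q - 1 ∈ charDegrees S := by
  have tr : ∀ {A : Type v} {B : Type u} [Group A] [Group B], (A ≃* B) →
      charDegrees A = charDegrees B := by
    intro A B _ _ e
    ext d
    constructor
    · rintro ⟨χ, rfl⟩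
      refine ⟨⟨_, isIrrCharacter_comp_equiv e.symm χ.2⟩, ?_⟩
      simp [charDegree]
    · rintro ⟨χ, rfl⟩
      refine ⟨⟨_, isIrrCharacter_comp_equiv e χ.2⟩, ?_⟩
      simp [charDegree]
  obtain ⟨α, hα, hα'⟩ := exists_ps hq h5
  obtain ⟨φ, hφ, hφ'⟩ := exists_cu hq h5
  have hst : q ∈ charDegrees (SL(2, F) ⧸ Z₂) :=
    mem_charDegrees_quotient irr_stR stR_neg_one stR_one
  have hps : q + 1 ∈ charDegrees (SL(2, F) ⧸ Z₂) :=
    mem_charDegrees_quotient (irr_psR hα) (by rw [neg_one_val_psR, hα', one_mul]) (psR_one α)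
  have hcu : q - 1 ∈ charDegrees (SL(2, F) ⧸ Z₂) :=
    mem_charDegrees_quotient (irr_cuQ hφ) hφ' (cuR_one _)
  rcases hS with ⟨⟨e⟩⟩ | ⟨⟨e⟩⟩
  · rw [tr e]
    exact ⟨fun d hd => sl_charDegrees_subset (charDegrees_quotient_subset Z₂ hd), hst, hps, hcu⟩
  · rw [tr e]
    exact ⟨fun d hd => sl_charDegrees_subset hd, charDegrees_quotient_subset Z₂ hst,
      charDegrees_quotient_subset Z₂ hps, charDegrees_quotient_subset Z₂ hcu⟩

theorem degree_graph_sl (hq : 4 ≤ q) (h5 : Odd q → 5 < q) {t : ℕ} {e : ℕ} (ht : t.Prime)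
    (hqt : q = t ^ e) {S : Type v} [Group S]
    (hS : Nonempty (S ≃* Matrix.ProjectiveSpecialLinearGroup (Fin 2) F) ∨
      Nonempty (S ≃* Matrix.SpecialLinearGroup (Fin 2) F)) :
    degreePrimes S = {r : ℕ | r.Prime ∧ r ∣ q * (q ^ 2 - 1)} ∧
      ∀ r s : ℕ, (degreeGraph S).Adj r s ↔ r ≠ s ∧ r.Prime ∧ s.Prime ∧
        ((r ∣ q + 1 ∧ s ∣ q + 1) ∨ (r ∣ q - 1 ∧ s ∣ q - 1)) := by
  obtain ⟨hsub, h1, h2, h3⟩ := degrees_sandwich hq h5 hS
  have hfac : q ^ 2 - 1 = (q + 1) * (q - 1) := by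
    simpa using Nat.sq_sub_sq q 1
  refine ⟨?_, fun r s => ?_⟩
  · ext r
    simp only [degreePrimes, Set.mem_ofPred_eq, hfac]
    constructor
    · rintro ⟨hr, d, hd, hrd⟩
      refine ⟨hr, hrd.trans ?_⟩
      rcases hsub d hd with rfl | rfl | h | h
      · exact one_dvd _
      · exact dvd_mul_right _ _
      · exact h.trans ((dvd_mul_right _ _).trans (dvd_mul_left _ _))
      · exact h.trans ((dvd_mul_left _ _).trans (dvd_mul_left _ _))
    · rintro ⟨hr, hrd⟩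
      refine ⟨hr, ?_⟩
      rcases (Nat.Prime.dvd_mul hr).1 hrd with h | h
      · exact ⟨_, h1, h⟩
      rcases (Nat.Prime.dvd_mul hr).1 h with h | h
      exacts [⟨_, h2, h⟩, ⟨_, h3, h⟩]
  · show (r ≠ s ∧ r.Prime ∧ s.Prime ∧ ∃ d ∈ charDegrees S, r * s ∣ d) ↔ _
    refine and_congr_right fun hne => and_congr_right fun hr => and_congr_right fun hs => ?_
    have hcop : r.Coprime s := (Nat.coprime_primes hr hs).2 hne
    constructor
    · rintro ⟨d, hd, hrs⟩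
      have hrd := (dvd_mul_right r s).trans hrs
      have hsd := (dvd_mul_left s r).trans hrs
      rcases hsub d hd with rfl | rfl | h | h
      · exact absurd (Nat.dvd_one.1 hrd) hr.ne_one
      · exfalso
        refine hne ?_
        rw [hqt] at hrd hsd
        rw [(Nat.prime_dvd_prime_iff_eq hr ht).1 (hr.dvd_of_dvd_pow hrd),
          (Nat.prime_dvd_prime_iff_eq hs ht).1 (hs.dvd_of_dvd_pow hsd)]
      · exact Or.inl ⟨hrd.trans h, hsd.trans h⟩
      · exact Or.inr ⟨hrd.trans h, hsd.trans h⟩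
    · rintro (⟨a, b⟩ | ⟨a, b⟩)
      exacts [⟨_, h2, hcop.mul_dvd_of_dvd_of_dvd a b⟩, ⟨_, h3, hcop.mul_dvd_of_dvd_of_dvd a b⟩]

/-- The Steinberg character is the only one of degree divisible by the characteristic. -/
theorem psl_steinberg (p : ℕ) (hp : p.Prime) {e : ℕ} (he : e ≠ 0) (hqp : q = p ^ e) :
    Nat.card {χ : IrrCharacter (SL(2, F) ⧸ Z₂) // p ∣ charDegree (χ : SL(2, F) ⧸ Z₂ → ℂ)} = 1 ∧
      ∀ χ : IrrCharacter (SL(2, F) ⧸ Z₂), p ∣ charDegree (χ : SL(2, F) ⧸ Z₂ → ℂ) →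
        charDegree (χ : SL(2, F) ⧸ Z₂ → ℂ) = q := by
  have h2 := two_le_q (F := F)
  have hpq : p ∣ q := hqp ▸ dvd_pow_self p he
  have key : ∀ χ : IrrCharacter (SL(2, F) ⧸ Z₂), p ∣ charDegree (χ : SL(2, F) ⧸ Z₂ → ℂ) →
      ∀ g : SL(2, F), (χ : SL(2, F) ⧸ Z₂ → ℂ) g = stR F g := by
    intro χ hd g
    have hdeg : charDegree (fun x : SL(2, F) => (χ : SL(2, F) ⧸ Z₂ → ℂ) x) =
        charDegree (χ : SL(2, F) ⧸ Z₂ → ℂ) := by
      simp only [charDegree]; rfl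
    rw [← hdeg] at hd
    have hno : ∀ n, n ∣ q + 1 ∨ n ∣ q - 1 → ¬ p ∣ n := by
      rintro n (hn | hn) hpn <;> have h := hpn.trans hn
      · exact hp.not_dvd_one ((Nat.dvd_add_right hpq).1 h)
      · have h' := Nat.dvd_sub hpq h
        rw [show q - (q - 1) = 1 by omega] at h'
        exact hp.not_dvd_one h'
    rcases sl_degree_cases (isIrrCharacter_inflate Z₂ χ.2) with h | h | h | h | ⟨ho, h⟩ | ⟨ho, h⟩
    · rw [h, charDegree_nat oneR_one] at hd
      exact absurd hd hp.not_dvd_one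
    · exact congrFun h g
    · rw [charDegree_nat h] at hd; exact absurd hd (hno _ (Or.inl dvd_rfl))
    · rw [charDegree_nat h] at hd; exact absurd hd (hno _ (Or.inr dvd_rfl))
    · rw [charDegree_nat h] at hd
      obtain ⟨m, hm⟩ := ho
      exact absurd hd (hno _ (Or.inl ⟨2, by omega⟩))
    · rw [charDegree_nat h] at hd
      obtain ⟨m, hm⟩ := ho
      exact absurd hd (hno _ (Or.inr ⟨2, by omega⟩))
  obtain ⟨ψ, hψ, hψe⟩ := exists_deflate_irr Z₂ (irr_stR (F := F)) (trivial_on_center stR_neg_one)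
  have hψd : charDegree ψ = q := charDegree_nat (by rw [← stR_one, ← hψe 1]; rfl)
  have huniq : ∀ χ : IrrCharacter (SL(2, F) ⧸ Z₂), p ∣ charDegree (χ : SL(2, F) ⧸ Z₂ → ℂ) →
      χ = ⟨ψ, hψ⟩ := fun χ hd => Subtype.ext (funext fun x => by
    obtain ⟨g, rfl⟩ := QuotientGroup.mk_surjective x
    rw [key χ hd g]; exact (hψe g).symm)
  refine ⟨Nat.card_eq_one_iff_unique.2 ⟨⟨fun a b => Subtype.ext
    ((huniq _ a.2).trans (huniq _ b.2).symm)⟩, ⟨⟨⟨ψ, hψ⟩, hψd ▸ hpq⟩⟩⟩, fun χ hd => ?_⟩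
  rw [huniq χ hd]
  exact hψd

end Cfsg.Lib.TwoDim
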