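import Cfsg.Agent.Lib.TwoDim.Halves

/-!
# The irreducible characters of `SL₂` over a finite field
-/

set_option autoImplicit false
set_option linter.unusedSectionVars false

namespace Cfsg.Lib.TwoDim

open Finset Matrix Cfsg Cfsg.Lib.Char
open scoped MatrixGroups ComplexConjugate

universe u

section Cyclic

variable {A : Type*} [CommGroup A] [IsCyclic A] [Fintype A] [DecidableEq A]

theorem card_sq_eq_one :
    ((Finset.univ : Finset A).filter fun a => a ^ 2 = 1).card = Nat.gcd (Fintype.card A) 2 := by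
  rw [← Nat.card_eq_fintype_card, ← IsCyclic.card_powMonoidHom_ker, Nat.card_eq_fintype_card,
    Fintype.card_of_subtype]
  intro a
  simp

theorem card_sq_ne_one :
    ((Finset.univ : Finset A).filter fun a => a ^ 2 ≠ 1).card + Nat.gcd (Fintype.card A) 2 = Fintype.card A := by
  rw [← card_sq_eq_one, ← Finset.card_univ, add_comm]
  exact Finset.card_filter_add_card_filter_not _

theorem exists_invol (h : 2 ∣ Fintype.card A) :
    ∃ a : A, a ^ 2 = 1 ∧ a ≠ 1 ∧ ∀ b : A, b ^ 2 = 1 → b = 1 ∨ b = a := by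
  have hc : ((Finset.univ : Finset A).filter fun a => a ^ 2 = 1).card = 2 := by
    rw [card_sq_eq_one, Nat.gcd_eq_right h]
  obtain ⟨x, y, hne, he⟩ := Finset.card_eq_two.1 hc
  have h1 : (1 : A) ∈ ({x, y} : Finset A) := he ▸ by simp
  have hm : ∀ b : A, b ^ 2 = 1 → b = x ∨ b = y := fun b hb => by
    have : b ∈ ({x, y} : Finset A) := he ▸ by simp [hb]
    simpa using this
  have hx : x ^ 2 = 1 := (Finset.mem_filter.1 (he ▸ Finset.mem_insert_self x _ :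
    x ∈ (Finset.univ : Finset A).filter fun a => a ^ 2 = 1)).2
  have hy : y ^ 2 = 1 := (Finset.mem_filter.1 (he ▸ Finset.mem_insert_of_mem (Finset.mem_singleton_self y) :
    y ∈ (Finset.univ : Finset A).filter fun a => a ^ 2 = 1)).2
  simp only [Finset.mem_insert, Finset.mem_singleton] at h1
  rcases h1 with rfl | rfl
  · exact ⟨y, hy, hne.symm, hm⟩
  · exact ⟨x, hx, hne, fun b hb => (hm b hb).symm⟩

end Cyclic

variable {F : Type u} [Field F] [Fintype F] [DecidableEq F]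

local notation "q" => Fintype.card F

noncomputable instance fintypeNormOneHom : Fintype (↥(normOne F) →* ℂˣ) := Fintype.ofFinite _

noncomputable instance decidableEqNormOneHom : DecidableEq (↥(normOne F) →* ℂˣ) := Classical.decEq _

instance isCyclic_normOneHom : IsCyclic (↥(normOne F) →* ℂˣ) :=
  let ⟨e⟩ := CommGroup.monoidHom_mulEquiv_of_hasEnoughRootsOfUnity ↥(normOne F) ℂ
  isCyclic_of_surjective e.symm e.symm.surjective

theorem card_normOneHom : Fintype.card (↥(normOne F) →* ℂˣ) = q + 1 := by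
  rw [← Nat.card_eq_fintype_card, CommGroup.card_monoidHom_of_hasEnoughRootsOfUnity, card_normOne]

/-- An extension to the quadratic extension. -/
noncomputable def lift1 (φ : ↥(normOne F) →* ℂˣ) : MulChar (Quad F) ℂ := Function.surjInv res1_surjective φ

theorem res1_lift1 (φ : ↥(normOne F) →* ℂˣ) : res1 (lift1 φ) = φ := Function.surjInv_eq res1_surjective φ

/-- Cuspidal characters indexed by characters of the norm one group. -/
noncomputable def cuQ (φ : ↥(normOne F) →* ℂˣ) : SL(2, F) → ℂ := cuR (lift1 φ)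

theorem cuQ_res1 (θ : MulChar (Quad F) ℂ) : cuQ (res1 θ) = cuR θ := cuR_congr (res1_lift1 _)

theorem inner_cuQ_cuQ (φ ψ : ↥(normOne F) →* ℂˣ) :
    classInner (cuQ φ) (cuQ ψ) = (if φ = ψ then 1 else 0) + (if φ = ψ⁻¹ then 1 else 0) := by
  rw [cuQ, cuQ, inner_cuR_cuR]
  simp only [res1_lift1]

theorem isCharacter_cuQ {φ : ↥(normOne F) →* ℂˣ} (h : φ ≠ 1) : IsCharacter SL(2, F) (cuQ φ) :=
  isCharacter_cuR (by rwa [res1_lift1])

theorem irr_psR {α : MulChar F ℂ} (h : α ^ 2 ≠ 1) : IsIrrCharacter SL(2, F) (psR α) := by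
  refine isIrrCharacter_of_norm_one (isCharacter_psR α) ?_
  rw [inner_psR_psR, if_pos rfl, if_neg, add_zero]
  exact fun e => h (by rw [sq]; exact mul_eq_one_iff_eq_inv.2 e)

theorem ne_one_of_sq_ne {A : Type*} [Group A] {a : A} (h : a ^ 2 ≠ 1) : a ≠ 1 := fun e => h (by rw [e, one_pow])

theorem irr_cuQ {φ : ↥(normOne F) →* ℂˣ} (h : φ ^ 2 ≠ 1) : IsIrrCharacter SL(2, F) (cuQ φ) := by
  refine isIrrCharacter_of_norm_one (isCharacter_cuQ (ne_one_of_sq_ne h)) ?_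
  rw [inner_cuQ_cuQ, if_pos rfl, if_neg, add_zero]
  exact fun e => h (by rw [sq]; exact mul_eq_one_iff_eq_inv.2 e)

theorem psR_eq_iff {α β : MulChar F ℂ} : psR α = psR β ↔ α = β ∨ α = β⁻¹ := by
  constructor
  · intro h
    by_contra hne
    have e1 : classInner (psR α) (psR β) = classInner (psR β) (psR β) := by rw [h]
    rw [inner_psR_psR, inner_psR_psR, if_pos rfl, if_neg fun e => hne (Or.inl e),
      if_neg fun e => hne (Or.inr e)] at e1
    split_ifs at e1 <;> norm_num at e1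
  · rintro (rfl | rfl)
    · rfl
    · rw [psR_eq_comp β, psF_swap, psF_comp, one_mul]

theorem cuQ_eq_iff {φ ψ : ↥(normOne F) →* ℂˣ} : cuQ φ = cuQ ψ ↔ φ = ψ ∨ φ = ψ⁻¹ := by
  constructor
  · intro h
    by_contra hne
    have e1 : classInner (cuQ φ) (cuQ ψ) = classInner (cuQ ψ) (cuQ ψ) := by rw [h]
    rw [inner_cuQ_cuQ, inner_cuQ_cuQ, if_pos rfl, if_neg fun e => hne (Or.inl e),
      if_neg fun e => hne (Or.inr e)] at e1
    split_ifs at e1 <;> norm_num at e1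
  · rintro (rfl | rfl)
    · rfl
    · rw [← res1_lift1 ψ, ← res1_inv, cuQ_res1, cuR_inv, cuQ_res1]

/-- Irreducible principal series. -/
noncomputable def psSet1 (F : Type u) [Field F] [Fintype F] [DecidableEq F] : Finset (SL(2, F) → ℂ) :=
  ((Finset.univ : Finset (MulChar F ℂ)).filter fun α => α ^ 2 ≠ 1).image psR

/-- Irreducible cuspidal characters of full degree. -/
noncomputable def cuSet1 (F : Type u) [Field F] [Fintype F] [DecidableEq F] : Finset (SL(2, F) → ℂ) :=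
  ((Finset.univ : Finset (↥(normOne F) →* ℂˣ)).filter fun φ => φ ^ 2 ≠ 1).image cuQ

theorem mem_psSet1 {f : SL(2, F) → ℂ} : f ∈ psSet1 F ↔ ∃ α, α ^ 2 ≠ 1 ∧ psR α = f := by simp [psSet1]

theorem mem_cuSet1 {f : SL(2, F) → ℂ} : f ∈ cuSet1 F ↔ ∃ φ, φ ^ 2 ≠ 1 ∧ cuQ φ = f := by simp [cuSet1]

/-- The characters that are not halves. -/
noncomputable def baseSet (F : Type u) [Field F] [Fintype F] [DecidableEq F] : Finset (SL(2, F) → ℂ) :=
  {oneR F, stR F} ∪ psSet1 F ∪ cuSet1 F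

theorem mem_baseSet {f : SL(2, F) → ℂ} :
    f ∈ baseSet F ↔ f = oneR F ∨ f = stR F ∨ f ∈ psSet1 F ∨ f ∈ cuSet1 F := by
  simp [baseSet, or_assoc]

theorem two_mul_card_psSet1 : 2 * (psSet1 F).card + Nat.gcd (q - 1) 2 = q - 1 := by
  rw [psSet1, card_image_two _ _ (fun α => α⁻¹)]
  · have := card_sq_ne_one (A := MulChar F ℂ)
    rw [card_mulChar] at this
    exact this
  · intro α h
    simp only [Finset.mem_filter, Finset.mem_univ, true_and, inv_pow, ne_eq, inv_eq_one] at h ⊢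
    exact ⟨h, fun e => h (by rw [sq]; exact mul_eq_one_iff_eq_inv.2 e.symm)⟩
  · intro a _ b _
    exact psR_eq_iff

theorem two_mul_card_cuSet1 : 2 * (cuSet1 F).card + Nat.gcd (q + 1) 2 = q + 1 := by
  rw [cuSet1, card_image_two _ _ (fun φ => φ⁻¹)]
  · have := card_sq_ne_one (A := ↥(normOne F) →* ℂˣ)
    rw [card_normOneHom] at this
    exact this
  · intro φ h
    simp only [Finset.mem_filter, Finset.mem_univ, true_and, ne_eq] at h ⊢
    exact ⟨fun e => h (inv_eq_one.1 ((inv_pow φ 2).symm.trans e)),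
      fun e => h (by rw [sq]; exact mul_eq_one_iff_eq_inv.2 e.symm)⟩
  · intro a _ b _
    exact cuQ_eq_iff

theorem irr_of_mem_baseSet {f : SL(2, F) → ℂ} (h : f ∈ baseSet F) : IsIrrCharacter SL(2, F) f := by
  rcases mem_baseSet.1 h with rfl | rfl | h | h
  · exact irr_oneR
  · exact irr_stR
  · obtain ⟨α, hα, rfl⟩ := mem_psSet1.1 h; exact irr_psR hα
  · obtain ⟨φ, hφ, rfl⟩ := mem_cuSet1.1 h; exact irr_cuQ hφ

theorem inner_oneR_cuQ {φ : ↥(normOne F) →* ℂˣ} (h : φ ≠ 1) : classInner (oneR F) (cuQ φ) = 0 :=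
  inner_oneR_cuR (by rwa [res1_lift1])

theorem inner_stR_cuQ {φ : ↥(normOne F) →* ℂˣ} (h : φ ≠ 1) : classInner (stR F) (cuQ φ) = 0 :=
  inner_stR_cuR (by rwa [res1_lift1])

theorem sum_sq_baseSet :
    ∑ f ∈ baseSet F, f 1 ^ 2 = 1 + (q : ℂ) ^ 2 + ((psSet1 F).card : ℂ) * ((q : ℂ) + 1) ^ 2 +
      ((cuSet1 F).card : ℂ) * ((q : ℂ) - 1) ^ 2 := by
  have hne : oneR F ≠ stR F := ne_of_inner irr_oneR inner_oneR_stR
  have d1 : Disjoint ({oneR F, stR F} : Finset (SL(2, F) → ℂ)) (psSet1 F) := by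
    rw [Finset.disjoint_left]
    intro f h1 h2
    obtain ⟨α, hα, rfl⟩ := mem_psSet1.1 h2
    rcases Finset.mem_insert.1 h1 with h | h
    · exact ne_of_inner irr_oneR (by rw [inner_oneR_psR, if_neg (ne_one_of_sq_ne hα)]) h.symm
    · exact ne_of_inner irr_stR (by rw [inner_stR_psR, if_neg (ne_one_of_sq_ne hα)]) (Finset.mem_singleton.1 h).symm
  have d2 : Disjoint ({oneR F, stR F} ∪ psSet1 F) (cuSet1 F) := by
    rw [Finset.disjoint_left]
    intro f h1 h2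
    obtain ⟨φ, hφ, rfl⟩ := mem_cuSet1.1 h2
    rcases Finset.mem_union.1 h1 with h1 | h1
    · rcases Finset.mem_insert.1 h1 with h | h
      · exact ne_of_inner irr_oneR (inner_oneR_cuQ (ne_one_of_sq_ne hφ)) h.symm
      · exact ne_of_inner irr_stR (inner_stR_cuQ (ne_one_of_sq_ne hφ)) (Finset.mem_singleton.1 h).symm
    · obtain ⟨α, hα, h⟩ := mem_psSet1.1 h1
      exact ne_of_inner (irr_psR hα) (inner_psR_cuR α (lift1 φ)) h
  have e1 : ∀ f ∈ psSet1 F, f 1 ^ 2 = ((q : ℂ) + 1) ^ 2 := fun f hf => by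
    obtain ⟨α, hα, rfl⟩ := mem_psSet1.1 hf
    rw [psR_one]; push_cast; rfl
  have e2 : ∀ f ∈ cuSet1 F, f 1 ^ 2 = ((q : ℂ) - 1) ^ 2 := fun f hf => by
    obtain ⟨φ, hφ, rfl⟩ := mem_cuSet1.1 hf
    rw [cuQ, cuR_one, Nat.cast_sub Fintype.card_pos, Nat.cast_one]
  rw [baseSet, Finset.sum_union d2, Finset.sum_union d1, Finset.sum_pair hne, oneR_one, stR_one,
    Finset.sum_congr rfl e1, Finset.sum_congr rfl e2, Finset.sum_const, Finset.sum_const, nsmul_eq_mul, nsmul_eq_mul,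
    Nat.cast_one, one_pow]

theorem isIrr_sl_even (he : Even q) (f : SL(2, F) → ℂ) : IsIrrCharacter SL(2, F) f ↔ f ∈ baseSet F := by
  refine ⟨fun h => mem_of_sum_sq (fun _ => irr_of_mem_baseSet) ?_ h, irr_of_mem_baseSet⟩
  have h2 := two_le_q (F := F)
  have h1 := two_mul_card_psSet1 (F := F)
  have h3 := two_mul_card_cuSet1 (F := F)
  obtain ⟨m, hm⟩ := he
  rw [(Nat.coprime_two_right.2 ⟨m - 1, by omega⟩ : Nat.Coprime (q - 1) 2)] at h1
  rw [(Nat.coprime_two_right.2 ⟨m, by omega⟩ : Nat.Coprime (q + 1) 2)] at h3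
  have hA : 2 * ((psSet1 F).card : ℂ) + 2 = (q : ℂ) := by
    have : 2 * (psSet1 F).card + 2 = q := by omega
    exact_mod_cast this
  have hB : 2 * ((cuSet1 F).card : ℂ) = (q : ℂ) := by
    have : 2 * (cuSet1 F).card = q := by omega
    exact_mod_cast this
  rw [sum_sq_baseSet, card_sl_cast]
  linear_combination (((q : ℂ) + 1) ^ 2 / 2) * hA + (((q : ℂ) - 1) ^ 2 / 2) * hB

theorem sl_horth_ps {α : MulChar F ℂ} (h1 : α ≠ 1) (h2 : α ^ 2 = 1) (Φ : GL (Fin 2) F → ℂ)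
    (hΦ : IsIrrCharacter (GL (Fin 2) F) Φ) :
    Φ ∘ Matrix.SpecialLinearGroup.toGL = psR α ∨
      classInner (Φ ∘ Matrix.SpecialLinearGroup.toGL) (psR α) = 0 := by
  have hinv : α⁻¹ = α := inv_eq_of_mul_eq_one_right (by rw [← sq]; exact h2)
  rcases gl_cases hΦ with ⟨l, rfl⟩ | ⟨l, rfl⟩ | ⟨a, b, -, rfl⟩ | ⟨θ, -, rfl⟩
  · right; rw [linF_comp, inner_oneR_psR, if_neg h1]
  · right; rw [stF_comp, inner_stR_psR, if_neg h1]
  · rw [psF_comp]
    by_cases h : a * b⁻¹ = α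
    · exact Or.inl (by rw [h])
    · right; rw [inner_psR_psR, hinv, if_neg h, add_zero]
  · right
    rw [cuF_comp, ← classInner_conj_symm, inner_psR_cuR, map_zero]

theorem sl_horth_cu {φ : ↥(normOne F) →* ℂˣ} (h1 : φ ≠ 1) (h2 : φ ^ 2 = 1) (Φ : GL (Fin 2) F → ℂ)
    (hΦ : IsIrrCharacter (GL (Fin 2) F) Φ) :
    Φ ∘ Matrix.SpecialLinearGroup.toGL = cuQ φ ∨
      classInner (Φ ∘ Matrix.SpecialLinearGroup.toGL) (cuQ φ) = 0 := by
  have hinv : φ⁻¹ = φ := (mul_eq_one_iff_eq_inv.1 ((sq φ).symm.trans h2)).symm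
  rcases gl_cases hΦ with ⟨l, rfl⟩ | ⟨l, rfl⟩ | ⟨a, b, -, rfl⟩ | ⟨θ, -, rfl⟩
  · right; rw [linF_comp, inner_oneR_cuQ h1]
  · right; rw [stF_comp, inner_stR_cuQ h1]
  · right; rw [psF_comp, cuQ, inner_psR_cuR]
  · rw [cuF_comp, ← cuQ_res1]
    by_cases h : res1 θ = φ
    · exact Or.inl (by rw [h])
    · right; rw [inner_cuQ_cuQ, hinv, if_neg h, add_zero]

/-- The data of the four halves. -/
structure HalfData (F : Type u) [Field F] [Fintype F] [DecidableEq F] where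
  ν : Fˣ
  hν : ¬ IsSquare (ν : F)
  hchar : ringChar F ≠ 2
  α0 : MulChar F ℂ
  α0_ne : α0 ≠ 1
  α0_sq : α0 ^ 2 = 1
  α0_unique : ∀ β : MulChar F ℂ, β ^ 2 = 1 → β = 1 ∨ β = α0
  φ0 : ↥(normOne F) →* ℂˣ
  φ0_ne : φ0 ≠ 1
  φ0_sq : φ0 ^ 2 = 1
  φ0_unique : ∀ ψ : ↥(normOne F) →* ℂˣ, ψ ^ 2 = 1 → ψ = 1 ∨ ψ = φ0
  p1 : SL(2, F) → ℂ
  p2 : SL(2, F) → ℂ
  psplit : IsSplit (psR α0) ν p1 p2
  c1 : SL(2, F) → ℂ
  c2 : SL(2, F) → ℂ
  csplit : IsSplit (cuQ φ0) ν c1 c2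

theorem ringChar_ne_two (hodd : Odd q) : ringChar F ≠ 2 := fun h => by
  have := FiniteField.even_card_iff_char_two.1 h
  rw [Nat.odd_iff] at hodd
  omega

theorem exists_halfData (hodd : Odd q) : Nonempty (HalfData F) := by
  have hch := ringChar_ne_two hodd
  obtain ⟨ν, hν⟩ := FiniteField.exists_nonsquare hch
  have hν0 : ν ≠ 0 := fun e => hν (e ▸ IsSquare.zero)
  obtain ⟨m, hm⟩ := hodd
  obtain ⟨α, ha, hb, hc⟩ := exists_invol (A := MulChar F ℂ) (by rw [card_mulChar]; exact ⟨m, by omega⟩)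
  obtain ⟨φ, hd, he, hf⟩ := exists_invol (A := ↥(normOne F) →* ℂˣ) (by rw [card_normOneHom]; exact ⟨m + 1, by omega⟩)
  have hai : α⁻¹ = α := inv_eq_of_mul_eq_one_right (by rw [← sq]; exact ha)
  have hdi : φ⁻¹ = φ := (mul_eq_one_iff_eq_inv.1 ((sq φ).symm.trans hd)).symm
  obtain ⟨p1, p2, hp⟩ := exists_split (isCharacter_psR α)
    (by rw [inner_psR_psR, hai, if_pos rfl]; norm_num) (fun x g => sF_cj _ _ x g) (Units.mk0 ν hν0) hν
    (sl_horth_ps hb ha)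
  obtain ⟨c1, c2, hq⟩ := exists_split (isCharacter_cuQ he)
    (by rw [inner_cuQ_cuQ, hdi, if_pos rfl]; norm_num) (fun x g => sF_cj _ _ x g) (Units.mk0 ν hν0) hν
    (sl_horth_cu he hd)
  exact ⟨⟨Units.mk0 ν hν0, hν, hch, α, hb, ha, hc, φ, he, hd, hf, p1, p2, hp, c1, c2, hq⟩⟩

theorem IsSplit.inner_self {π : SL(2, F) → ℂ} {ν : Fˣ} {χ ψ : SL(2, F) → ℂ} (h : IsSplit π ν χ ψ) :
    classInner π χ = 1 := by
  rw [h.eq, classInner_add_left, classInner_irr_self h.irr, classInner_irr_ne h.irr' h.irr h.ne.symm, add_zero]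

theorem IsSplit.ne_of_orth {π : SL(2, F) → ℂ} {ν : Fˣ} {χ ψ X : SL(2, F) → ℂ} (h : IsSplit π ν χ ψ)
    (hX : classInner π X = 0) : χ ≠ X := by
  rintro rfl
  rw [h.inner_self] at hX
  exact one_ne_zero hX

/-- The halves. -/
noncomputable def HalfData.halfSet (D : HalfData F) : Finset (SL(2, F) → ℂ) := {D.p1, D.p2, D.c1, D.c2}

theorem HalfData.mem_halfSet (D : HalfData F) {f : SL(2, F) → ℂ} :
    f ∈ D.halfSet ↔ f = D.p1 ∨ f = D.p2 ∨ f = D.c1 ∨ f = D.c2 := by simp [HalfData.halfSet]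

theorem HalfData.ps_ne_cu (D : HalfData F) {χ ψ χ' ψ' : SL(2, F) → ℂ} (h : IsSplit (psR D.α0) D.ν χ ψ)
    (h' : IsSplit (cuQ D.φ0) D.ν χ' ψ') : χ ≠ χ' := by
  refine h.ne_of_orth ?_
  exact (inner_eq_zero_of_add (isCharacter_psR _) h'.irr.isCharacter h'.irr'.isCharacter
    (by rw [← h'.eq, cuQ, inner_psR_cuR])).1

theorem HalfData.card_halfSet (D : HalfData F) :
    D.p1 ≠ D.p2 ∧ D.p1 ≠ D.c1 ∧ D.p1 ≠ D.c2 ∧ D.p2 ≠ D.c1 ∧ D.p2 ≠ D.c2 ∧ D.c1 ≠ D.c2 :=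
  ⟨D.psplit.ne, D.ps_ne_cu D.psplit D.csplit, D.ps_ne_cu D.psplit D.csplit.symm,
    D.ps_ne_cu D.psplit.symm D.csplit, D.ps_ne_cu D.psplit.symm D.csplit.symm, D.csplit.ne⟩

theorem HalfData.disjoint (D : HalfData F) : Disjoint (baseSet F) D.halfSet := by
  rw [Finset.disjoint_left]
  intro f hf hh
  have hp : classInner (psR D.α0) f = 0 := by
    rcases mem_baseSet.1 hf with rfl | rfl | h | h
    · rw [inner_psR_oneR, if_neg D.α0_ne]
    · rw [← classInner_conj_symm, inner_stR_psR, if_neg D.α0_ne, map_zero]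
    · obtain ⟨α, hα, rfl⟩ := mem_psSet1.1 h
      have hα' : D.α0 ≠ α := fun e => hα (e ▸ D.α0_sq)
      have hα'' : D.α0 ≠ α⁻¹ := fun e => hα (by rw [← inv_inv α, ← e, inv_pow, D.α0_sq, inv_one])
      rw [inner_psR_psR, if_neg hα', if_neg hα'', add_zero]
    · obtain ⟨φ, hφ, rfl⟩ := mem_cuSet1.1 h
      rw [cuQ, inner_psR_cuR]
  have hc : classInner (cuQ D.φ0) f = 0 := by
    rcases mem_baseSet.1 hf with rfl | rfl | h | h
    · rw [← classInner_conj_symm, inner_oneR_cuQ D.φ0_ne, map_zero]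
    · rw [← classInner_conj_symm, inner_stR_cuQ D.φ0_ne, map_zero]
    · obtain ⟨α, hα, rfl⟩ := mem_psSet1.1 h
      rw [← classInner_conj_symm, cuQ, inner_psR_cuR, map_zero]
    · obtain ⟨φ, hφ, rfl⟩ := mem_cuSet1.1 h
      have hφ' : D.φ0 ≠ φ := fun e => hφ (e ▸ D.φ0_sq)
      have hφ'' : D.φ0 ≠ φ⁻¹ := fun e => hφ (inv_eq_one.1
        ((inv_pow φ 2).symm.trans (by rw [← e, D.φ0_sq])))
      rw [inner_cuQ_cuQ, if_neg hφ', if_neg hφ'', add_zero]
  rcases D.mem_halfSet.1 hh with e | e | e | e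
  · exact D.psplit.ne_of_orth hp e.symm
  · exact D.psplit.symm.ne_of_orth hp e.symm
  · exact D.csplit.ne_of_orth hc e.symm
  · exact D.csplit.symm.ne_of_orth hc e.symm

theorem HalfData.ps_degree (D : HalfData F) {χ ψ : SL(2, F) → ℂ} (h : IsSplit (psR D.α0) D.ν χ ψ) :
    χ 1 = ((q : ℂ) + 1) / 2 := by
  have := h.apply_one
  rw [psR_one, Nat.cast_add, Nat.cast_one] at this
  linear_combination (1 / 2 : ℂ) * this

theorem HalfData.cu_degree (D : HalfData F) {χ ψ : SL(2, F) → ℂ} (h : IsSplit (cuQ D.φ0) D.ν χ ψ) :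
    χ 1 = ((q : ℂ) - 1) / 2 := by
  have := h.apply_one
  rw [cuQ, cuR_one, Nat.cast_sub Fintype.card_pos, Nat.cast_one] at this
  linear_combination (1 / 2 : ℂ) * this

theorem isIrr_sl_odd (D : HalfData F) (f : SL(2, F) → ℂ) :
    IsIrrCharacter SL(2, F) f ↔ f ∈ baseSet F ∪ D.halfSet := by
  have hirr : ∀ g ∈ baseSet F ∪ D.halfSet, IsIrrCharacter SL(2, F) g := by
    intro g hg
    rcases Finset.mem_union.1 hg with hg | hg
    · exact irr_of_mem_baseSet hg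
    · rcases D.mem_halfSet.1 hg with rfl | rfl | rfl | rfl
      exacts [D.psplit.irr, D.psplit.irr', D.csplit.irr, D.csplit.irr']
  refine ⟨fun h => mem_of_sum_sq hirr ?_ h, hirr f⟩
  obtain ⟨n1, n2, n3, n4, n5, n6⟩ := D.card_halfSet
  have hA := two_mul_card_psSet1 (F := F)
  have hB := two_mul_card_cuSet1 (F := F)
  have hodd : q % 2 = 1 := FiniteField.odd_card_of_char_ne_two D.hchar
  have h2 := two_le_q (F := F)
  rw [Nat.gcd_eq_right (Nat.dvd_of_mod_eq_zero (by omega : (q - 1) % 2 = 0))] at hA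
  rw [Nat.gcd_eq_right (Nat.dvd_of_mod_eq_zero (by omega : (q + 1) % 2 = 0))] at hB
  have hA' : 2 * ((psSet1 F).card : ℂ) + 3 = (q : ℂ) := by
    have : 2 * (psSet1 F).card + 3 = q := by omega
    exact_mod_cast this
  have hB' : 2 * ((cuSet1 F).card : ℂ) + 1 = (q : ℂ) := by
    have : 2 * (cuSet1 F).card + 1 = q := by omega
    exact_mod_cast this
  rw [Finset.sum_union D.disjoint, sum_sq_baseSet, HalfData.halfSet,
    Finset.sum_insert (by simp [n1, n2, n3]), Finset.sum_insert (by simp [n4, n5]), Finset.sum_pair n6,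
    D.ps_degree D.psplit, D.ps_degree D.psplit.symm, D.cu_degree D.csplit, D.cu_degree D.csplit.symm, card_sl_cast]
  linear_combination (((q : ℂ) + 1) ^ 2 / 2) * hA' + (((q : ℂ) - 1) ^ 2 / 2) * hB'

/-- Being a half of `π`. -/
def IsHalf (π χ : SL(2, F) → ℂ) : Prop := ∃ (ν : Fˣ) (ψ : SL(2, F) → ℂ), ¬ IsSquare (ν : F) ∧ IsSplit π ν χ ψ

/-- The list of the irreducible characters of `SL₂`. -/
theorem sl_cases {χ : SL(2, F) → ℂ} (hχ : IsIrrCharacter SL(2, F) χ) :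
    χ = oneR F ∨ χ = stR F ∨ (∃ α : MulChar F ℂ, α ^ 2 ≠ 1 ∧ χ = psR α) ∨
      (∃ φ : ↥(normOne F) →* ℂˣ, φ ^ 2 ≠ 1 ∧ χ = cuQ φ) ∨
      (Odd q ∧ ∃ α : MulChar F ℂ, α ^ 2 = 1 ∧ α ≠ 1 ∧ IsHalf (psR α) χ) ∨
      (Odd q ∧ ∃ φ : ↥(normOne F) →* ℂˣ, φ ^ 2 = 1 ∧ φ ≠ 1 ∧ IsHalf (cuQ φ) χ) := by
  have base : ∀ {f : SL(2, F) → ℂ}, f ∈ baseSet F → f = oneR F ∨ f = stR F ∨
      (∃ α : MulChar F ℂ, α ^ 2 ≠ 1 ∧ f = psR α) ∨ (∃ φ : ↥(normOne F) →* ℂˣ, φ ^ 2 ≠ 1 ∧ f = cuQ φ) := by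
    intro f hf
    rcases mem_baseSet.1 hf with h | h | h | h
    · exact Or.inl h
    · exact Or.inr (Or.inl h)
    · obtain ⟨a, ha, rfl⟩ := mem_psSet1.1 h; exact Or.inr (Or.inr (Or.inl ⟨a, ha, rfl⟩))
    · obtain ⟨a, ha, rfl⟩ := mem_cuSet1.1 h; exact Or.inr (Or.inr (Or.inr ⟨a, ha, rfl⟩))
  rcases Nat.even_or_odd q with he | ho
  · rcases base ((isIrr_sl_even he χ).1 hχ) with h | h | h | h
    exacts [Or.inl h, Or.inr (Or.inl h), Or.inr (Or.inr (Or.inl h)), Or.inr (Or.inr (Or.inr (Or.inl h)))]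
  obtain ⟨D⟩ := exists_halfData ho
  rcases Finset.mem_union.1 ((isIrr_sl_odd D χ).1 hχ) with h | h
  · rcases base h with h | h | h | h
    exacts [Or.inl h, Or.inr (Or.inl h), Or.inr (Or.inr (Or.inl h)), Or.inr (Or.inr (Or.inr (Or.inl h)))]
  · right; right; right; right
    rcases D.mem_halfSet.1 h with rfl | rfl | rfl | rfl
    · exact Or.inl ⟨ho, _, D.α0_sq, D.α0_ne, _, _, D.hν, D.psplit⟩
    · exact Or.inl ⟨ho, _, D.α0_sq, D.α0_ne, _, _, D.hν, D.psplit.symm⟩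
    · exact Or.inr ⟨ho, _, D.φ0_sq, D.φ0_ne, _, _, D.hν, D.csplit⟩
    · exact Or.inr ⟨ho, _, D.φ0_sq, D.φ0_ne, _, _, D.hν, D.csplit.symm⟩

theorem IsHalf.degree_ps {α : MulChar F ℂ} {χ : SL(2, F) → ℂ} (h : IsHalf (psR α) χ) (hodd : Odd q) :
    χ 1 = (((q + 1) / 2 : ℕ) : ℂ) := by
  obtain ⟨ν, ψ, -, hs⟩ := h
  have := hs.apply_one
  obtain ⟨m, hm⟩ := hodd
  rw [psR_one, show q + 1 = 2 * ((q + 1) / 2) by omega, Nat.cast_mul] at this
  exact mul_left_cancel₀ two_ne_zero this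

theorem IsHalf.degree_cu {φ : ↥(normOne F) →* ℂˣ} {χ : SL(2, F) → ℂ} (h : IsHalf (cuQ φ) χ) (hodd : Odd q) :
    χ 1 = (((q - 1) / 2 : ℕ) : ℂ) := by
  obtain ⟨ν, ψ, -, hs⟩ := h
  have := hs.apply_one
  obtain ⟨m, hm⟩ := hodd
  rw [cuQ, cuR_one, show q - 1 = 2 * ((q - 1) / 2) by omega, Nat.cast_mul] at this
  exact mul_left_cancel₀ two_ne_zero this

end Cfsg.Lib.TwoDim
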