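import Cfsg.Agent.Lib.TwoDim.Normalizers

/-!
# Sylow subgroups of `SL₂` inside the tori
-/

set_option autoImplicit false
set_option linter.unusedSectionVars false

namespace Cfsg.Lib.TwoDim

open Finset Matrix Cfsg
open scoped MatrixGroups

universe u v

theorem centralizer_map_equiv {G H : Type*} [Group G] [Group H] (e : G ≃* H) (P : Subgroup G) :
    Subgroup.centralizer ((P.map e.toMonoidHom : Subgroup H) : Set H) =
      (Subgroup.centralizer (P : Set G)).map e.toMonoidHom := by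
  ext y
  obtain ⟨x, rfl⟩ := e.surjective y
  rw [Subgroup.mem_centralizer_iff]
  constructor
  · intro h
    refine ⟨x, ?_, rfl⟩
    rw [SetLike.mem_coe, Subgroup.mem_centralizer_iff]
    intro p hp
    apply e.injective
    rw [map_mul, map_mul]
    exact h (e p) ⟨p, hp, rfl⟩
  · rintro ⟨x', hx', he⟩ _ ⟨p, hp, rfl⟩
    rw [SetLike.mem_coe, Subgroup.mem_centralizer_iff] at hx'
    rw [← he]
    show e p * e x' = e x' * e p
    rw [← map_mul, ← map_mul, hx' p hp]

theorem card_centralizer_map {G : Type*} [Group G] (e : G ≃* G) (P : Subgroup G) :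
    Nat.card ↥(Subgroup.centralizer ((P.map e.toMonoidHom : Subgroup G) : Set G)) =
      Nat.card ↥(Subgroup.centralizer (P : Set G)) := by
  rw [centralizer_map_equiv, Subgroup.card_map_of_injective (f := e.toMonoidHom) e.injective]

theorem card_normalizer_map {G : Type*} [Group G] (e : G ≃* G) (P : Subgroup G) :
    Nat.card ↥(Subgroup.normalizer ((P.map e.toMonoidHom : Subgroup G) : Set G)) =
      Nat.card ↥(Subgroup.normalizer (P : Set G)) := by
  rw [← Subgroup.map_equiv_normalizer_eq, Subgroup.card_map_of_injective (f := e.toMonoidHom) e.injective]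

variable {F : Type u} [Field F] [Fintype F] {A : Type v} [CommGroup A] [Finite A] {ι : A →* SL(2, F)}
  {w : SL(2, F)}

local notation "q" => Fintype.card F

/-- The Sylow subgroup of the torus, as a subgroup of `SL₂`. -/
noncomputable def torusSylow (ι : A →* SL(2, F)) (ℓ : ℕ) [Fact ℓ.Prime] : Subgroup SL(2, F) :=
  ((default : Sylow ℓ A) : Subgroup A).map ι

theorem IsTorus.card_torusSylow (h : IsTorus ι w) (ℓ : ℕ) [Fact ℓ.Prime] :
    Nat.card ↥(torusSylow ι ℓ) = ℓ ^ (Nat.card A).factorization ℓ := by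
  rw [torusSylow, Subgroup.card_map_of_injective h.inj, Sylow.card_eq_multiplicity]

theorem IsTorus.exists_reg_sylow (h : IsTorus ι w) {ℓ : ℕ} [Fact ℓ.Prime] (hℓ : ℓ ≠ 2) (hdvd : ℓ ∣ Nat.card A) :
    ∃ a : A, a ^ 2 ≠ 1 ∧ ι a ∈ torusSylow ι ℓ := by
  obtain ⟨a, ha⟩ := exists_prime_orderOf_dvd_card' ℓ hdvd
  refine ⟨a, fun e => ?_, ⟨a, ?_, rfl⟩⟩
  · have := Nat.le_of_dvd two_pos (ha ▸ orderOf_dvd_of_pow_eq_one e)
    have := (Fact.out : ℓ.Prime).two_le
    omega
  · obtain ⟨Q, hQ⟩ := (IsPGroup.of_card (p := ℓ) (n := 1) (G := Subgroup.zpowers a)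
      (by rw [Nat.card_zpowers, ha, pow_one])).exists_le_sylow
    have : Q = default := by
      have hu := Sylow.unique_of_normal Q inferInstance
      exact (hu.uniq Q).trans (hu.uniq default).symm
    exact this ▸ hQ (Subgroup.mem_zpowers a)

theorem IsTorus.centralizer_torusSylow (h : IsTorus ι w) {ℓ : ℕ} [Fact ℓ.Prime] (hℓ : ℓ ≠ 2)
    (hdvd : ℓ ∣ Nat.card A) :
    Subgroup.centralizer (torusSylow ι ℓ : Set SL(2, F)) = ι.range := by
  obtain ⟨a, ha, hm⟩ := h.exists_reg_sylow hℓ hdvd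
  refine le_antisymm ((Subgroup.centralizer_le (Set.singleton_subset_iff.2 hm)).trans_eq (h.centralizer_singleton ha))
    (h.centralizer_range.symm.le.trans (Subgroup.centralizer_le ?_))
  rintro _ ⟨b, -, rfl⟩
  exact ⟨b, rfl⟩

theorem IsTorus.normalizer_torusSylow (h : IsTorus ι w) {ℓ : ℕ} [Fact ℓ.Prime] (hℓ : ℓ ≠ 2)
    (hdvd : ℓ ∣ Nat.card A) :
    Subgroup.normalizer (torusSylow ι ℓ : Set SL(2, F)) = Subgroup.normalizer (ι.range : Set SL(2, F)) := by
  refine le_antisymm (fun g hg => ?_) (fun g hg => ?_)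
  · rw [Subgroup.mem_normalizer_iff] at hg ⊢
    intro x
    rw [← h.centralizer_torusSylow hℓ hdvd, Subgroup.mem_centralizer_iff, Subgroup.mem_centralizer_iff]
    constructor
    · intro hx p hp
      have hp' : g⁻¹ * p * g ∈ torusSylow ι ℓ := (hg _).2 (by
        rw [show g * (g⁻¹ * p * g) * g⁻¹ = p by group]; exact hp)
      have := hx _ hp'
      calc p * (g * x * g⁻¹) = g * (g⁻¹ * p * g * x) * g⁻¹ := by group
        _ = g * x * g⁻¹ * p := by rw [this]; group
    · intro hx p hp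
      have := hx _ ((hg p).1 hp)
      calc p * x = g⁻¹ * (g * p * g⁻¹ * (g * x * g⁻¹)) * g := by group
        _ = x * p := by rw [this]; group
  · have h1 : ι.range ≤ Subgroup.normalizer (torusSylow ι ℓ : Set SL(2, F)) := by
      rw [← h.centralizer_torusSylow hℓ hdvd]
      exact Subgroup.centralizer_le_normalizer _
    rcases h.mem_normalizer.1 hg with hg | ⟨b, rfl⟩
    · exact h1 hg
    · refine Subgroup.mul_mem _ ?_ (h1 ⟨b, rfl⟩)
      rw [Subgroup.mem_normalizer_iff]
      intro x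
      constructor
      · rintro ⟨c, hc, rfl⟩
        exact ⟨c⁻¹, Subgroup.inv_mem _ hc, (h.inv c).symm⟩
      · rintro ⟨c, hc, hx⟩
        refine ⟨c⁻¹, Subgroup.inv_mem _ hc, ?_⟩
        rw [← mul_right_inj w, ← mul_left_inj w⁻¹, ← hx, h.inv, inv_inv]

theorem IsTorus.sylow_data (h : IsTorus ι w) {ℓ : ℕ} [Fact ℓ.Prime] (hℓ : ℓ ≠ 2) (hdvd : ℓ ∣ Nat.card A)
    (hcop : (Nat.card SL(2, F)).factorization ℓ = (Nat.card A).factorization ℓ) (P : Sylow ℓ SL(2, F)) :
    ∃ e : SL(2, F) ≃* SL(2, F), (P : Subgroup SL(2, F)) = (torusSylow ι ℓ).map e.toMonoidHom := by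
  have hc : Nat.card ↥(torusSylow ι ℓ) = ℓ ^ (Nat.card SL(2, F)).factorization ℓ := by
    rw [h.card_torusSylow, hcop]
  obtain ⟨g, hg⟩ := MulAction.exists_smul_eq SL(2, F) (Sylow.ofCard (torusSylow ι ℓ) hc) P
  refine ⟨MulAut.conj g, ?_⟩
  rw [← hg]
  rfl

theorem card_sl_factor : Nat.card SL(2, F) = q * (q - 1) * (q + 1) := by
  rw [Cfsg.Lib.Linear.Two.card_SL_two, mul_assoc, mul_comm (q - 1), ← Nat.sq_sub_sq, one_pow]

theorem sl_factorization_pm {ℓ : ℕ} (hℓ : ℓ.Prime) (h2 : ℓ ≠ 2) {n m : ℕ}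
    (hn : n * m = (q - 1) * (q + 1)) (hnm : n + 2 = m ∨ m + 2 = n) (hdvd : ℓ ∣ n) :
    (Nat.card SL(2, F)).factorization ℓ = n.factorization ℓ := by
  have hq1 : 2 ≤ q := Fintype.one_lt_card
  have hne : (q - 1) * (q + 1) ≠ 0 := Nat.mul_ne_zero (by omega) (by omega)
  have hm : ¬ ℓ ∣ m := fun h => by
    have h22 : ℓ ∣ 2 := by
      rcases hnm with e | e
      · have := Nat.dvd_sub h hdvd
        rwa [show m - n = 2 by omega] at this
      · have := Nat.dvd_sub hdvd h
        rwa [show n - m = 2 by omega] at this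
    exact h2 ((Nat.prime_dvd_prime_iff_eq hℓ Nat.prime_two).1 h22)
  have hq : ¬ ℓ ∣ q := fun h => by
    have h1 : ℓ ∣ (q - 1) * (q + 1) := hn ▸ hdvd.mul_right m
    rcases hℓ.dvd_mul.1 h1 with e | e
    · have := Nat.dvd_sub h e
      rw [show q - (q - 1) = 1 by omega] at this
      exact hℓ.not_dvd_one this
    · have := Nat.dvd_sub e h
      rw [show q + 1 - q = 1 by omega] at this
      exact hℓ.not_dvd_one this
  rw [card_sl_factor, mul_assoc, ← hn, Nat.factorization_mul (by omega) (hn ▸ hne),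
    Nat.factorization_mul (left_ne_zero_of_mul (hn ▸ hne)) (right_ne_zero_of_mul (hn ▸ hne)),
    Finsupp.add_apply, Finsupp.add_apply, Nat.factorization_eq_zero_of_not_dvd hq,
    Nat.factorization_eq_zero_of_not_dvd hm]
  simp

end Cfsg.Lib.TwoDim
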