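import Cfsg.Agent.Lib.TwoDim.GL

/-!
# Recognising the type of a two by two matrix
-/

set_option autoImplicit false
set_option linter.unusedSectionVars false

namespace Cfsg.Lib.TwoDim

open Finset Matrix Cfsg

universe u

variable {F : Type u} [Field F] [Fintype F] [DecidableEq F]

local notation "q" => Fintype.card F

theorem not_isSc_of_upper {M : M2 F} (h : M 0 1 ≠ 0) : ¬ IsSc M := fun hs => h hs.1

theorem not_isSc_of_diag {M : M2 F} (h : M 0 0 ≠ M 1 1) : ¬ IsSc M := fun hs => h hs.2.2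

theorem not_isSc_of_no_eigen {M : M2 F} (h : ∀ (c : F) (v : Fin 2 → F), v ≠ 0 → M.mulVec v ≠ c • v) : ¬ IsSc M := by
  intro hs
  obtain ⟨c, rfl⟩ := isSc_iff.1 hs
  exact h c ![1, 0] (by simp) (by rw [Matrix.smul_mulVec, Matrix.one_mulVec])

theorem roots_of_no_eigen {M : M2 F} (h : ∀ (c : F) (v : Fin 2 → F), v ≠ 0 → M.mulVec v ≠ c • v) :
    roots M.trace M.det = ∅ := by
  rw [Finset.eq_empty_iff_forall_notMem]
  intro a ha
  rw [mem_roots, Matrix.trace_fin_two, Matrix.det_fin_two] at ha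
  have h0 : (M - a • 1).det = 0 := by
    simp [Matrix.det_fin_two]
    linear_combination ha
  obtain ⟨v, hv, hv'⟩ := Matrix.exists_mulVec_eq_zero_iff.2 h0
  rw [Matrix.sub_mulVec, Matrix.smul_mulVec, Matrix.one_mulVec, sub_eq_zero] at hv'
  exact h a v hv hv'

theorem exists_outside_of_roots_empty {t d : F} (h : roots t d = ∅) :
    ∃ k : Quad F, k ∈ outside ∧ tr k = t ∧ nm k = d := by
  have : ((kroots t d).filter (· ∈ outside)).Nonempty := by
    rw [← Finset.card_pos, card_kroots_outside, if_pos (by rw [h, Finset.card_empty])]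
    norm_num
  obtain ⟨k, hk⟩ := this
  rw [Finset.mem_filter, mem_kroots] at hk
  exact ⟨k, hk.2, hk.1.1, hk.1.2⟩

theorem trace_det_diag {M : M2 F} (h : M 0 1 = 0) :
    M.trace = M 0 0 + M 1 1 ∧ M.det = M 0 0 * M 1 1 := by
  rw [Matrix.trace_fin_two, Matrix.det_fin_two, h, zero_mul, sub_zero]
  exact ⟨rfl, rfl⟩

theorem trace_det_upper {M : M2 F} (h : M 1 0 = 0) (he : M 0 0 = M 1 1) :
    M.trace = 2 * M 0 0 ∧ M.det = M 0 0 ^ 2 := by
  rw [Matrix.trace_fin_two, Matrix.det_fin_two, h, ← he, mul_zero, sub_zero]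
  exact ⟨(two_mul _).symm, (sq _).symm⟩

end Cfsg.Lib.TwoDim
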