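import Cfsg.Agent.Lib.TwoDim.SLClass
import Cfsg.Agent.Lib.TwoDim.Recognise

/-!
# Values of the irreducible characters of `SL₂`
-/

set_option autoImplicit false
set_option linter.unusedSectionVars false

namespace Cfsg.Lib.TwoDim

open Finset Matrix Cfsg Cfsg.Lib.Char
open scoped MatrixGroups ComplexConjugate

universe u

variable {F : Type u} [Field F] [Fintype F] [DecidableEq F]

local notation "q" => Fintype.card F

section Elements

theorem sF_diag (s : F → ℂ) (v : F → F → ℂ) {g : SL(2, F)} (h01 : (g : M2 F) 0 1 = 0)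
    (hne : (g : M2 F) 0 0 ^ 2 ≠ 1) :
    (g : M2 F) 0 0 ≠ 0 ∧ sF s v g = v ((g : M2 F) 0 0 + ((g : M2 F) 0 0)⁻¹) 1 := by
  obtain ⟨ht, hd⟩ := trace_det_diag h01
  rw [g.2] at hd
  have ha0 : (g : M2 F) 0 0 ≠ 0 := left_ne_zero_of_mul (hd ▸ one_ne_zero)
  have hinv : (g : M2 F) 1 1 = ((g : M2 F) 0 0)⁻¹ := eq_inv_of_mul_eq_one_right hd.symm
  refine ⟨ha0, ?_⟩
  rw [sF_apply, ofData_of_not (not_isSc_of_diag (hinv ▸ ne_inv_of_sq ha0 hne)), ht, g.2, hinv]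

theorem diag_trace_sq {g : SL(2, F)} (h01 : (g : M2 F) 0 1 = 0) (hne : (g : M2 F) 0 0 ^ 2 ≠ 1) :
    ¬ IsSc (g : M2 F) ∧ (g : M2 F).trace ^ 2 ≠ 4 := by
  obtain ⟨ht, hd⟩ := trace_det_diag h01
  rw [g.2] at hd
  have hne' : (g : M2 F) 0 0 ≠ (g : M2 F) 1 1 := fun e => hne (by rw [sq]; nth_rw 2 [e]; exact hd.symm)
  refine ⟨not_isSc_of_diag hne', fun h => hne' ?_⟩
  rw [ht] at h
  have : ((g : M2 F) 0 0 - (g : M2 F) 1 1) ^ 2 = 0 := by linear_combination h + 4 * hd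
  exact sub_eq_zero.1 ((pow_eq_zero_iff two_ne_zero).1 this)

theorem no_eigen_data {g : SL(2, F)} (h : ∀ (c : F) (v : Fin 2 → F), v ≠ 0 → (g : M2 F).mulVec v ≠ c • v) :
    ¬ IsSc (g : M2 F) ∧ roots (g : M2 F).trace 1 = ∅ ∧ (g : M2 F).trace ^ 2 ≠ 4 := by
  have hr := roots_of_no_eigen h
  rw [g.2] at hr
  refine ⟨not_isSc_of_no_eigen h, hr, fun h4 => ?_⟩
  rcases eq_or_eq_neg_of_sq_eq_sq _ (2 : F) (h4.trans (by norm_num)) with e | e
  · refine Finset.notMem_empty (1 : F) (hr ▸ ?_)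
    rw [mem_roots, e]; ring
  · refine Finset.notMem_empty (-1 : F) (hr ▸ ?_)
    rw [mem_roots, e]; ring

theorem sF_no_eigen (s : F → ℂ) (v : F → F → ℂ) {g : SL(2, F)}
    (h : ∀ (c : F) (w : Fin 2 → F), w ≠ 0 → (g : M2 F).mulVec w ≠ c • w) :
    sF s v g = v (g : M2 F).trace 1 := by
  rw [sF_apply, ofData_of_not (no_eigen_data h).1, g.2]

theorem psR_no_eigen (α : MulChar F ℂ) {g : SL(2, F)}
    (h : ∀ (c : F) (w : Fin 2 → F), w ≠ 0 → (g : M2 F).mulVec w ≠ c • w) : psR α g = 0 := by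
  rw [psR, sF_no_eigen _ _ h, psV, (no_eigen_data h).2.1, Finset.sum_empty]

theorem cuQ_diag (φ : ↥(normOne F) →* ℂˣ) {g : SL(2, F)} (h01 : (g : M2 F) 0 1 = 0)
    (hne : (g : M2 F) 0 0 ^ 2 ≠ 1) : cuQ φ g = 0 := by
  obtain ⟨h0, h⟩ := sF_diag (cuS (lift1 φ)) (cuV (lift1 φ)) h01 hne
  rw [cuQ, cuR, h, cuV_split_one h0 hne]

theorem psR_diag (α : MulChar F ℂ) {g : SL(2, F)} (h01 : (g : M2 F) 0 1 = 0)
    (hne : (g : M2 F) 0 0 ^ 2 ≠ 1) : psR α g = α ((g : M2 F) 0 0) + α ((g : M2 F) 0 0)⁻¹ := by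
  obtain ⟨h0, h⟩ := sF_diag (psS α 1) (psV α 1) h01 hne
  rw [psR, h, psV_one_split h0 hne]

theorem sF_upper (s : F → ℂ) (v : F → F → ℂ) {g : SL(2, F)} (h10 : (g : M2 F) 1 0 = 0)
    (he : (g : M2 F) 0 0 = (g : M2 F) 1 1) (h01 : (g : M2 F) 0 1 ≠ 0) :
    (g : M2 F) 0 0 ^ 2 = 1 ∧ sF s v g = v (2 * (g : M2 F) 0 0) 1 := by
  obtain ⟨ht, hd⟩ := trace_det_upper h10 he
  rw [g.2] at hd
  exact ⟨hd.symm, by rw [sF_apply, ofData_of_not (not_isSc_of_upper h01), ht, g.2]⟩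

theorem psR_unip (α : MulChar F ℂ) {g : SL(2, F)} (h10 : (g : M2 F) 1 0 = 0) (h00 : (g : M2 F) 0 0 = 1)
    (h11 : (g : M2 F) 1 1 = 1) (h01 : (g : M2 F) 0 1 ≠ 0) : psR α g = 1 := by
  obtain ⟨hc, h⟩ := sF_upper (psS α 1) (psV α 1) h10 (h00.trans h11.symm) h01
  rw [psR, h, psV_one_double hc, h00, map_one]

theorem cuQ_unip (φ : ↥(normOne F) →* ℂˣ) {g : SL(2, F)} (h10 : (g : M2 F) 1 0 = 0) (h00 : (g : M2 F) 0 0 = 1)
    (h11 : (g : M2 F) 1 1 = 1) (h01 : (g : M2 F) 0 1 ≠ 0) : cuQ φ g = -1 := by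
  obtain ⟨hc, h⟩ := sF_upper (cuS (lift1 φ)) (cuV (lift1 φ)) h10 (h00.trans h11.symm) h01
  rw [cuQ, cuR, h, cuV_double_one hc, h00, map_one, map_one]

theorem stR_unip {g : SL(2, F)} (h10 : (g : M2 F) 1 0 = 0) (he : (g : M2 F) 0 0 = (g : M2 F) 1 1)
    (h01 : (g : M2 F) 0 1 ≠ 0) : stR F g = 0 := by
  obtain ⟨hc, h⟩ := sF_upper (stS (1 : MulChar F ℂ)) (stV (1 : MulChar F ℂ)) h10 he h01
  rw [stR, h]
  conv_lhs => arg 3; rw [← hc]
  exact stV_double _ _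

theorem lift1_apply (φ : ↥(normOne F) →* ℂˣ) (k : ↥(normOne F)) :
    lift1 φ ((k : (Quad F)ˣ) : Quad F) = (φ k : ℂ) := by
  rw [← res1_apply, res1_lift1]

theorem mem_outside_of_normOne {k : ↥(normOne F)} (h : k ^ 2 ≠ 1) : ((k : (Quad F)ˣ) : Quad F) ∈ outside := by
  rw [mem_outside]
  intro e
  obtain ⟨c, hc⟩ := exists_inc_of_fixed e
  have hk := mem_normOne.1 k.2
  rw [← hc, nm_inc] at hk
  refine h (Subtype.ext (Units.ext ?_))
  rw [Subgroup.coe_pow, Units.val_pow_eq_pow_val, ← hc, ← map_pow, hk, map_one]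
  rfl

theorem sq_ne_one_of_outside (hchar : ringChar F ≠ 2) {k : ↥(normOne F)}
    (h : ((k : (Quad F)ˣ) : Quad F) ∈ outside) : k ^ 2 ≠ 1 := by
  intro e
  have e' := congrArg (fun x : ↥(normOne F) => ((x : (Quad F)ˣ) : Quad F)) e
  simp only [Subgroup.coe_pow, Units.val_pow_eq_pow_val, Subgroup.coe_one, Units.val_one] at e'
  rcases sq_eq_one_iff.1 e' with e'' | e''
  · exact inc_not_outside (1 : F) (by rw [map_one, ← e'']; exact h)
  · exact inc_not_outside (-1 : F) (by rw [map_neg, map_one, ← e'']; exact h)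

/-- The element of `SL₂` attached to a norm one element. -/
noncomputable def torusSL : ↥(normOne F) →* SL(2, F) where
  toFun k := ⟨(torusHom (k : (Quad F)ˣ) : M2 F), by rw [det_torus]; exact mem_normOne.1 k.2⟩
  map_one' := Subtype.ext (by simp)
  map_mul' a b := Subtype.ext (show (torusHom ((a * b : ↥(normOne F)) : (Quad F)ˣ) : M2 F) =
    (torusHom (a : (Quad F)ˣ) : M2 F) * (torusHom (b : (Quad F)ˣ) : M2 F) by
    rw [Subgroup.coe_mul, map_mul, Units.val_mul])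

theorem torusSL_coe (k : ↥(normOne F)) : (torusSL k : M2 F) = (torusHom (k : (Quad F)ˣ) : M2 F) := rfl

theorem torusSL_injective : Function.Injective (torusSL (F := F)) := fun a b h =>
  Subtype.ext (torusHom_injective (Units.ext (congrArg (fun x : SL(2, F) => (x : M2 F)) h)))

/-- Every elliptic element is conjugate under `GL₂` to an element of the torus. -/
theorem exists_torus {g : SL(2, F)} (h : ∀ (c : F) (v : Fin 2 → F), v ≠ 0 → (g : M2 F).mulVec v ≠ c • v) :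
    ∃ (k : ↥(normOne F)) (x : GL (Fin 2) F), ((k : (Quad F)ˣ) : Quad F) ∈ outside ∧ cj x (torusSL k) = g ∧
      (g : M2 F).trace = tr ((k : (Quad F)ˣ) : Quad F) := by
  obtain ⟨hs, hr, -⟩ := no_eigen_data h
  obtain ⟨k, hk, ht, hn⟩ := exists_outside_of_roots_empty hr
  set k' : ↥(normOne F) := ⟨Units.mk0 k (ne_zero_of_outside hk), mem_normOne.2 hn⟩ with hk'
  have hsc : ¬ IsSc (torusHom (k' : (Quad F)ˣ) : M2 F) := fun e => (isSc_torus _).1 e hk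
  obtain ⟨x, hx⟩ := isConj_iff.1 (isConj_of_tr_det (g := Matrix.SpecialLinearGroup.toGL (torusSL k'))
    (h := Matrix.SpecialLinearGroup.toGL g) hsc hs
    (by
      show (torusHom (k' : (Quad F)ˣ) : M2 F).trace = _
      rw [trace_torus]; exact ht)
    ((torusSL k').2.trans g.2.symm))
  rw [← toGL_cj] at hx
  exact ⟨k', x, hk, Subtype.ext (congrArg Units.val hx), ht.symm⟩

theorem cuQ_torus (φ : ↥(normOne F) →* ℂˣ) {k : ↥(normOne F)} (hk : ((k : (Quad F)ˣ) : Quad F) ∈ outside)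
    (x : GL (Fin 2) F) : cuQ φ (cj x (torusSL k)) = -((φ k : ℂ) + (φ k : ℂ)⁻¹) := by
  rw [cuQ, cuR, sF_cj, sF_apply, torusSL_coe, ofData_of_not (fun e => (isSc_torus _).1 e hk), trace_torus,
    det_torus, mem_normOne.1 k.2, cuV_elliptic_one hk (mem_normOne.1 k.2), ← MulChar.inv_apply',
    MulChar.inv_apply_eq_inv', lift1_apply]

end Elements

section Halves

theorem quadratic_cases {α : MulChar F ℂ} (h2 : α ^ 2 = 1) (h1 : α ≠ 1) {a : F} (ha : a ≠ 0) :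
    (IsSquare a → α a = 1) ∧ (¬ IsSquare a → α a = -1) := by
  have hsq : ∀ b : F, b ≠ 0 → α b ^ 2 = 1 := fun b hb => by
    rw [← MulChar.pow_apply' α two_ne_zero, h2, MulChar.one_apply (Ne.isUnit hb)]
  have hs : ∀ b : F, b ≠ 0 → IsSquare b → α b = 1 := by
    rintro _ hb ⟨r, rfl⟩
    rw [map_mul, ← sq, hsq r (left_ne_zero_of_mul hb)]
  refine ⟨hs a ha, fun hns => ?_⟩
  rcases sq_eq_one_iff.1 (hsq a ha) with e | e
  · exfalso
    refine h1 (MulChar.ext fun b => ?_)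
    rw [MulChar.one_apply_coe]
    by_cases hb : IsSquare (b : F)
    · exact hs _ b.ne_zero hb
    · have := hs ((b : F) * a) (mul_ne_zero b.ne_zero ha) (by
        rw [isSquare_mul_nonsquare hns b.ne_zero]; exact hb)
      rwa [map_mul, e, mul_one] at this
  · exact e

theorem invol_hom_cases {C : Type*} [CommGroup C] [IsCyclic C] [Finite C] {m : ℕ} (hm : Nat.card C = 2 * m)
    {φ : C →* ℂˣ} (h2 : φ ^ 2 = 1) (h1 : φ ≠ 1) (x : C) :
    (x ^ m = 1 → (φ x : ℂ) = 1) ∧ (x ^ m ≠ 1 → (φ x : ℂ) = -1) := by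
  obtain ⟨g, hg⟩ := IsCyclic.exists_zpow_surjective (G := C)
  have hsq : ∀ y, (φ y : ℂ) ^ 2 = 1 := fun y => by
    have := DFunLike.congr_fun h2 y
    rw [MonoidHom.one_apply] at this
    rw [← Units.val_pow_eq_pow_val, ← Units.val_one, ← this]
    simp [sq]
  have hgn : (φ g : ℂ) = -1 := by
    refine (sq_eq_one_iff.1 (hsq g)).resolve_left fun e => h1 (MonoidHom.ext fun y => ?_)
    obtain ⟨i, rfl⟩ := hg y
    show φ (g ^ i) = 1
    rw [map_zpow, Units.ext (e.trans Units.val_one.symm), _root_.one_zpow]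
  have hord : orderOf g = 2 * m := by
    rw [← hm]
    exact orderOf_eq_card_of_forall_mem_zpowers fun y => hg y
  have hm0 : (m : ℤ) ≠ 0 := by
    have := Nat.card_pos (α := C)
    omega
  obtain ⟨i, rfl⟩ := hg x
  show ((g ^ i) ^ m = 1 → (φ (g ^ i) : ℂ) = 1) ∧ ((g ^ i) ^ m ≠ 1 → (φ (g ^ i) : ℂ) = -1)
  have hiff : (g ^ i) ^ m = 1 ↔ Even i := by
    rw [← zpow_natCast, ← _root_.zpow_mul, ← orderOf_dvd_iff_zpow_eq_one, hord, even_iff_two_dvd, Nat.cast_mul]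
    exact mul_dvd_mul_iff_right hm0
  rw [hiff, map_zpow, Units.val_zpow_eq_zpow_val, hgn]
  exact ⟨fun h => h.neg_one_zpow, fun h => (Int.not_even_iff_odd.1 fun e => h (hiff.2 e)).neg_one_zpow⟩

theorem IsHalf.diag_ps {α : MulChar F ℂ} {χ : SL(2, F) → ℂ} (h : IsHalf (psR α) χ) (hchar : ringChar F ≠ 2)
    (h2 : α ^ 2 = 1) {g : SL(2, F)} (h01 : (g : M2 F) 0 1 = 0) (hne : (g : M2 F) 0 0 ^ 2 ≠ 1) :
    χ g = α ((g : M2 F) 0 0) := by
  obtain ⟨ν, ψ, -, hs⟩ := h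
  obtain ⟨hn, h4⟩ := diag_trace_sq h01 hne
  have := hs.regular hchar hn h4
  rw [psR_diag α h01 hne, ← MulChar.inv_apply' α,
    show α⁻¹ = α from inv_eq_of_mul_eq_one_right (by rw [← sq]; exact h2)] at this
  linear_combination (1 / 2 : ℂ) * this

theorem IsHalf.diag_cu {φ : ↥(normOne F) →* ℂˣ} {χ : SL(2, F) → ℂ} (h : IsHalf (cuQ φ) χ)
    (hchar : ringChar F ≠ 2) {g : SL(2, F)} (h01 : (g : M2 F) 0 1 = 0) (hne : (g : M2 F) 0 0 ^ 2 ≠ 1) :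
    χ g = 0 := by
  obtain ⟨ν, ψ, -, hs⟩ := h
  obtain ⟨hn, h4⟩ := diag_trace_sq h01 hne
  have := hs.regular hchar hn h4
  rw [cuQ_diag φ h01 hne] at this
  linear_combination (1 / 2 : ℂ) * this

theorem IsHalf.elliptic_ps {α : MulChar F ℂ} {χ : SL(2, F) → ℂ} (h : IsHalf (psR α) χ) (hchar : ringChar F ≠ 2)
    {g : SL(2, F)} (he : ∀ (c : F) (w : Fin 2 → F), w ≠ 0 → (g : M2 F).mulVec w ≠ c • w) : χ g = 0 := by
  obtain ⟨ν, ψ, -, hs⟩ := h
  obtain ⟨hn, -, h4⟩ := no_eigen_data he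
  have := hs.regular hchar hn h4
  rw [psR_no_eigen α he] at this
  linear_combination (1 / 2 : ℂ) * this

theorem IsHalf.elliptic_cu {φ : ↥(normOne F) →* ℂˣ} {χ : SL(2, F) → ℂ} (h : IsHalf (cuQ φ) χ)
    (hchar : ringChar F ≠ 2) (h2 : φ ^ 2 = 1) {g : SL(2, F)}
    (he : ∀ (c : F) (w : Fin 2 → F), w ≠ 0 → (g : M2 F).mulVec w ≠ c • w) {k : ↥(normOne F)}
    (hk : ((k : (Quad F)ˣ) : Quad F) ∈ outside) {x : GL (Fin 2) F} (hx : cj x (torusSL k) = g) :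
    χ g = -(φ k : ℂ) := by
  obtain ⟨ν, ψ, -, hs⟩ := h
  obtain ⟨hn, -, h4⟩ := no_eigen_data he
  have := hs.regular hchar hn h4
  have hinv : (φ k : ℂ)⁻¹ = φ k := by
    have e := DFunLike.congr_fun h2 k
    refine inv_eq_of_mul_eq_one_right ?_
    rw [← Units.val_mul, ← Units.val_one, show φ k * φ k = (φ ^ 2) k by simp [sq], h2, MonoidHom.one_apply]
  rw [← hx, cuQ_torus φ hk, hinv] at this
  rw [← hx]
  linear_combination (1 / 2 : ℂ) * this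

theorem neg_one_val_psR (α : MulChar F ℂ) : psR α (-1) = α (-1) * psR α 1 := by
  have h1 : sF (psS α 1) (psV α 1) (-1 : SL(2, F)) = psS α 1 (-1) := by
    rw [sF_apply, ofData, if_pos isSc_neg_one, Matrix.SpecialLinearGroup.coe_neg, Matrix.SpecialLinearGroup.coe_one]
    simp
  rw [psR, h1, sF_one, psS_one (neg_one_sq), psS_one (one_pow 2), map_one]
  ring

theorem neg_one_val_cuQ (φ : ↥(normOne F) →* ℂˣ) : cuQ φ (-1) = lift1 φ (inc (-1)) * cuQ φ 1 := by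
  have h1 : sF (cuS (lift1 φ)) (cuV (lift1 φ)) (-1 : SL(2, F)) = cuS (lift1 φ) (-1) := by
    rw [sF_apply, ofData, if_pos isSc_neg_one, Matrix.SpecialLinearGroup.coe_neg, Matrix.SpecialLinearGroup.coe_one]
    simp
  rw [cuQ, cuR, h1, sF_one, cuS, cuS, map_one, map_one]
  ring

theorem delta_eq (hodd : Odd q) : (if IsSquare (-1 : F) then 1 else -1 : ℂ) = (-1) ^ ((q - 1) / 2) := by
  obtain ⟨m, hm⟩ := hodd
  rw [show (q - 1) / 2 = m by omega]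
  split_ifs with h <;> rw [FiniteField.isSquare_neg_one_iff] at h
  · rw [(Nat.even_iff.2 (by omega) : Even m).neg_one_pow]
  · rw [(Nat.odd_iff.2 (by omega) : Odd m).neg_one_pow]

theorem IsSplit.at_uu_ps {α : MulChar F ℂ} {ν : Fˣ} {χ ψ : SL(2, F) → ℂ} (h : IsSplit (psR α) ν χ ψ)
    (hodd : Odd q) (hν : ¬ IsSquare (ν : F)) :
    χ (uu F) + ψ (uu F) = 1 ∧ (2 * χ (uu F) - 1) ^ 2 = (-1 : ℂ) ^ ((q - 1) / 2) * (q : ℂ) := by
  have hπ : χ (uu F) + ψ (uu F) = 1 := by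
    rw [← Pi.add_apply, ← h.eq]
    exact psR_unip α (by simp [uu_coe]) (by simp [uu_coe]) (by simp [uu_coe]) (by simp [uu_coe])
  refine ⟨hπ, ?_⟩
  have := h.sq_diff (ringChar_ne_two hodd) hν (neg_one_val_psR α) (norm_mulChar α (neg_ne_zero.2 one_ne_zero))
  rw [delta_eq hodd] at this
  rw [← this]
  linear_combination (3 * χ (uu F) - ψ (uu F) - 1) * hπ

theorem IsSplit.at_uu_cu {φ : ↥(normOne F) →* ℂˣ} {ν : Fˣ} {χ ψ : SL(2, F) → ℂ} (h : IsSplit (cuQ φ) ν χ ψ)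
    (hodd : Odd q) (hν : ¬ IsSquare (ν : F)) :
    χ (uu F) + ψ (uu F) = -1 ∧ (2 * χ (uu F) + 1) ^ 2 = (-1 : ℂ) ^ ((q - 1) / 2) * (q : ℂ) := by
  have hπ : χ (uu F) + ψ (uu F) = -1 := by
    rw [← Pi.add_apply, ← h.eq]
    exact cuQ_unip φ (by simp [uu_coe]) (by simp [uu_coe]) (by simp [uu_coe]) (by simp [uu_coe])
  refine ⟨hπ, ?_⟩
  have := h.sq_diff (ringChar_ne_two hodd) hν (neg_one_val_cuQ φ)
    (norm_mulChar (lift1 φ) ((map_ne_zero _).2 (neg_ne_zero.2 one_ne_zero)))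
  rw [delta_eq hodd] at this
  rw [← this]
  linear_combination (3 * χ (uu F) - ψ (uu F) + 1) * hπ

end Halves

section Degree

/-- The possibilities with their degrees, odd characteristic. -/
theorem odd_cases (D : HalfData F) {χ : SL(2, F) → ℂ} (hχ : IsIrrCharacter SL(2, F) χ) :
    (χ = oneR F ∧ χ 1 = ((1 : ℕ) : ℂ)) ∨ (χ = stR F ∧ χ 1 = ((q : ℕ) : ℂ)) ∨
      (χ ∈ psSet1 F ∧ χ 1 = ((q + 1 : ℕ) : ℂ)) ∨ (χ ∈ cuSet1 F ∧ χ 1 = ((q - 1 : ℕ) : ℂ)) ∨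
      ((χ = D.p1 ∨ χ = D.p2) ∧ χ 1 = (((q + 1) / 2 : ℕ) : ℂ)) ∨
      ((χ = D.c1 ∨ χ = D.c2) ∧ χ 1 = (((q - 1) / 2 : ℕ) : ℂ)) := by
  have hodd : Odd q := Nat.odd_iff.2 (FiniteField.odd_card_of_char_ne_two D.hchar)
  rcases Finset.mem_union.1 ((isIrr_sl_odd D χ).1 hχ) with h | h
  · rcases mem_baseSet.1 h with rfl | rfl | h | h
    · exact Or.inl ⟨rfl, oneR_one⟩
    · exact Or.inr (Or.inl ⟨rfl, stR_one⟩)
    · obtain ⟨a, ha, rfl⟩ := mem_psSet1.1 h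
      exact Or.inr (Or.inr (Or.inl ⟨h, psR_one a⟩))
    · obtain ⟨a, ha, rfl⟩ := mem_cuSet1.1 h
      exact Or.inr (Or.inr (Or.inr (Or.inl ⟨h, cuR_one _⟩)))
  · rcases D.mem_halfSet.1 h with rfl | rfl | rfl | rfl
    · exact Or.inr (Or.inr (Or.inr (Or.inr (Or.inl ⟨Or.inl rfl, IsHalf.degree_ps ⟨_, _, D.hν, D.psplit⟩ hodd⟩))))
    · exact Or.inr (Or.inr (Or.inr (Or.inr (Or.inl ⟨Or.inr rfl, IsHalf.degree_ps ⟨_, _, D.hν, D.psplit.symm⟩ hodd⟩))))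
    · exact Or.inr (Or.inr (Or.inr (Or.inr (Or.inr ⟨Or.inl rfl, IsHalf.degree_cu ⟨_, _, D.hν, D.csplit⟩ hodd⟩))))
    · exact Or.inr (Or.inr (Or.inr (Or.inr (Or.inr ⟨Or.inr rfl, IsHalf.degree_cu ⟨_, _, D.hν, D.csplit.symm⟩ hodd⟩))))

theorem HalfData.p_half (D : HalfData F) {χ : SL(2, F) → ℂ} (h : χ = D.p1 ∨ χ = D.p2) :
    IsHalf (psR D.α0) χ := by
  rcases h with rfl | rfl
  exacts [⟨_, _, D.hν, D.psplit⟩, ⟨_, _, D.hν, D.psplit.symm⟩]

theorem HalfData.c_half (D : HalfData F) {χ : SL(2, F) → ℂ} (h : χ = D.c1 ∨ χ = D.c2) :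
    IsHalf (cuQ D.φ0) χ := by
  rcases h with rfl | rfl
  exacts [⟨_, _, D.hν, D.csplit⟩, ⟨_, _, D.hν, D.csplit.symm⟩]

/-- For three elements, cuspidal characters of full degree vanish at elliptic elements. -/
theorem cuQ_three (hq : q = 3) {φ : ↥(normOne F) →* ℂˣ} (hφ : φ ^ 2 ≠ 1) {k : ↥(normOne F)}
    (hk : ((k : (Quad F)ˣ) : Quad F) ∈ outside) : (φ k : ℂ) + (φ k : ℂ)⁻¹ = 0 := by
  have hchar : ringChar F ≠ 2 := ringChar_ne_two (by rw [hq]; decide)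
  have hk2 := sq_ne_one_of_outside hchar hk
  have hcard : Nat.card ↥(normOne F) = 4 := by rw [card_normOne, hq]
  have hk4 : k ^ (2 * 2) = 1 := by
    have := pow_card_eq_one' (G := ↥(normOne F)) (x := k)
    rwa [hcard] at this
  have hord : orderOf k = Nat.card ↥(normOne F) := by
    rw [hcard]
    exact orderOf_eq_prime_pow (p := 2) (n := 1) (by simpa using hk2) (by simpa using hk4)
  have hgen : ∀ y : ↥(normOne F), y ∈ Subgroup.zpowers k := by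
    have htop : Subgroup.zpowers k = ⊤ := Subgroup.eq_top_of_card_eq _ (by rw [Nat.card_zpowers, hord])
    intro y; rw [htop]; exact Subgroup.mem_top y
  have hz4 : ((φ k : ℂ) ^ 2) ^ 2 = 1 := by
    rw [← pow_mul, ← Units.val_pow_eq_pow_val, ← map_pow, hk4, map_one, Units.val_one]
  have hz2 : (φ k : ℂ) ^ 2 = -1 := by
    refine (sq_eq_one_iff.1 hz4).resolve_left fun e => hφ (MonoidHom.ext fun y => ?_)
    obtain ⟨i, rfl⟩ := Subgroup.mem_zpowers_iff.1 (hgen y)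
    have e' : φ k ^ 2 = 1 := Units.ext (by rw [Units.val_pow_eq_pow_val, e, Units.val_one])
    rw [MonoidHom.pow_apply, MonoidHom.one_apply, map_zpow, ← zpow_natCast, ← _root_.zpow_mul, mul_comm, _root_.zpow_mul,
      zpow_natCast, e', _root_.one_zpow]
  have h0 : (φ k : ℂ) ≠ 0 := Units.ne_zero _
  field_simp
  linear_combination hz2

theorem cuQ_three_elliptic (hq : q = 3) {φ : ↥(normOne F) →* ℂˣ} (hφ : φ ^ 2 ≠ 1) {g : SL(2, F)}
    (he : ∀ (c : F) (w : Fin 2 → F), w ≠ 0 → (g : M2 F).mulVec w ≠ c • w) : cuQ φ g = 0 := by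
  obtain ⟨k, x, hk, hx, -⟩ := exists_torus he
  rw [← hx, cuQ_torus φ hk, cuQ_three hq hφ hk, neg_zero]

end Degree

end Cfsg.Lib.TwoDim
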