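import Cfsg.Agent.Lib.Char.Induced
import Cfsg.Agent.Lib.Char.SignedIrr
import Cfsg.Agent.Lib.Char.Linear
import Mathlib.GroupTheory.GroupAction.Quotient
import Mathlib.LinearAlgebra.Matrix.NonsingularInverse

/-!
# The permutation character of `SL_n` on non-zero vectors
-/

set_option autoImplicit false
set_option linter.unusedSectionVars false

namespace Cfsg.Lib.TwoDim.VectorChar

open Finset Matrix Cfsg Cfsg.Lib.Char
open scoped MatrixGroups ComplexConjugate

universe u

variable {F : Type u} [Field F] [Fintype F] [DecidableEq F] {n : ℕ}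

local notation "q" => Fintype.card F
local notation "G" => Matrix.SpecialLinearGroup (Fin n) F

/-- Non-zero vectors. -/
def NZ (F : Type u) [Field F] (n : ℕ) : Type u := {v : Fin n → F // v ≠ 0}

instance : Fintype (NZ F n) := inferInstanceAs (Fintype {v : Fin n → F // v ≠ 0})

instance : DecidableEq (NZ F n) := inferInstanceAs (DecidableEq {v : Fin n → F // v ≠ 0})

theorem inv_mulVec (g : G) (v : Fin n → F) :
    ((g⁻¹ : G) : Matrix (Fin n) (Fin n) F) *ᵥ ((g : Matrix (Fin n) (Fin n) F) *ᵥ v) = v := by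
  rw [Matrix.mulVec_mulVec, ← Matrix.SpecialLinearGroup.coe_mul, inv_mul_cancel,
    Matrix.SpecialLinearGroup.coe_one, Matrix.one_mulVec]

instance : MulAction G (NZ F n) where
  smul g v := ⟨(g : Matrix (Fin n) (Fin n) F) *ᵥ v.1, fun h => v.2 (by
    rw [← inv_mulVec g v.1, h, Matrix.mulVec_zero])⟩
  one_smul v := Subtype.ext (by
    show ((1 : G) : Matrix (Fin n) (Fin n) F) *ᵥ v.1 = v.1
    rw [Matrix.SpecialLinearGroup.coe_one, Matrix.one_mulVec])
  mul_smul g h v := Subtype.ext (by
    show ((g * h : G) : Matrix (Fin n) (Fin n) F) *ᵥ v.1 = _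
    rw [Matrix.SpecialLinearGroup.coe_mul, ← Matrix.mulVec_mulVec]
    rfl)

theorem smul_val (g : G) (v : NZ F n) : (g • v).1 = (g : Matrix (Fin n) (Fin n) F) *ᵥ v.1 := rfl

omit [Fintype F] [DecidableEq F] in
theorem exists_full {k : ℕ} (u : Fin k → Fin n → F) (hu : LinearIndependent F u) :
    ∀ j, k + j ≤ n → ∃ v : Fin (k + j) → Fin n → F, LinearIndependent F v ∧ ∀ i, v (Fin.castAdd j i) = u i := by
  intro j
  induction j with
  | zero => exact fun _ => ⟨u, hu, fun i => rfl⟩
  | succ j ih =>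
    intro hj
    obtain ⟨v, hv, hvu⟩ := ih (by omega)
    obtain ⟨x, hx⟩ := exists_linearIndependent_snoc_of_lt_finrank hv (by rw [Module.finrank_fin_fun]; omega)
    refine ⟨Fin.snoc v x, hx, fun i => ?_⟩
    rw [show Fin.castAdd (j + 1) i = Fin.castSucc (Fin.castAdd j i) from rfl, Fin.snoc_castSucc, hvu]

theorem exists_sl {k : ℕ} (hk : k < n) (u : Fin k → Fin n → F) (hu : LinearIndependent F u) :
    ∃ g : G, ∀ i : Fin k, (g : Matrix (Fin n) (Fin n) F) *ᵥ Pi.single (Fin.castLE hk.le i) 1 = u i := by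
  obtain ⟨j, rfl⟩ : ∃ j, n = k + j := ⟨n - k, by omega⟩
  obtain ⟨v, hv, hvu⟩ := exists_full u hu j le_rfl
  set M : Matrix (Fin (k + j)) (Fin (k + j)) F := Matrix.of fun r c => v c r with hM
  have hunit : IsUnit M := Matrix.linearIndependent_cols_iff_isUnit.1 hv
  have hdet : M.det ≠ 0 := ((Matrix.isUnit_iff_isUnit_det M).1 hunit).ne_zero
  set l : Fin (k + j) := ⟨k, hk⟩ with hl
  set d : Fin (k + j) → F := Function.update 1 l M.det⁻¹ with hd
  refine ⟨⟨M * Matrix.diagonal d, ?_⟩, fun i => ?_⟩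
  · rw [Matrix.det_mul, Matrix.det_diagonal, hd, Finset.prod_update_of_mem (Finset.mem_univ l)]
    simp [mul_inv_cancel₀ hdet]
  · show (M * Matrix.diagonal d) *ᵥ Pi.single (Fin.castLE hk.le i) 1 = u i
    rw [Matrix.mulVec_single_one]
    funext r
    have hne : Fin.castLE hk.le i ≠ l := fun e => by
      have := congrArg Fin.val e
      simp [hl] at this
      omega
    rw [Matrix.col_apply, Matrix.mul_diagonal, hd, Function.update_of_ne hne, Pi.one_apply, mul_one, hM,
      Matrix.of_apply, ← hvu i]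
    rfl

variable [hn : Fact (3 ≤ n)]

/-- The first coordinate. -/
def i0 : Fin n := ⟨0, by have := hn.out; omega⟩

/-- The second coordinate. -/
def i1 : Fin n := ⟨1, by have := hn.out; omega⟩

/-- The first basis vector. -/
def base : NZ F n := ⟨Pi.single i0 1, by simp⟩

theorem base_val : (base : NZ F n).1 = Pi.single (i0 : Fin n) 1 := rfl

theorem transitive (v : NZ F n) : ∃ g : G, g • (base : NZ F n) = v := by
  obtain ⟨g, hg⟩ := exists_sl (show 1 < n by have := hn.out; omega) ![v.1] (LinearIndependent.of_subsingleton 0 (by simpa using v.2))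
  exact ⟨g, Subtype.ext ((hg 0).trans (by simp))⟩

theorem transitive_two {v w : NZ F n} (h : ∀ c : Fˣ, w.1 ≠ (c : F) • v.1) :
    ∃ g : G, g • (base : NZ F n) = v ∧ (g : Matrix (Fin n) (Fin n) F) *ᵥ Pi.single i1 1 = w.1 := by
  obtain ⟨g, hg⟩ := exists_sl (show 2 < n by have := hn.out; omega) ![v.1, w.1] (by
    rw [LinearIndependent.pair_iff' v.2]
    intro a ha
    by_cases h0 : a = 0
    · rw [h0, zero_smul] at ha
      exact w.2 ha.symm
    · exact h (Units.mk0 a h0) ha.symm)
  exact ⟨g, Subtype.ext ((hg 0).trans (by simp)), (hg 1).trans (by simp)⟩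

theorem sum_smul_base (f : NZ F n → ℂ) :
    ∑ x : G, f (x • base) = ((Finset.univ.filter fun x : G => x • (base : NZ F n) = base).card : ℂ) * ∑ v, f v := by
  rw [Finset.sum_comp f fun x : G => x • (base : NZ F n),
    Finset.image_univ_of_surjective (fun v => transitive v), Finset.mul_sum]
  refine Finset.sum_congr rfl fun v _ => ?_
  rw [nsmul_eq_mul]
  congr 2
  obtain ⟨g, hg⟩ := transitive v
  refine (Finset.card_equiv (Equiv.mulLeft g) fun x => ?_).symm
  rw [Finset.mem_filter, Finset.mem_filter, Equiv.coe_mulLeft, mul_smul, ← hg, smul_left_cancel_iff]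
  simp

/-- The stabiliser of the line of the first basis vector. -/
def lineStab (F : Type u) [Field F] [Fintype F] [DecidableEq F] (n : ℕ) [Fact (3 ≤ n)] :
    Subgroup (Matrix.SpecialLinearGroup (Fin n) F) where
  carrier := {h | ∃ c : Fˣ, (h • (base : NZ F n)).1 = (c : F) • (base : NZ F n).1}
  one_mem' := ⟨1, by rw [one_smul, Units.val_one, one_smul]⟩
  mul_mem' := by
    rintro a b ⟨c, hc⟩ ⟨d, hd⟩
    refine ⟨d * c, ?_⟩
    rw [mul_smul, smul_val, hd, Matrix.mulVec_smul, ← smul_val, hc, smul_smul, Units.val_mul]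
  inv_mem' := by
    rintro a ⟨c, hc⟩
    refine ⟨c⁻¹, ?_⟩
    have := congrArg (((a⁻¹ : Matrix.SpecialLinearGroup (Fin n) F) : Matrix (Fin n) (Fin n) F) *ᵥ ·) hc
    simp only [smul_val, inv_mulVec, Matrix.mulVec_smul] at this
    rw [smul_val]
    nth_rw 2 [this]
    rw [smul_smul, Units.inv_mul, one_smul]

theorem smul_unit_injective (v : NZ F n) {c d : Fˣ} (h : (c : F) • v.1 = (d : F) • v.1) : c = d :=
  Units.ext (smul_left_injective F v.2 h)

/-- The scalar on the first basis vector. -/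
noncomputable def lam (h : ↥(lineStab F n)) : Fˣ := h.2.choose

theorem lam_spec (h : ↥(lineStab F n)) :
    ((h : G) • (base : NZ F n)).1 = (lam h : F) • (base : NZ F n).1 := h.2.choose_spec

/-- The eigenvalue on the first basis vector. -/
noncomputable def lamHom : ↥(lineStab F n) →* Fˣ where
  toFun := lam
  map_one' := smul_unit_injective base
    ((lam_spec (1 : ↥(lineStab F n))).symm.trans (by rw [Subgroup.coe_one, one_smul, Units.val_one, one_smul]))
  map_mul' a b := smul_unit_injective base ((lam_spec (a * b)).symm.trans (by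
    rw [Subgroup.coe_mul, mul_smul, smul_val, lam_spec b, Matrix.mulVec_smul, ← smul_val, lam_spec a,
      smul_smul, Units.val_mul, mul_comm]))

theorem lamHom_spec (h : ↥(lineStab F n)) :
    ((h : G) • (base : NZ F n)).1 = (lamHom h : F) • (base : NZ F n).1 := lam_spec h

noncomputable instance fintypeDual : Fintype (Fˣ →* ℂˣ) := Fintype.ofFinite _

/-- The pieces of the permutation character. -/
noncomputable def piece (θ : Fˣ →* ℂˣ) : Matrix.SpecialLinearGroup (Fin n) F → ℂ :=
  indFun (lineStab F n) (fun h => (θ (lamHom h) : ℂ))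

theorem isCharacter_piece (θ : Fˣ →* ℂˣ) : IsCharacter G (piece (n := n) θ) :=
  isCharacter_indFun _ (isIrrCharacter_linear (θ.comp lamHom)).isCharacter

/-- The number of non-zero eigenvectors with a given eigenvalue. -/
noncomputable def eig (g : G) (c : Fˣ) : ℕ :=
  (Finset.univ.filter fun v : NZ F n => (g : Matrix (Fin n) (Fin n) F) *ᵥ v.1 = (c : F) • v.1).card

theorem card_lineStab : (Nat.card ↥(lineStab F n) : ℂ) =
    ((Finset.univ.filter fun x : G => x • (base : NZ F n) = base).card : ℂ) * ((q - 1 : ℕ) : ℂ) := by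
  classical
  set P : NZ F n → ℂ := fun v => if ∃ c : Fˣ, v.1 = (c : F) • (base : NZ F n).1 then 1 else 0 with hP
  have e1 : (Nat.card ↥(lineStab F n) : ℂ) = ∑ x : G, P (x • base) := by
    simp only [hP]
    rw [Finset.sum_boole, Nat.cast_inj]
    exact Nat.subtype_card _ fun x => by rw [Finset.mem_filter]; simp; rfl
  rw [e1, sum_smul_base]
  congr 1
  simp only [hP]
  rw [Finset.sum_boole, Nat.cast_inj, ← Fintype.card_units, ← Finset.card_univ (α := Fˣ)]
  refine (Finset.card_bij (fun (c : Fˣ) _ => (⟨(c : F) • (base : NZ F n).1, smul_ne_zero c.ne_zero base.2⟩ : NZ F n))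
    (fun c _ => Finset.mem_filter.2 ⟨Finset.mem_univ _, c, rfl⟩)
    (fun c _ d _ e => smul_unit_injective base (congrArg Subtype.val e)) fun v hv => ?_).symm
  obtain ⟨c, hc⟩ := (Finset.mem_filter.1 hv).2
  exact ⟨c, Finset.mem_univ _, Subtype.ext hc.symm⟩

theorem piece_eq (θ : Fˣ →* ℂˣ) (g : G) :
    piece θ g = ((q - 1 : ℕ) : ℂ)⁻¹ * ∑ c : Fˣ, (θ c : ℂ) * (eig g c : ℂ) := by
  classical
  set Φ : NZ F n → ℂ := fun v => ∑ c : Fˣ,
    if (g : Matrix (Fin n) (Fin n) F) *ᵥ v.1 = (c : F) • v.1 then (θ c : ℂ) else 0 with hΦ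
  have hext : ∀ x : G, extendByZero (lineStab F n) (fun h => (θ (lamHom h) : ℂ)) (x⁻¹ * g * x) = Φ (x • base) := by
    intro x
    have hiff : ∀ c : Fˣ, ((g : Matrix (Fin n) (Fin n) F) *ᵥ (x • (base : NZ F n)).1 = (c : F) • (x • (base : NZ F n)).1 ↔
        ((x⁻¹ * g * x) • (base : NZ F n)).1 = (c : F) • (base : NZ F n).1) := by
      intro c
      rw [mul_smul, mul_smul, smul_val x⁻¹, smul_val g, smul_val x]
      constructor
      · intro e
        rw [e, Matrix.mulVec_smul, inv_mulVec]
      · intro e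
        have := congrArg ((x : Matrix (Fin n) (Fin n) F) *ᵥ ·) e
        simp only [Matrix.mulVec_smul, Matrix.mulVec_mulVec] at this
        rwa [← mul_assoc, ← Matrix.SpecialLinearGroup.coe_mul, mul_inv_cancel, Matrix.SpecialLinearGroup.coe_one,
          one_mul, ← Matrix.mulVec_mulVec] at this
    simp only [hΦ]
    by_cases hm : x⁻¹ * g * x ∈ lineStab F n
    · rw [extendByZero_of_mem _ _ hm, Finset.sum_eq_single (lamHom ⟨_, hm⟩)]
      · rw [if_pos ((hiff _).2 (lamHom_spec ⟨_, hm⟩))]
      · intro c _ hc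
        exact if_neg fun e => hc (smul_unit_injective base (((hiff c).1 e).symm.trans (lamHom_spec ⟨_, hm⟩)))
      · exact fun e => absurd (Finset.mem_univ _) e
    · rw [extendByZero_of_notMem _ _ hm, Finset.sum_eq_zero]
      exact fun c _ => if_neg fun e => hm ⟨c, (hiff c).1 e⟩
  have hΦsum : ∑ v, Φ v = ∑ c : Fˣ, (θ c : ℂ) * (eig g c : ℂ) := by
    simp only [hΦ, eig]
    rw [Finset.sum_comm]
    refine Finset.sum_congr rfl fun c _ => ?_
    rw [← Finset.sum_filter, Finset.sum_const, nsmul_eq_mul, mul_comm]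
  have hs : ((Finset.univ.filter fun x : G => x • (base : NZ F n) = base).card : ℂ) ≠ 0 :=
    Nat.cast_ne_zero.2 (Finset.card_ne_zero.2 ⟨1, by simp⟩)
  rw [piece, indFun, Finset.sum_congr rfl fun x _ => hext x, sum_smul_base, card_lineStab, hΦsum, mul_inv,
    mul_comm (_ : ℂ)⁻¹ ((_ : ℂ)⁻¹), mul_assoc, inv_mul_cancel_left₀ hs]

theorem sum_dual (c : Fˣ) : ∑ θ : Fˣ →* ℂˣ, (θ c : ℂ) = if c = 1 then ((q - 1 : ℕ) : ℂ) else 0 := by
  split_ifs with h
  · subst h
    simp only [map_one, Units.val_one, Finset.sum_const, Finset.card_univ, nsmul_eq_mul, mul_one]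
    rw [← Nat.card_eq_fintype_card, CommGroup.card_monoidHom_of_hasEnoughRootsOfUnity, Nat.card_eq_fintype_card,
      Fintype.card_units]
  · obtain ⟨ψ, hψ⟩ := CommGroup.exists_apply_ne_one_of_hasEnoughRootsOfUnity Fˣ ℂ h
    have e : ∑ θ : Fˣ →* ℂˣ, ((ψ * θ) c : ℂ) = ∑ θ : Fˣ →* ℂˣ, (θ c : ℂ) :=
      Equiv.sum_comp (Equiv.mulLeft ψ) fun θ : Fˣ →* ℂˣ => (θ c : ℂ)
    simp only [MonoidHom.mul_apply, Units.val_mul, ← Finset.mul_sum] at e
    have hne : (ψ c : ℂ) - 1 ≠ 0 := sub_ne_zero.2 fun e => hψ (Units.ext e)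
    exact (mul_eq_zero.1 (show ((ψ c : ℂ) - 1) * ∑ θ : Fˣ →* ℂˣ, (θ c : ℂ) = 0 by
      rw [sub_mul, e, one_mul, sub_self])).resolve_left hne

theorem q_sub_one_ne : ((q - 1 : ℕ) : ℂ) ≠ 0 :=
  Nat.cast_ne_zero.2 (by have := Fintype.one_lt_card (α := F); omega)

theorem sum_piece (g : G) : ∑ θ : Fˣ →* ℂˣ, piece θ g = (eig g 1 : ℂ) := by
  simp_rw [piece_eq, ← Finset.mul_sum]
  rw [Finset.sum_comm]
  simp_rw [← Finset.sum_mul, sum_dual, ite_mul, zero_mul]
  rw [Finset.sum_ite_eq' Finset.univ (1 : Fˣ), if_pos (Finset.mem_univ _), inv_mul_cancel_left₀ q_sub_one_ne]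

/-- The orbit invariant of a pair. -/
noncomputable def pairInv (p : NZ F n × NZ F n) : Option Fˣ :=
  haveI := Classical.propDecidable (∃ c : Fˣ, p.2.1 = (c : F) • p.1.1)
  if h : ∃ c : Fˣ, p.2.1 = (c : F) • p.1.1 then some h.choose else none

theorem pairInv_some (p : NZ F n × NZ F n) (c : Fˣ) : pairInv p = some c ↔ p.2.1 = (c : F) • p.1.1 := by
  unfold pairInv
  split_ifs with h
  · rw [Option.some.injEq]
    refine ⟨fun e => e ▸ h.choose_spec, fun e => ?_⟩
    exact smul_unit_injective p.1 (h.choose_spec.symm.trans e)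
  · exact iff_of_false (by simp) fun e => h ⟨c, e⟩

theorem pairInv_none (p : NZ F n × NZ F n) : pairInv p = none ↔ ∀ c : Fˣ, p.2.1 ≠ (c : F) • p.1.1 := by
  rw [Option.eq_none_iff_forall_ne_some]
  exact forall_congr' fun c => not_congr (pairInv_some p c)

theorem pairInv_smul (g : G) (p : NZ F n × NZ F n) : pairInv (g • p) = pairInv p := by
  refine Option.ext fun c => ?_
  rw [pairInv_some, pairInv_some]
  show (g • p.2).1 = (c : F) • (g • p.1).1 ↔ _
  rw [smul_val, smul_val, ← Matrix.mulVec_smul]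
  exact ⟨fun e => by rw [← inv_mulVec g p.2.1, e, inv_mulVec], fun e => by rw [e]⟩

theorem card_orbits : Nat.card (Quotient (MulAction.orbitRel G (NZ F n × NZ F n))) = q := by
  have hwell : ∀ a b : NZ F n × NZ F n, (MulAction.orbitRel G (NZ F n × NZ F n)) a b → pairInv a = pairInv b := by
    rintro a b ⟨g, rfl⟩
    exact pairInv_smul g b
  have hb : Function.Bijective (Quotient.lift pairInv hwell) := by
    constructor
    · intro x y
      induction x using Quotient.inductionOn with | h a => ?_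
      induction y using Quotient.inductionOn with | h b => ?_
      intro e
      refine Quotient.sound ?_
      show a ∈ MulAction.orbit G b
      change pairInv a = pairInv b at e
      obtain ⟨g, hg⟩ : ∃ g : G, g • b = a := by
        cases hc : pairInv b with
        | none =>
          rw [hc] at e
          obtain ⟨g, hg1, hg2⟩ := transitive_two ((pairInv_none a).1 e)
          obtain ⟨k, hk1, hk2⟩ := transitive_two ((pairInv_none b).1 hc)
          refine ⟨g * k⁻¹, Prod.ext ?_ (Subtype.ext ?_)⟩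
          · show (g * k⁻¹) • b.1 = a.1
            rw [← hk1, mul_smul, inv_smul_smul, hg1]
          · show ((g * k⁻¹) • b.2).1 = a.2.1
            rw [mul_smul, smul_val, smul_val, ← hk2, inv_mulVec, hg2]
        | some c =>
          rw [hc] at e
          obtain ⟨g, hg⟩ := transitive a.1
          obtain ⟨k, hk⟩ := transitive b.1
          have h1 : (g * k⁻¹) • b.1 = a.1 := by rw [← hk, mul_smul, inv_smul_smul, hg]
          refine ⟨g * k⁻¹, Prod.ext h1 (Subtype.ext ?_)⟩
          show ((g * k⁻¹) • b.2).1 = a.2.1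
          rw [smul_val, (pairInv_some b c).1 hc, Matrix.mulVec_smul, ← smul_val, h1, ← (pairInv_some a c).1 e]
      exact ⟨g, hg⟩
    · intro o
      cases o with
      | none =>
        refine ⟨Quotient.mk _ (base, ⟨Pi.single i1 1, by simp⟩), (pairInv_none _).2 fun c hc => ?_⟩
        have := congrFun hc i1
        simp [base_val, i0, i1, Pi.single_apply] at this
      | some c =>
        exact ⟨Quotient.mk _ (base, ⟨(c : F) • (base : NZ F n).1, smul_ne_zero c.ne_zero base.2⟩),
          (pairInv_some _ c).2 rfl⟩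
  rw [Nat.card_congr (Equiv.ofBijective _ hb), Nat.card_eq_fintype_card, Fintype.card_option, Fintype.card_units]
  have := Fintype.one_lt_card (α := F)
  omega

theorem sum_eig_sq : ∑ g : G, (eig g 1) ^ 2 = q * Fintype.card G := by
  classical
  have hb := MulAction.sum_card_fixedBy_eq_card_orbits_mul_card_group G (NZ F n × NZ F n)
  rw [← Nat.card_eq_fintype_card (α := Quotient _), card_orbits] at hb
  rw [← hb]
  refine Finset.sum_congr rfl fun g => fun _ => ?_
  have e : eig g 1 = Nat.card {v : NZ F n // g • v = v} := (Nat.subtype_card _ fun v => by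
    rw [Finset.mem_filter, Units.val_one, one_smul, ← smul_val]
    exact ⟨fun h => Subtype.ext h.2, fun h => ⟨Finset.mem_univ _, congrArg Subtype.val h⟩⟩).symm
  rw [e, sq, ← Nat.card_prod, ← Nat.card_eq_fintype_card]
  exact Nat.card_congr
    { toFun := fun x => ⟨(x.1.1, x.2.1), Prod.ext x.1.2 x.2.2⟩
      invFun := fun x => (⟨x.1.1, congrArg Prod.fst x.2⟩, ⟨x.1.2, congrArg Prod.snd x.2⟩)
      left_inv := fun _ => rfl
      right_inv := fun _ => rfl }

theorem inner_total : ∑ θ : Fˣ →* ℂˣ, ∑ η : Fˣ →* ℂˣ, classInner (piece (n := n) θ) (piece (n := n) η) = (q : ℂ) := by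
  simp_rw [← classInner_sum_right, ← classInner_sum_left]
  have e : (∑ θ : Fˣ →* ℂˣ, piece (n := n) θ) = fun g : G => (eig g 1 : ℂ) :=
    funext fun g => by rw [Finset.sum_apply, sum_piece]
  rw [e]
  simp only [classInner, map_natCast, ← sq]
  rw [← Finset.sum_congr rfl (fun g (_ : g ∈ Finset.univ) => Nat.cast_pow (eig g 1) 2), ← Nat.cast_sum, sum_eig_sq,
    Nat.cast_mul, Nat.card_eq_fintype_card, mul_comm (q : ℂ), inv_mul_cancel_left₀]
  exact Nat.cast_ne_zero.2 Fintype.card_ne_zero

theorem piece_one (θ : Fˣ →* ℂˣ) :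
    piece (n := n) θ 1 = ((Fintype.card (NZ F n) : ℕ) : ℂ) / ((q - 1 : ℕ) : ℂ) := by
  rw [piece_eq, inv_mul_eq_div]
  congr 1
  rw [Finset.sum_eq_single (1 : Fˣ), map_one, Units.val_one, one_mul, eig, Finset.filter_true_of_mem, Finset.card_univ]
  · intro v _
    simp
  · intro c _ hc
    rw [eig, Finset.filter_eq_empty_iff.2, Finset.card_empty, Nat.cast_zero, mul_zero]
    intro v _ e
    rw [Matrix.SpecialLinearGroup.coe_one, Matrix.one_mulVec] at e
    exact hc (smul_unit_injective v (d := 1) (by rw [Units.val_one, one_smul, ← e]))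
  · exact fun e => absurd (Finset.mem_univ _) e

theorem lt_card_NZ : q - 1 < Fintype.card (NZ F n) := by
  have h : Fintype.card (NZ F n) = q ^ n - 1 := by
    rw [show Fintype.card (NZ F n) = Fintype.card {v : Fin n → F // v ≠ 0} from rfl, Fintype.card_subtype_compl,
      Fintype.card_fun, Fintype.card_fin, Fintype.card_subtype_eq]
  have h2 : q ^ 1 < q ^ n := Nat.pow_lt_pow_right Fintype.one_lt_card (by have := hn.out; omega)
  have := Fintype.card_pos (α := F)
  rw [pow_one] at h2
  omega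

theorem piece_gt_one (θ : Fˣ →* ℂˣ) : ∃ m : ℕ, 1 < m ∧ piece (n := n) θ 1 = m := by
  obtain ⟨m, hm⟩ := (isCharacter_piece (n := n) θ).exists_degree
  refine ⟨m, ?_, hm⟩
  rw [piece_one, div_eq_iff q_sub_one_ne, ← Nat.cast_mul, Nat.cast_inj] at hm
  have := lt_card_NZ (F := F) (n := n)
  rcases Nat.lt_or_ge 1 m with h | h
  · exact h
  · have : m * (q - 1) ≤ 1 * (q - 1) := Nat.mul_le_mul_right _ h
    omega

/-- The decomposition of the permutation character, with the degrees of the constituents. -/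
theorem decomposition_degree : ∃ χ : (Fˣ →* ℂˣ) → G → ℂ, (∀ θ, IsIrrCharacter G (χ θ)) ∧ Function.Injective χ ∧
    (∀ g : G, (eig g 1 : ℂ) = 1 + ∑ θ, χ θ g) ∧
    ∀ θ, χ θ 1 = ((Fintype.card (NZ F n) : ℕ) : ℂ) / ((q - 1 : ℕ) : ℂ) - if θ = 1 then 1 else 0 := by
  classical
  have : Fintype ↥(lineStab F n) := Fintype.ofFinite _
  choose N hN using fun θ η : Fˣ →* ℂˣ => (isCharacter_piece (n := n) θ).exists_nat_classInner (isCharacter_piece (n := n) η)
  have htot : ∑ θ : Fˣ →* ℂˣ, ∑ η : Fˣ →* ℂˣ, N θ η = q := by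
    have h := inner_total (F := F) (n := n)
    simp_rw [hN] at h
    exact_mod_cast h
  have hpos : ∀ θ, 1 ≤ N θ θ := fun θ => Nat.one_le_iff_ne_zero.2 fun e => by
    have hz := eq_zero_of_classInner_self (by rw [hN, e, Nat.cast_zero] :
      classInner (piece (n := n) θ) (piece θ) = 0)
    obtain ⟨m, hm, hm'⟩ := piece_gt_one (n := n) θ
    have h1 : (m : ℂ) = 0 := by rw [← hm', hz, Pi.zero_apply]
    rw [Nat.cast_eq_zero] at h1
    omega
  have hone : classInner (piece (n := n) (1 : Fˣ →* ℂˣ)) (fun _ : G => (1 : ℂ)) = 1 := by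
    rw [piece, classInner_indFun _ _ isIrrCharacter_one.isClassFunction]
    rw [show (fun h : ↥(lineStab F n) => (((1 : Fˣ →* ℂˣ) (lamHom h) : ℂˣ) : ℂ)) = fun _ => 1 from
      funext fun h => by simp]
    exact classInner_irr_self isIrrCharacter_one
  have htwo : 2 ≤ N 1 1 := by
    by_contra hlt
    have h1 : N 1 1 = 1 := le_antisymm (by omega) (hpos 1)
    have hirr : IsIrrCharacter G (piece (n := n) (1 : Fˣ →* ℂˣ)) :=
      isIrrCharacter_of_norm_one (isCharacter_piece 1) (by rw [hN, h1, Nat.cast_one])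
    have e : piece (n := n) (1 : Fˣ →* ℂˣ) = fun _ => 1 := by
      by_contra hne
      rw [classInner_irr_ne hirr isIrrCharacter_one hne] at hone
      exact zero_ne_one hone
    obtain ⟨m, hm, hm'⟩ := piece_gt_one (n := n) (1 : Fˣ →* ℂˣ)
    rw [e, eq_comm, Nat.cast_eq_one] at hm'
    omega
  have hcard : Fintype.card (Fˣ →* ℂˣ) = q - 1 := by
    rw [← Nat.card_eq_fintype_card, CommGroup.card_monoidHom_of_hasEnoughRootsOfUnity, Nat.card_eq_fintype_card,
      Fintype.card_units]
  have hdiag : ∀ θ, (if θ = 1 then 2 else 1) ≤ N θ θ := fun θ => by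
    split_ifs with h
    exacts [h ▸ htwo, hpos θ]
  have hsum2 : (∑ θ : Fˣ →* ℂˣ, if θ = 1 then 2 else 1) = q := by
    rw [Finset.sum_congr rfl (g := fun θ : Fˣ →* ℂˣ => 1 + if θ = 1 then 1 else 0)
      fun θ _ => by split_ifs <;> rfl, Finset.sum_add_distrib, Finset.sum_const, Finset.card_univ, smul_eq_mul,
      mul_one, hcard, Finset.sum_ite_eq' Finset.univ (1 : Fˣ →* ℂˣ), if_pos (Finset.mem_univ _)]
    have := Fintype.one_lt_card (α := F)
    omega
  have hrow : ∀ θ, ∑ η, N θ η = if θ = 1 then 2 else 1 := by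
    have hge : ∀ θ ∈ Finset.univ, (if θ = 1 then 2 else 1) ≤ ∑ η, N θ η := fun θ _ =>
      (hdiag θ).trans (Finset.single_le_sum (f := N θ) (fun _ _ => Nat.zero_le _) (Finset.mem_univ θ))
    exact fun θ => ((Finset.sum_eq_sum_iff_of_le hge).1 (hsum2.trans htot.symm) θ (Finset.mem_univ θ)).symm
  have hdiag' : ∀ θ, N θ θ = if θ = 1 then 2 else 1 := fun θ => le_antisymm
    (hrow θ ▸ Finset.single_le_sum (f := N θ) (fun _ _ => Nat.zero_le _) (Finset.mem_univ θ)) (hdiag θ)
  have hoff : ∀ θ η, θ ≠ η → N θ η = 0 := fun θ η hne => by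
    have h := Finset.add_sum_erase Finset.univ (N θ) (Finset.mem_univ θ)
    have hz : ∑ x ∈ Finset.univ.erase θ, N θ x = 0 := by
      have := hrow θ
      rw [← h, hdiag' θ] at this
      omega
    exact Finset.sum_eq_zero_iff.1 hz η (Finset.mem_erase.2 ⟨hne.symm, Finset.mem_univ η⟩)
  set χ : (Fˣ →* ℂˣ) → G → ℂ := fun θ =>
    if θ = 1 then piece θ - (fun _ => 1) else piece θ with hχ
  have hirr : ∀ θ, IsIrrCharacter G (χ θ) := fun θ => by
    simp only [hχ]
    split_ifs with h
    · subst h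
      obtain ⟨ε, μ, hε, e⟩ := exists_signed_irr_of_norm_one
        ((isCharacter_piece (n := n) (1 : Fˣ →* ℂˣ)).isGeneralized.sub isIrrCharacter_one.isGeneralized) (by
          rw [classInner_sub_left, classInner_sub_right, classInner_sub_right, hN, hdiag', if_pos rfl, hone,
            ← classInner_conj_symm (piece (n := n) 1) (fun _ => 1), hone, map_one, classInner_irr_self isIrrCharacter_one]
          norm_num)
      obtain ⟨m, hm, hm'⟩ := piece_gt_one (n := n) (1 : Fˣ →* ℂˣ)
      obtain ⟨k, hk, hk'⟩ := μ.2.exists_degree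
      have e1 := congrFun e 1
      simp only [Pi.sub_apply, Pi.smul_apply, smul_eq_mul, hm', hk'] at e1
      rcases hε with rfl | rfl
      · rw [e, Int.cast_one, one_smul]
        exact μ.2
      · exfalso
        have : ((m + k : ℕ) : ℂ) = ((1 : ℕ) : ℂ) := by
          push_cast at e1 ⊢
          linear_combination e1
        rw [Nat.cast_inj] at this
        omega
    · exact isIrrCharacter_of_norm_one (isCharacter_piece θ) (by rw [hN, hdiag', if_neg h, Nat.cast_one])
  refine ⟨χ, hirr, fun θ η he => ?_, fun g => ?_, fun θ => by simp only [hχ]; split_ifs <;> simp [piece_one]⟩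
  · by_contra hne
    have hself := classInner_irr_self (hirr θ)
    nth_rw 2 [he] at hself
    have hz1 : ∀ η : Fˣ →* ℂˣ, η ≠ 1 → classInner (fun _ : G => (1 : ℂ)) (piece (n := n) η) = 0 := by
      intro η hη
      have hi : IsIrrCharacter G (piece (n := n) η) :=
        isIrrCharacter_of_norm_one (isCharacter_piece η) (by rw [hN, hdiag', if_neg hη, Nat.cast_one])
      refine classInner_irr_ne isIrrCharacter_one hi fun e => ?_
      obtain ⟨m, hm, hm'⟩ := piece_gt_one (n := n) η
      rw [← e, eq_comm, Nat.cast_eq_one] at hm'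
      omega
    simp only [hχ] at hself
    split_ifs at hself with h1 h2 h2
    · exact hne (h1.trans h2.symm)
    · rw [classInner_sub_left, hN, hoff θ η hne, hz1 η h2] at hself
      norm_num at hself
    · rw [classInner_sub_right, hN, hoff θ η hne, ← classInner_conj_symm, hz1 θ h1] at hself
      norm_num at hself
    · rw [hN, hoff θ η hne] at hself
      norm_num at hself
  · rw [← sum_piece, show ∑ θ, χ θ g = ∑ θ : Fˣ →* ℂˣ, (piece θ g - if θ = 1 then 1 else 0) from
      Finset.sum_congr rfl fun θ _ => by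
      simp only [hχ]; split_ifs <;> simp]
    rw [Finset.sum_sub_distrib, Finset.sum_ite_eq' Finset.univ (1 : Fˣ →* ℂˣ), if_pos (Finset.mem_univ _)]
    ring

/-- The decomposition of the permutation character. -/
theorem decomposition : ∃ χ : (Fˣ →* ℂˣ) → G → ℂ, (∀ θ, IsIrrCharacter G (χ θ)) ∧ Function.Injective χ ∧
    ∀ g : G, (eig g 1 : ℂ) = 1 + ∑ θ, χ θ g := by
  obtain ⟨χ, h1, h2, h3, -⟩ := decomposition_degree (F := F) (n := n)
  exact ⟨χ, h1, h2, h3⟩

end Cfsg.Lib.TwoDim.VectorChar
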