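import Cfsg.Agent.Lib.TwoDim.Sylows

/-!
# The Sylow `2`-subgroup of `SL₂` in odd characteristic
-/

set_option autoImplicit false
set_option linter.unusedSectionVars false

namespace Cfsg.Lib.TwoDim

open Finset Matrix Cfsg
open scoped MatrixGroups

universe u v

variable {F : Type u} [Field F] {A : Type v} [CommGroup A] {ι : A →* SL(2, F)} {w : SL(2, F)}

theorem trace_zero_of_sq {X : SL(2, F)} (hX : X * X = -1) : (X : M2 F) 1 1 = -(X : M2 F) 0 0 := by
  have e : X⁻¹ = -X := inv_eq_of_mul_eq_one_right (by rw [mul_neg, hX, neg_neg])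
  have := congrArg (fun g : SL(2, F) => (g : M2 F) 0 0) e
  simpa [Matrix.SpecialLinearGroup.coe_inv, Matrix.adjugate_fin_two] using this

/-- The element `(1 + X + Y + XY) / 2` permuting the three quaternion axes. -/
theorem exists_quat_perm (h2 : (2 : F) ≠ 0) {X Y : SL(2, F)} (hX : X * X = -1) (hY : Y * Y = -1)
    (hYX : Y * X = -(X * Y)) : ∃ g : SL(2, F), g * X = Y * g ∧ g * Y = X * Y * g := by
  have eX : (X : M2 F) * X = -1 := by
    rw [← Matrix.SpecialLinearGroup.coe_mul, hX]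
    simp
  have eY : (Y : M2 F) * Y = -1 := by
    rw [← Matrix.SpecialLinearGroup.coe_mul, hY]
    simp
  have eYX : (Y : M2 F) * X = -((X : M2 F) * Y) := by
    rw [← Matrix.SpecialLinearGroup.coe_mul, hYX]
    simp
  have hZ : X * Y * (X * Y) = -1 := by
    rw [mul_assoc, ← mul_assoc Y, hYX, neg_mul, mul_neg, mul_assoc X Y Y, hY, mul_neg, mul_one, mul_neg, neg_neg, hX]
  have tX := trace_zero_of_sq hX
  have tY := trace_zero_of_sq hY
  have tZ := trace_zero_of_sq hZ
  rw [Matrix.SpecialLinearGroup.coe_mul] at tZ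
  set M : M2 F := 1 + X + Y + (X : M2 F) * Y with hM
  have hadj : M.adjugate = 1 - X - Y - (X : M2 F) * Y := by
    rw [hM, Matrix.adjugate_fin_two]
    ext i j
    fin_cases i <;> fin_cases j <;> simp [tX, tY, tZ] <;> ring
  have hdet : M.det = 4 := by
    have e := Matrix.mul_adjugate M
    rw [hadj, hM] at e
    have e' : (1 + (X : M2 F) + Y + (X : M2 F) * Y) * (1 - X - Y - (X : M2 F) * Y) = (4 : F) • (1 : M2 F) := by
      have r1 : (X : M2 F) * ((X : M2 F) * Y) = -(Y : M2 F) := by rw [← mul_assoc, eX, neg_one_mul]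
      have r2 : (Y : M2 F) * ((X : M2 F) * Y) = (X : M2 F) := by
        rw [← mul_assoc, eYX, neg_mul, mul_assoc, eY, mul_neg, mul_one, neg_neg]
      have r3 : (X : M2 F) * Y * X = (Y : M2 F) := by rw [mul_assoc, eYX, mul_neg, r1, neg_neg]
      have r4 : (X : M2 F) * Y * Y = -(X : M2 F) := by rw [mul_assoc, eY, mul_neg, mul_one]
      have r5 : (X : M2 F) * Y * ((X : M2 F) * Y) = -1 := by rw [← mul_assoc, r3, eY]
      rw [show (4 : F) • (1 : M2 F) = 1 + 1 + 1 + 1 by
        rw [show (4 : F) = 1 + 1 + 1 + 1 by norm_num, add_smul, add_smul, add_smul, one_smul]]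
      simp only [mul_sub, add_mul, mul_one, one_mul, eX, eY, eYX, r1, r2, r3, r4, r5]
      abel
    have := congrArg (fun N : M2 F => N 0 0) (e.symm.trans e')
    simpa [hM] using this
  have h4 : (4 : F) ≠ 0 := by
    rw [show (4 : F) = 2 * 2 by norm_num]
    exact mul_ne_zero h2 h2
  refine ⟨⟨(2 : F)⁻¹ • M, by rw [Matrix.det_smul, hdet, Fintype.card_fin]; field_simp; norm_num⟩, ?_, ?_⟩
  · refine Subtype.ext ?_
    show ((2 : F)⁻¹ • M) * (X : M2 F) = (Y : M2 F) * ((2 : F)⁻¹ • M)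
    rw [Matrix.smul_mul, Matrix.mul_smul, hM]
    congr 1
    simp only [add_mul, mul_add, one_mul, mul_one, eX, eY, eYX, ← mul_assoc]
    rw [mul_assoc (X : M2 F) Y X, eYX, mul_neg, ← mul_assoc, eX, neg_one_mul, neg_neg, neg_mul, mul_assoc, eY]
    simp only [mul_neg, mul_one, neg_neg]
    abel
  · refine Subtype.ext ?_
    show ((2 : F)⁻¹ • M) * (Y : M2 F) = (X : M2 F) * Y * ((2 : F)⁻¹ • M)
    rw [Matrix.smul_mul, Matrix.mul_smul, hM]
    congr 1
    have r2 : (X : M2 F) * Y * X = (Y : M2 F) := by rw [mul_assoc, eYX, mul_neg, ← mul_assoc, eX, neg_one_mul, neg_neg]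
    have r4 : (X : M2 F) * Y * Y = -(X : M2 F) := by rw [mul_assoc, eY, mul_neg, mul_one]
    simp only [add_mul, mul_add, one_mul, mul_one, eY, r4, r2, ← mul_assoc]
    abel

variable [Fintype F] [Finite A]

/-- The `2`-part of the cyclic torus together with the inverting coset. -/
def quatSub (h : IsTorus ι w) (T : Subgroup A) (hT : ∀ e : A, e ^ 2 = 1 → e ∈ T) : Subgroup SL(2, F) where
  carrier := {g | (∃ a ∈ T, g = ι a) ∨ ∃ a ∈ T, g = w * ι a}
  one_mem' := Or.inl ⟨1, T.one_mem, (map_one ι).symm⟩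
  mul_mem' := by
    obtain ⟨e, he⟩ := h.neg_one_mem
    have he2 : e ^ 2 = 1 := h.inj (by rw [map_pow, he, map_one, _root_.sq, neg_mul_neg, one_mul])
    rintro g g' (⟨a, ha, rfl⟩ | ⟨a, ha, rfl⟩) (⟨b, hb, rfl⟩ | ⟨b, hb, rfl⟩)
    · exact Or.inl ⟨_, T.mul_mem ha hb, (map_mul ι a b).symm⟩
    · exact Or.inr ⟨_, T.mul_mem (T.inv_mem ha) hb, by rw [← mul_assoc, h.move, mul_assoc, ← map_mul]⟩
    · exact Or.inr ⟨_, T.mul_mem ha hb, by rw [mul_assoc, ← map_mul]⟩
    · refine Or.inl ⟨_, T.mul_mem (hT e he2) (T.mul_mem (T.inv_mem ha) hb), ?_⟩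
      rw [map_mul, he, mul_assoc, ← mul_assoc (ι a), h.move, mul_assoc, ← map_mul, ← mul_assoc, h.sq]
  inv_mem' := by
    obtain ⟨e, he⟩ := h.neg_one_mem
    have he2 : e ^ 2 = 1 := h.inj (by rw [map_pow, he, map_one, _root_.sq, neg_mul_neg, one_mul])
    rintro g (⟨a, ha, rfl⟩ | ⟨a, ha, rfl⟩)
    · exact Or.inl ⟨_, T.inv_mem ha, (map_inv ι a).symm⟩
    · refine Or.inr ⟨_, T.mul_mem ha (hT e he2), ?_⟩
      rw [map_mul, he, ← mul_assoc]
      exact inv_eq_of_mul_eq_one_right (by rw [← mul_assoc, h.sq_outside, neg_mul_neg, one_mul])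

theorem mem_quatSub {h : IsTorus ι w} {T : Subgroup A} {hT : ∀ e : A, e ^ 2 = 1 → e ∈ T} {g : SL(2, F)} :
    g ∈ quatSub h T hT ↔ (∃ a ∈ T, g = ι a) ∨ ∃ a ∈ T, g = w * ι a := Iff.rfl

theorem card_quatSub (h : IsTorus ι w) (T : Subgroup A) (hT : ∀ e : A, e ^ 2 = 1 → e ∈ T) :
    Nat.card ↥(quatSub h T hT) = 2 * Nat.card ↥T := by
  let f : ↥T × Bool → ↥(quatSub h T hT) := fun x => ⟨IsTorus.elt ι w (x.1, x.2), by
    rcases x with ⟨a, _ | _⟩
    exacts [Or.inl ⟨a, a.2, rfl⟩, Or.inr ⟨a, a.2, rfl⟩]⟩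
  have hf : Function.Bijective f := by
    refine ⟨fun x y e => ?_, ?_⟩
    · have := h.elt_injective (congrArg Subtype.val e)
      exact Prod.ext (Subtype.ext (congrArg Prod.fst this)) (congrArg Prod.snd this :)
    · rintro ⟨g, ⟨a, ha, rfl⟩ | ⟨a, ha, rfl⟩⟩
      exacts [⟨(⟨a, ha⟩, false), rfl⟩, ⟨(⟨a, ha⟩, true), rfl⟩]
  rw [← Nat.card_congr (Equiv.ofBijective f hf), Nat.card_prod, Nat.card_eq_fintype_card (α := Bool),
    Fintype.card_bool, mul_comm]

theorem IsTorus.outside_or_inside (h : IsTorus ι w) {a : A} (ha : a ^ 2 ≠ 1) {g : SL(2, F)}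
    (hg : g * ι a * g⁻¹ ∈ ι.range) : g ∈ ι.range ∨ ∃ b, g = w * ι b := by
  obtain ⟨b, hb⟩ := hg
  have htr : (ι a : M2 F).trace = (ι b : M2 F).trace := by
    have hP : (g : M2 F) * (ι a : M2 F) = (ι b : M2 F) * (g : M2 F) := by
      rw [← Matrix.SpecialLinearGroup.coe_mul, ← Matrix.SpecialLinearGroup.coe_mul, hb, inv_mul_cancel_right]
    exact (Cfsg.Agent.Lib.Linear.TwoClasses.trace_of_semiconj (by rw [g.2]; exact one_ne_zero) hP).1
  rcases h.trace a b ha htr with e | e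
  · left
    subst e
    exact h.cent b ha g (by nth_rw 2 [hb]; rw [inv_mul_cancel_right])
  · right
    subst e
    rw [← h.inv a] at hb
    obtain ⟨c, hc⟩ := h.cent a ha (w⁻¹ * g) (by
      calc w⁻¹ * g * ι a = w⁻¹ * (g * ι a * g⁻¹) * g := by group
        _ = ι a * (w⁻¹ * g) := by rw [← hb]; group)
    exact ⟨c, by rw [hc, mul_inv_cancel_left]⟩

local notation "q" => Fintype.card F

theorem IsTorus.sylow_two [IsCyclic A] (h : IsTorus ι w) (h2 : (2 : F) ≠ 0) (h4 : 4 ∣ Nat.card A) {m : ℕ}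
    (hm : m % 4 = 2) (hnm : Nat.card A * m = (q - 1) * (q + 1)) (hodd : Odd q) (S : Sylow 2 SL(2, F)) :
    Subgroup.centralizer ((S : Subgroup SL(2, F)) : Set SL(2, F)) = Subgroup.center SL(2, F) ∧
      (8 ∣ Nat.card A → Subgroup.normalizer ((S : Subgroup SL(2, F)) : Set SL(2, F)) = (S : Subgroup SL(2, F))) ∧
      (¬ 8 ∣ Nat.card A →
        Nat.card ↥(Subgroup.normalizer ((S : Subgroup SL(2, F)) : Set SL(2, F))) = 3 * Nat.card ↥(S : Subgroup SL(2, F))) := by
  classical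
  have hn0 : Nat.card A ≠ 0 := Nat.card_pos.ne'
  set k := (Nat.card A).factorization 2 with hk
  have hk2 : 2 ≤ k := (Nat.prime_two.pow_dvd_iff_le_factorization hn0).1 h4
  set T : Subgroup A := (powMonoidHom (2 ^ k) : A →* A).ker with hTdef
  have hTmem : ∀ a : A, a ∈ T ↔ a ^ 2 ^ k = 1 := fun a => MonoidHom.mem_ker
  have hT : ∀ e : A, e ^ 2 = 1 → e ∈ T := fun e he => (hTmem e).2 (by
    obtain ⟨j, hj⟩ : 2 ∣ 2 ^ k := dvd_pow_self 2 (by omega)
    rw [hj, pow_mul, he, one_pow])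
  have hTcard : Nat.card ↥T = 2 ^ k := by
    rw [hTdef, IsCyclic.card_powMonoidHom_ker, Nat.gcd_eq_right]
    exact Nat.ordProj_dvd _ _
  have hTsq : ∀ a : A, a ^ 2 ∈ T → a ∈ T := fun a ha => by
    rw [hTmem, ← pow_mul] at ha
    have h1 : orderOf a ∣ 2 * 2 ^ k := orderOf_dvd_of_pow_eq_one ha
    rw [← pow_succ'] at h1
    obtain ⟨j, hj, hj'⟩ := (Nat.dvd_prime_pow Nat.prime_two).1 h1
    rw [hTmem, ← orderOf_dvd_iff_pow_eq_one, hj']
    refine pow_dvd_pow 2 ?_
    exact (Nat.prime_two.pow_dvd_iff_le_factorization hn0).1 (hj' ▸ orderOf_dvd_natCard a)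
  obtain ⟨c, hc⟩ := IsCyclic.exists_generator (α := ↥T)
  have hco : orderOf (c : A) = 2 ^ k := by
    rw [Subgroup.orderOf_coe, orderOf_eq_card_of_forall_mem_zpowers hc, hTcard]
  have hc2 : (c : A) ^ 2 ≠ 1 := fun e => by
    have := Nat.le_of_dvd two_pos (hco ▸ orderOf_dvd_of_pow_eq_one e)
    have : 2 ^ 2 ≤ 2 ^ k := Nat.pow_le_pow_right two_pos hk2
    omega
  set S₀ := quatSub h T hT with hS₀
  have hcS : ι c ∈ S₀ := Or.inl ⟨c, c.2, rfl⟩
  have hwS : w ∈ S₀ := Or.inr ⟨1, T.one_mem, by rw [map_one, mul_one]⟩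
  have hfm : m.factorization 2 = 1 := by
    obtain ⟨m', rfl⟩ : 2 ∣ m := by omega
    rw [Nat.factorization_mul (by norm_num) (by omega), Finsupp.add_apply, Nat.Prime.factorization_self Nat.prime_two,
      Nat.factorization_eq_zero_of_not_dvd (by omega)]
  have hSL : (Nat.card SL(2, F)).factorization 2 = k + 1 := by
    have hqpos : 0 < q := Fintype.card_pos
    rw [card_sl_factor, mul_assoc, ← hnm, Nat.factorization_mul (by omega) (Nat.mul_ne_zero hn0 (by omega)),
      Nat.factorization_mul hn0 (by omega), Finsupp.add_apply, Finsupp.add_apply, hfm,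
      Nat.factorization_eq_zero_of_not_dvd (by obtain ⟨j, hj⟩ := hodd; omega)]
    omega
  have hcard : Nat.card ↥S₀ = 2 ^ (k + 1) := by rw [hS₀, card_quatSub, hTcard, pow_succ']
  obtain ⟨g₀, hg₀⟩ := MulAction.exists_smul_eq SL(2, F) (Sylow.ofCard S₀ (by rw [hcard, hSL])) S
  have hSe : (S : Subgroup SL(2, F)) = S₀.map (MulAut.conj g₀).toMonoidHom := by rw [← hg₀]; rfl
  -- elements of the normaliser inside the normaliser of the torus
  have hin : ∀ g ∈ Subgroup.normalizer (S₀ : Set SL(2, F)), g * ι c * g⁻¹ ∈ ι.range → g ∈ S₀ := by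
    intro g hg hgc
    have hι : ∀ a : A, ι a ∈ Subgroup.normalizer (S₀ : Set SL(2, F)) → ι a ∈ S₀ := by
      intro a ha
      refine Or.inl ⟨a, hTsq a ?_, rfl⟩
      rcases (Subgroup.mem_normalizer_iff.1 ha w).1 hwS with ⟨b, -, hb⟩ | ⟨b, hb, e⟩
      · exfalso
        rw [h.move, mul_assoc, ← map_inv, ← map_mul] at hb
        exact h.not_mem _ ⟨b, hb.symm⟩
      · rw [h.move, mul_assoc, ← map_inv, ← map_mul] at e
        have := h.inj (mul_left_cancel e)
        rw [← inv_inv a, inv_pow, _root_.sq, this]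
        exact T.inv_mem hb
    rcases h.outside_or_inside hc2 hgc with ⟨a, rfl⟩ | ⟨a, rfl⟩
    · exact hι a hg
    · refine Subgroup.mul_mem _ hwS (hι a ?_)
      have hw' : w ∈ Subgroup.normalizer (S₀ : Set SL(2, F)) := Subgroup.le_normalizer hwS
      simpa using Subgroup.mul_mem _ (Subgroup.inv_mem _ hw') hg
  refine ⟨?_, fun h8 => ?_, fun h8 => ?_⟩
  · rw [hSe, centralizer_map_equiv]
    have hC : Subgroup.centralizer (S₀ : Set SL(2, F)) = Subgroup.center SL(2, F) := by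
      refine le_antisymm (fun g hg => ?_) (Subgroup.center_le_centralizer _)
      rw [Subgroup.mem_centralizer_iff] at hg
      obtain ⟨a, rfl⟩ := h.cent c hc2 g (hg _ hcS).symm
      have e := hg w hwS
      rw [h.move, mul_right_inj] at e
      have hs : (ι a) ^ 2 = 1 := by rw [_root_.sq]; nth_rw 2 [e]; rw [map_inv, mul_inv_cancel]
      have hpm := Cfsg.Agent.S0261.sq_one h2 _ hs
      rw [Subgroup.mem_center_iff]
      intro x
      refine Subtype.ext ?_
      rw [Matrix.SpecialLinearGroup.coe_mul, Matrix.SpecialLinearGroup.coe_mul]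
      rcases hpm with e' | e' <;> simp [e']
    rw [hC]
    ext x
    constructor
    · rintro ⟨z, hz, rfl⟩
      have : (MulAut.conj g₀).toMonoidHom z = z := by
        show g₀ * z * g₀⁻¹ = z
        rw [Subgroup.mem_center_iff.1 hz g₀, mul_inv_cancel_right]
      rwa [this]
    · intro hx
      refine ⟨x, hx, ?_⟩
      show g₀ * x * g₀⁻¹ = x
      rw [Subgroup.mem_center_iff.1 hx g₀, mul_inv_cancel_right]
  · have hk3 : 3 ≤ k := (Nat.prime_two.pow_dvd_iff_le_factorization hn0).1 h8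
    rw [hSe, ← Subgroup.map_equiv_normalizer_eq]
    congr 1
    refine le_antisymm (fun g hg => hin g hg ?_) Subgroup.le_normalizer
    rcases (Subgroup.mem_normalizer_iff.1 hg (ι c)).1 hcS with ⟨b, -, hb⟩ | ⟨b, -, hb⟩
    · exact ⟨b, hb.symm⟩
    · exfalso
      have h4' : (g * ι c * g⁻¹) ^ 4 = 1 := by
        rw [hb, show 4 = 2 * 2 from rfl, pow_mul, _root_.sq (w * ι b), h.sq_outside, _root_.sq, neg_mul_neg, one_mul]
      rw [conj_pow, conj_eq_one_iff, ← map_pow, ← map_one ι] at h4'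
      have := Nat.le_of_dvd (by norm_num) (hco ▸ orderOf_dvd_of_pow_eq_one (h.inj h4'))
      have : 2 ^ 3 ≤ 2 ^ k := Nat.pow_le_pow_right two_pos hk3
      omega
  · have hkeq : k = 2 := by
      by_contra hne
      exact h8 ((Nat.prime_two.pow_dvd_iff_le_factorization hn0).2 (show 3 ≤ k by omega))
    rw [hSe, card_normalizer_map, Subgroup.card_map_of_injective (f := (MulAut.conj g₀).toMonoidHom)
      (MulAut.conj g₀).injective, hcard, hkeq]
    set N := Subgroup.normalizer (S₀ : Set SL(2, F))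
    have h8N : 8 ∣ Nat.card ↥N := by
      have := Subgroup.card_dvd_of_le (Subgroup.le_normalizer : S₀ ≤ N)
      rwa [hcard, hkeq] at this
    have h16 : ¬ 16 ∣ Nat.card ↥N := fun e => by
      have := (Nat.prime_two.pow_dvd_iff_le_factorization (Nat.card_pos (α := SL(2, F))).ne').1
        (show 2 ^ 4 ∣ _ from e.trans (Subgroup.card_subgroup_dvd_card N))
      omega
    -- the upper bound
    have hle : Nat.card ↥N ≤ 4 * 8 := by
      have : Fintype ↥N := Fintype.ofFinite _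
      have : Fintype ↥S₀ := Fintype.ofFinite _
      let φ : ↥N → ↥S₀ := fun g => ⟨g * ι c * (g : SL(2, F))⁻¹, (Subgroup.mem_normalizer_iff.1 g.2 _).1 hcS⟩
      rw [Nat.card_eq_fintype_card, ← Finset.card_univ]
      refine (Finset.card_le_mul_card_image (f := φ) _ 4 fun b hb => ?_).trans (Nat.mul_le_mul_left 4 ?_)
      · obtain ⟨g₁, -, rfl⟩ := Finset.mem_image.1 hb
        have key : ∀ g : ↥N, φ g = φ g₁ → ∃ a : ↥T, (g₁ : SL(2, F)) * ι a = g := by
          intro g e
          have e' : (g : SL(2, F)) * ι c * (g : SL(2, F))⁻¹ = g₁ * ι c * (g₁ : SL(2, F))⁻¹ := congrArg Subtype.val e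
          have hcomm : (g₁ : SL(2, F))⁻¹ * g * ι c = ι c * ((g₁ : SL(2, F))⁻¹ * g) := by
            calc (g₁ : SL(2, F))⁻¹ * g * ι c = (g₁ : SL(2, F))⁻¹ * (g * ι c * (g : SL(2, F))⁻¹) * g := by group
              _ = ι c * ((g₁ : SL(2, F))⁻¹ * g) := by rw [e']; group
          obtain ⟨a, ha⟩ := h.cent c hc2 _ hcomm
          have haS : ι a ∈ S₀ := hin _ (ha ▸ Subgroup.mul_mem _ (Subgroup.inv_mem _ g₁.2) g.2)
            ⟨c, by rw [← map_inv, ← map_mul, ← map_mul, mul_right_comm, mul_inv_cancel, one_mul]⟩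
          rcases haS with ⟨a', ha', he⟩ | ⟨a', -, he⟩
          · exact ⟨⟨a, h.inj he ▸ ha'⟩, by rw [ha, mul_inv_cancel_left]⟩
          · exact absurd ⟨a, he⟩ (h.not_mem a')
        choose a ha using key
        refine le_trans ?_ (le_of_eq (show Nat.card ↥T = 4 by rw [hTcard, hkeq]; norm_num))
        rw [← Nat.card_eq_finsetCard]
        refine Nat.card_le_card_of_injective (fun g => a g.1 (Finset.mem_filter.1 g.2).2) fun x y e => ?_
        exact Subtype.ext (Subtype.ext (by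
          rw [← ha x.1 (Finset.mem_filter.1 x.2).2, ← ha y.1 (Finset.mem_filter.1 y.2).2]
          exact congrArg (fun z : ↥T => (g₁ : SL(2, F)) * ι z) e))
      · refine (Finset.card_le_univ _).trans (le_of_eq ?_)
        rw [← Nat.card_eq_fintype_card, hcard, hkeq]
        norm_num
    -- a permutation of the axes
    have hX : ι c * ι c = -1 := by
      have hs : ((c : A) ^ 2) ^ 2 = 1 := by
        rw [← pow_mul, show 2 * 2 = 2 ^ k by rw [hkeq]; norm_num, ← hco, pow_orderOf_eq_one]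
      have := Cfsg.Agent.S0261.sq_one h2 (ι ((c : A) ^ 2)) (by rw [← map_pow, hs, map_one])
      rw [← map_mul, ← _root_.sq]
      rcases this with e | e
      · exfalso
        exact hc2 (h.inj (by rw [map_one]; exact Subtype.ext (by rw [e, Matrix.SpecialLinearGroup.coe_one])))
      · exact Subtype.ext (by rw [e, Matrix.SpecialLinearGroup.coe_neg, Matrix.SpecialLinearGroup.coe_one])
    have hinvc : ι ((c : A)⁻¹) = -ι c := by
      rw [map_inv]
      exact inv_eq_of_mul_eq_one_right (by rw [mul_neg, hX, neg_neg])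
    obtain ⟨g, hg1, hg2⟩ := exists_quat_perm h2 hX h.sq (by
      rw [h.move, hinvc, mul_neg, neg_neg])
    have hgX : g * ι c * g⁻¹ = w := by rw [hg1, mul_inv_cancel_right]
    have hgN : g ∈ N := by
      have hsub : S₀ ≤ S₀.comap (MulAut.conj g).toMonoidHom := by
        have hw2 : g * w * g⁻¹ ∈ S₀ := by rw [hg2, mul_inv_cancel_right]; exact Subgroup.mul_mem _ hcS hwS
        have hT' : ∀ a ∈ T, ι a ∈ S₀.comap (MulAut.conj g).toMonoidHom := fun a ha => by
          obtain ⟨i, hi⟩ := Subgroup.mem_zpowers_iff.1 (hc ⟨a, ha⟩)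
          rw [show a = (c : A) ^ i from (congrArg Subtype.val hi).symm, map_zpow]
          refine Subgroup.zpow_mem _ ?_ i
          show g * ι c * g⁻¹ ∈ S₀
          rw [hgX]
          exact hwS
        rintro x (⟨a, ha, rfl⟩ | ⟨a, ha, rfl⟩)
        · exact hT' a ha
        · exact Subgroup.mul_mem _ hw2 (hT' a ha)
      have heq : S₀.map (MulAut.conj g).toMonoidHom = S₀ := Subgroup.eq_of_le_of_card_ge (Subgroup.map_le_iff_le_comap.2 hsub)
        (le_of_eq (Subgroup.card_map_of_injective (f := (MulAut.conj g).toMonoidHom) (MulAut.conj g).injective).symm)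
      rw [Subgroup.mem_normalizer_iff]
      intro x
      constructor
      · exact fun hx => hsub hx
      · intro hx
        rw [← heq] at hx
        obtain ⟨y, hy, e⟩ := hx
        rwa [← (MulAut.conj g).injective e]
    have hgS : g ∉ S₀ := fun hg => by
      have hr : g * ι c * g⁻¹ ∈ ι.range := by
        have : g ∈ Subgroup.normalizer (ι.range : Set SL(2, F)) := h.mem_normalizer.2 (by
          rcases hg with ⟨a, -, e⟩ | ⟨a, -, e⟩
          exacts [Or.inl ⟨a, e.symm⟩, Or.inr ⟨a, e⟩])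
        exact (Subgroup.mem_normalizer_iff.1 this _).1 ⟨c, rfl⟩
      rw [hgX] at hr
      exact h.not_mem 1 (by rwa [map_one, mul_one])
    have hne : Nat.card ↥N ≠ 8 := fun e => hgS (by
      rwa [Subgroup.eq_of_le_of_card_ge (Subgroup.le_normalizer : S₀ ≤ N) (by rw [e, hcard, hkeq]; norm_num)])
    obtain ⟨j, hj⟩ := h8N
    rw [hj] at hle h16 hne
    have : j ≠ 2 := fun e => h16 (by rw [e])
    have : j ≠ 4 := fun e => h16 (by rw [e]; norm_num)
    have := Nat.card_pos (α := ↥N)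
    show Nat.card ↥N = 3 * 2 ^ (2 + 1)
    rw [show 3 * 2 ^ (2 + 1) = 24 from rfl]
    omega

end Cfsg.Lib.TwoDim
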