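import Cfsg.Agent.Lib.TwoDim.QuadExt

/-!
# Summing functions of trace and determinant over `2 × 2` matrices of given determinant

`ofData s v` takes the value `s c` at the scalar matrix `c` and `v (trace M) (det M)` elsewhere.
-/

set_option autoImplicit false
set_option linter.unusedSectionVars false

namespace Cfsg.Lib.TwoDim

open Finset Matrix

universe u

variable {F : Type u} [Field F]

/-- Two by two matrices. -/
abbrev M2 (F : Type u) : Type u := Matrix (Fin 2) (Fin 2) F

/-- Being a scalar matrix. -/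
def IsSc (M : M2 F) : Prop := M 0 1 = 0 ∧ M 1 0 = 0 ∧ M 0 0 = M 1 1

instance [DecidableEq F] : DecidablePred (IsSc (F := F)) := fun M => inferInstanceAs (Decidable (_ ∧ _ ∧ _))

theorem isSc_iff {M : M2 F} : IsSc M ↔ ∃ c : F, M = c • 1 := by
  constructor
  · rintro ⟨h1, h2, h3⟩
    refine ⟨M 0 0, ?_⟩
    ext i j
    fin_cases i <;> fin_cases j <;> simp [h1, h2, h3]
  · rintro ⟨c, rfl⟩
    simp [IsSc]

variable [DecidableEq F]

/-- A function of trace and determinant, corrected at the scalar matrices. -/
def ofData (s : F → ℂ) (v : F → F → ℂ) (M : M2 F) : ℂ := if IsSc M then s (M 0 0) else v M.trace M.det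

theorem ofData_smul (s : F → ℂ) (v : F → F → ℂ) (c : F) : ofData s v (c • 1 : M2 F) = s c := by
  rw [ofData, if_pos (isSc_iff.2 ⟨c, rfl⟩)]
  simp

theorem ofData_of_not {s : F → ℂ} {v : F → F → ℂ} {M : M2 F} (h : ¬ IsSc M) :
    ofData s v M = v M.trace M.det := if_neg h

theorem ofData_mul (s s' : F → ℂ) (v v' : F → F → ℂ) (M : M2 F) :
    ofData s v M * ofData s' v' M = ofData (fun c => s c * s' c) (fun t d => v t d * v' t d) M := by
  unfold ofData
  split_ifs <;> rfl

theorem ofData_star (s : F → ℂ) (v : F → F → ℂ) (M : M2 F) :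
    star (ofData s v M) = ofData (fun c => star (s c)) (fun t d => star (v t d)) M := by
  unfold ofData
  split_ifs <;> rfl

theorem isSc_conj {M N P : M2 F} (hP : P.det ≠ 0) (h : P * M = N * P) : IsSc M ↔ IsSc N := by
  have hu := Ne.isUnit hP
  rw [isSc_iff, isSc_iff]
  constructor
  · rintro ⟨c, rfl⟩
    refine ⟨c, ?_⟩
    rw [← Matrix.mul_nonsing_inv_cancel_right (A := P) N hu, ← h]
    simp [Matrix.mul_nonsing_inv _ hu]
  · rintro ⟨c, rfl⟩
    refine ⟨c, ?_⟩
    rw [← Matrix.nonsing_inv_mul_cancel_left (A := P) M hu, h]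
    simp [Matrix.nonsing_inv_mul _ hu]

theorem ofData_conj (s : F → ℂ) (v : F → F → ℂ) {M N P : M2 F} (hP : P.det ≠ 0) (h : P * M = N * P) :
    ofData s v M = ofData s v N := by
  have hu := Ne.isUnit hP
  unfold ofData
  by_cases hM : IsSc M
  · have hN := (isSc_conj hP h).1 hM
    rw [if_pos hM, if_pos hN]
    obtain ⟨c, rfl⟩ := isSc_iff.1 hM
    obtain ⟨c', rfl⟩ := isSc_iff.1 hN
    rw [mul_smul_comm, mul_one, smul_mul_assoc, one_mul] at h
    have : P ≠ 0 := fun h0 => hP (by rw [h0]; simp)
    have h' : (c - c') • P = 0 := by rw [sub_smul, h, sub_self]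
    rw [sub_eq_zero.1 ((smul_eq_zero.1 h').resolve_right this)]
  · rw [if_neg hM, if_neg fun hN => hM ((isSc_conj hP h).2 hN)]
    have h1 : M = P⁻¹ * N * P := by rw [mul_assoc, ← h, Matrix.nonsing_inv_mul_cancel_left (A := P) M hu]
    rw [h1, Matrix.trace_mul_cycle, Matrix.mul_nonsing_inv _ hu, one_mul, Matrix.det_mul, Matrix.det_mul,
      Matrix.det_nonsing_inv, mul_right_comm, Ring.inverse_mul_cancel _ hu, one_mul]

variable [Fintype F]

local notation "q" => Fintype.card F

/-- The matrices with given trace and determinant. -/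
def fib (t d : F) : Finset (M2 F) := Finset.univ.filter fun M => M.trace = t ∧ M.det = d

theorem card_hyperbola (e : F) :
    (((Finset.univ : Finset (F × F)).filter fun x => x.1 * x.2 = e).card : ℂ) =
      ((q : ℂ) - 1) + if e = 0 then (q : ℂ) else 0 := by
  rw [Finset.card_filter, Fintype.sum_prod_type, Nat.cast_sum,
    ← Finset.sum_add_sum_compl {(0 : F)}, Finset.sum_singleton]
  have h1 : (∑ c : F, if (0 : F) * c = e then 1 else 0) = if e = 0 then q else 0 := by
    simp only [zero_mul, eq_comm (a := (0 : F))]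
    split_ifs <;> simp
  have h2 : ∀ b ∈ ({(0 : F)} : Finset F)ᶜ, ((∑ c : F, if b * c = e then 1 else 0 : ℕ) : ℂ) = 1 := by
    intro b hb
    have hb' : b ≠ 0 := by simpa using hb
    simp [← eq_inv_mul_iff_mul_eq₀ hb']
  rw [h1, Finset.sum_congr rfl h2, Finset.sum_const, Finset.card_compl, Finset.card_singleton, nsmul_eq_mul, mul_one,
    Nat.cast_sub Fintype.card_pos, add_comm]
  split_ifs <;> simp

theorem card_fib (t d : F) :
    ((fib t d).card : ℂ) = (q : ℂ) ^ 2 + (q : ℂ) * (((roots t d).card : ℂ) - 1) := by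
  have h1 : (fib t d).card =
      ((Finset.univ : Finset F).sigma fun a =>
        (Finset.univ : Finset (F × F)).filter fun x => x.1 * x.2 = a * (t - a) - d).card := by
    refine Finset.card_bij' (fun M _ => ⟨M 0 0, (M 0 1, M 1 0)⟩)
      (fun x _ => !![x.1, x.2.1; x.2.2, t - x.1]) ?_ ?_ ?_ ?_
    · intro M hM
      simp only [fib, Finset.mem_filter, Finset.mem_univ, true_and] at hM
      simp only [Finset.mem_sigma, Finset.mem_filter, Finset.mem_univ, true_and]
      rw [← hM.1, ← hM.2, Matrix.trace_fin_two, Matrix.det_fin_two]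
      ring
    · intro x hx
      simp only [Finset.mem_sigma, Finset.mem_filter, Finset.mem_univ, true_and] at hx
      simp only [fib, Finset.mem_filter, Finset.mem_univ, true_and, Matrix.trace_fin_two, Matrix.det_fin_two]
      refine ⟨by simp, ?_⟩
      simp [hx]
    · intro M hM
      simp only [fib, Finset.mem_filter, Finset.mem_univ, true_and] at hM
      ext i j
      fin_cases i <;> fin_cases j <;> simp [← hM.1, Matrix.trace_fin_two]
    · intro x _
      simp
  rw [h1, Finset.card_sigma, Nat.cast_sum, Finset.sum_congr rfl fun a _ => card_hyperbola (a * (t - a) - d),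
    Finset.sum_add_distrib, Finset.sum_const, Finset.card_univ, nsmul_eq_mul, Finset.sum_ite, Finset.sum_const_zero,
    add_zero, Finset.sum_const, nsmul_eq_mul]
  have h2 : (Finset.univ.filter fun a : F => a * (t - a) - d = 0) = roots t d := by
    ext a
    rw [mem_roots, Finset.mem_filter]
    exact ⟨fun h => by linear_combination -h.2, fun h => ⟨Finset.mem_univ a, by linear_combination -h⟩⟩
  rw [h2]
  ring

theorem card_fib_scalar {t d : F} : ((fib t d).filter IsSc).card = (droots t d).card := by
  refine Finset.card_bij' (fun M _ => M 0 0) (fun c _ => (c • 1 : M2 F)) ?_ ?_ ?_ ?_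
  · intro M hM
    simp only [fib, Finset.mem_filter, Finset.mem_univ, true_and, Matrix.trace_fin_two, Matrix.det_fin_two] at hM
    obtain ⟨⟨h1, h2⟩, h3, h4, h5⟩ := hM
    simp only [droots, Finset.mem_filter, mem_roots]
    rw [h3, h4, ← h5] at h2
    rw [← h5] at h1
    refine ⟨by linear_combination -h2 + M 0 0 * h1, by linear_combination h1⟩
  · intro c hc
    simp only [droots, Finset.mem_filter, mem_roots] at hc
    simp only [fib, Finset.mem_filter, Finset.mem_univ, true_and]
    refine ⟨⟨by simp [Matrix.trace_fin_two]; linear_combination hc.2, ?_⟩, isSc_iff.2 ⟨c, rfl⟩⟩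
    simp [Matrix.det_fin_two]
    linear_combination -hc.1 + c * hc.2
  · intro M hM
    obtain ⟨c, rfl⟩ := isSc_iff.1 (Finset.mem_filter.1 hM).2
    simp
  · intro c _
    simp

theorem sum_fib (s : F → ℂ) (v : F → F → ℂ) (t d : F) :
    ∑ M ∈ fib t d, ofData s v M =
      (∑ c ∈ droots t d, (s c + ((q : ℂ) ^ 2 - 1) * v t d)) +
      (q : ℂ) * ((q : ℂ) + 1) / 2 * (((roots t d).card : ℂ) - (droots t d).card) * v t d +
      (q : ℂ) * ((q : ℂ) - 1) / 2 * (((kroots t d).filter (· ∈ outside)).card : ℂ) * v t d := by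
  rw [← Finset.sum_filter_add_sum_filter_not (fib t d) IsSc]
  have h1 : ∑ M ∈ (fib t d).filter IsSc, ofData s v M = ∑ c ∈ droots t d, s c := by
    refine Finset.sum_bij' (fun M _ => M 0 0) (fun c _ => (c • 1 : M2 F)) ?_ ?_ ?_ ?_ ?_
    · intro M hM
      simp only [fib, Finset.mem_filter, Finset.mem_univ, true_and, Matrix.trace_fin_two, Matrix.det_fin_two] at hM
      obtain ⟨⟨h1, h2⟩, h3, h4, h5⟩ := hM
      simp only [droots, Finset.mem_filter, mem_roots]
      rw [h3, h4, ← h5] at h2
      rw [← h5] at h1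
      refine ⟨by linear_combination -h2 + M 0 0 * h1, by linear_combination h1⟩
    · intro c hc
      simp only [droots, Finset.mem_filter, mem_roots] at hc
      simp only [fib, Finset.mem_filter, Finset.mem_univ, true_and]
      refine ⟨⟨by simp [Matrix.trace_fin_two]; linear_combination hc.2, ?_⟩, isSc_iff.2 ⟨c, rfl⟩⟩
      simp [Matrix.det_fin_two]
      linear_combination -hc.1 + c * hc.2
    · intro M hM
      obtain ⟨c, rfl⟩ := isSc_iff.1 (Finset.mem_filter.1 hM).2
      simp
    · intro c _
      simp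
    · intro M hM
      exact if_pos (Finset.mem_filter.1 hM).2
  have h2 : ∑ M ∈ (fib t d).filter (fun M => ¬ IsSc M), ofData s v M =
      (((fib t d).card : ℂ) - (droots t d).card) * v t d := by
    rw [Finset.sum_congr rfl (g := fun _ => v t d) fun M hM => ?_, Finset.sum_const, nsmul_eq_mul]
    · congr 1
      have := Finset.card_filter_add_card_filter_not (s := fib t d) IsSc
      rw [card_fib_scalar] at this
      rw [← this]; push_cast; ring
    · obtain ⟨h, h'⟩ := Finset.mem_filter.1 hM
      simp only [fib, Finset.mem_filter, Finset.mem_univ, true_and] at h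
      rw [ofData_of_not h', h.1, h.2]
  rw [h1, h2, card_fib, card_kroots_outside, Finset.sum_add_distrib, Finset.sum_const, nsmul_eq_mul]
  rcases roots_cases t d with ⟨hr, hd⟩ | ⟨hr, hd⟩ | ⟨hr, hd⟩ <;> rw [hr, hd] <;> norm_num <;> ring_nf <;> simp

/-- The sum over all matrices of a given non-zero determinant. -/
theorem sum_det {d : F} (hd : d ≠ 0) (s : F → ℂ) (v : F → F → ℂ) :
    ∑ M ∈ Finset.univ.filter (fun M : M2 F => M.det = d), ofData s v M =
      (∑ c ∈ Finset.univ.filter (fun c : F => c ^ 2 = d), (s c + ((q : ℂ) ^ 2 - 1) * v (2 * c) d)) +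
      (q : ℂ) * ((q : ℂ) + 1) / 2 *
        (∑ a ∈ Finset.univ.filter (fun a : F => a ≠ 0 ∧ a ^ 2 ≠ d), v (a + d * a⁻¹) d) +
      (q : ℂ) * ((q : ℂ) - 1) / 2 *
        (∑ k ∈ outside.filter (fun k : Quad F => nm k = d), v (tr k) d) := by
  have h0 : ∑ M ∈ Finset.univ.filter (fun M : M2 F => M.det = d), ofData s v M =
      ∑ t, ∑ M ∈ fib t d, ofData s v M := by
    rw [← Finset.sum_fiberwise _ (fun M : M2 F => M.trace)]
    refine Finset.sum_congr rfl fun t _ => Finset.sum_congr ?_ fun _ _ => rfl
    rw [Finset.filter_filter]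
    ext M
    simp [fib, and_comm]
  rw [h0, Finset.sum_congr rfl fun t _ => sum_fib s v t d, Finset.sum_add_distrib, Finset.sum_add_distrib]
  have h1 : ∑ t, ∑ c ∈ droots t d, (s c + ((q : ℂ) ^ 2 - 1) * v t d) =
      ∑ c ∈ Finset.univ.filter (fun c : F => c ^ 2 = d), (s c + ((q : ℂ) ^ 2 - 1) * v (2 * c) d) := by
    rw [Finset.sum_sigma']
    refine Finset.sum_bij' (fun x _ => x.2) (fun c _ => ⟨2 * c, c⟩) ?_ ?_ ?_ ?_ ?_
    · intro x hx
      simp only [Finset.mem_sigma, droots, Finset.mem_filter, mem_roots, Finset.mem_univ, true_and] at hx ⊢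
      linear_combination -hx.1 + x.2 * hx.2
    · intro c hc
      simp only [Finset.mem_sigma, droots, Finset.mem_filter, mem_roots, Finset.mem_univ, true_and] at hc ⊢
      refine ⟨?_, trivial⟩
      linear_combination -hc
    · intro x hx
      simp only [Finset.mem_sigma, droots, Finset.mem_filter] at hx
      obtain ⟨t, c⟩ := x
      simp only at hx ⊢
      rw [hx.2.2]
    · intro c _; rfl
    · intro x hx
      simp only [Finset.mem_sigma, droots, Finset.mem_filter] at hx
      rw [hx.2.2]
  have h2 : ∑ t, (((roots t d).card : ℂ) - (droots t d).card) * v t d =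
      ∑ a ∈ Finset.univ.filter (fun a : F => a ≠ 0 ∧ a ^ 2 ≠ d), v (a + d * a⁻¹) d := by
    have e : ∀ t, (((roots t d).card : ℂ) - (droots t d).card) * v t d =
        ∑ a ∈ (roots t d).filter (fun a => ¬ 2 * a = t), v t d := fun t => by
      have := Finset.card_filter_add_card_filter_not (s := roots t d) (fun a => 2 * a = t)
      rw [Finset.sum_const, nsmul_eq_mul]
      congr 1
      rw [← this, droots]; push_cast; ring
    rw [Finset.sum_congr rfl fun t _ => e t, Finset.sum_sigma']
    refine Finset.sum_bij' (fun x _ => x.2) (fun a _ => ⟨a + d * a⁻¹, a⟩) ?_ ?_ ?_ ?_ ?_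
    · rintro ⟨t, a⟩ hx
      simp only [Finset.mem_sigma, Finset.mem_filter, mem_roots, Finset.mem_univ, true_and] at hx ⊢
      have ha : a ≠ 0 := fun h => hd (by rw [h] at hx; linear_combination hx.1)
      refine ⟨ha, fun h => hx.2 ?_⟩
      have : a * (2 * a - t) = 0 := by linear_combination hx.1 + h
      linear_combination (mul_eq_zero.1 this).resolve_left ha
    · intro a ha
      simp only [Finset.mem_sigma, Finset.mem_filter, mem_roots, Finset.mem_univ, true_and] at ha ⊢
      refine ⟨by field_simp [ha.1]; ring, fun h => ha.2 ?_⟩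
      field_simp [ha.1] at h
      linear_combination h
    · rintro ⟨t, a⟩ hx
      simp only [Finset.mem_sigma, Finset.mem_filter, mem_roots] at hx
      have ha : a ≠ 0 := fun h => hd (by rw [h] at hx; linear_combination hx.2.1)
      have : a + d * a⁻¹ = t := by field_simp [ha]; linear_combination hx.2.1
      simp only [this]
    · intro a _; rfl
    · rintro ⟨t, a⟩ hx
      simp only [Finset.mem_sigma, Finset.mem_filter, mem_roots] at hx
      have ha : a ≠ 0 := fun h => hd (by rw [h] at hx; linear_combination hx.2.1)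
      have : a + d * a⁻¹ = t := by field_simp [ha]; linear_combination hx.2.1
      simp only [this]
  have h3 : ∑ t, (((kroots t d).filter (· ∈ outside)).card : ℂ) * v t d =
      ∑ k ∈ outside.filter (fun k : Quad F => nm k = d), v (tr k) d := by
    rw [← Finset.sum_fiberwise _ (fun k : Quad F => tr k)]
    refine Finset.sum_congr rfl fun t _ => ?_
    rw [Finset.sum_congr rfl (g := fun _ => v t d) fun k hk => by rw [(Finset.mem_filter.1 hk).2],
      Finset.sum_const, nsmul_eq_mul]
    congr 3
    ext k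
    simp only [Finset.mem_filter, mem_kroots]
    tauto
  rw [h1, ← h2, ← h3, Finset.mul_sum, Finset.mul_sum]
  congr 1
  · congr 1
    refine Finset.sum_congr rfl fun t _ => ?_
    ring
  · refine Finset.sum_congr rfl fun t _ => ?_
    ring

end Cfsg.Lib.TwoDim
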