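import Cfsg.Agent.Lib.TwoDim.DegreeSets
import Cfsg.Agent.Lib.TwoDim.Sylows
import Cfsg.Agent.Lib.Block.CentralDefect
import Cfsg.Agent.Lib.Block.PGaloisDegree
import Cfsg.Agent.Lib.Block.DefectLocal
import Cfsg.Agent.Lib.Block.Supp

/-!
# The blocks of `SL₂` in the defining characteristic

The Steinberg character is alone in its block; the other characters fall into two blocks according to the
sign at the central involution.
-/

set_option autoImplicit false

namespace Cfsg.Lib.TwoDim

open Matrix Cfsg Cfsg.Lib.Block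
open scoped MatrixGroups

universe u

variable {F : Type u} [Field F] [Fintype F] [DecidableEq F]
variable (p : ℕ) [Fact p.Prime] [CharP F p]

theorem neg_one_sq : (-1 : SL(2, F)) * -1 = 1 := by simp

theorem neg_one_mem_center : (-1 : SL(2, F)) ∈ Subgroup.center SL(2, F) :=
  Subgroup.mem_center_iff.2 fun g => by simp

theorem neg_one_ne_one (hp : p ≠ 2) : (-1 : SL(2, F)) ≠ 1 := fun e => by
  have h := congrFun (congrFun (congrArg Subtype.val e) 0) 0
  simp at h
  exact Ring.neg_one_ne_one_of_char_ne_two (fun h2 => hp (by rw [ringChar.eq F p] at h2; exact h2)) h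

theorem orderOf_neg_one (hp : p ≠ 2) : orderOf (-1 : SL(2, F)) = 2 :=
  orderOf_eq_prime (by rw [pow_two, neg_one_sq]) (neg_one_ne_one p hp)

theorem not_dvd_two (hp : p ≠ 2) : ¬ p ∣ 2 := fun h =>
  hp ((Nat.prime_dvd_prime_iff_eq (Fact.out : p.Prime) Nat.prime_two).1 h)

/-- Only the centre has order prime to `p` and commutes with a non-trivial `p`-element. -/
theorem central_of_commute (hp2 : p ≠ 2) {x y : SL(2, F)} {k : ℕ} (hx : orderOf x = p ^ k) (hx1 : x ≠ 1)
    (hy : ¬ p ∣ orderOf y) (hc : Commute x y) : y = 1 ∨ y = -1 := by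
  have hp := (Fact.out : p.Prime)
  obtain ⟨N, hN⟩ : ∃ N : Matrix (Fin 2) (Fin 2) F, N = (x : Matrix (Fin 2) (Fin 2) F) - 1 := ⟨_, rfl⟩
  have hN0 : N ≠ 0 := fun e => hx1 (Subtype.ext (by rw [hN, sub_eq_zero] at e; exact e))
  haveI : CharP (Matrix (Fin 2) (Fin 2) F) p := inferInstance
  have hnil : IsNilpotent N := by
    refine ⟨p ^ k, ?_⟩
    rw [hN, sub_pow_char_pow_of_commute _ _ (Commute.one_right _), one_pow, sub_eq_zero, ← hx]
    exact congrArg Subtype.val (pow_orderOf_eq_one x)
  have htr : N 0 0 + N 1 1 = 0 := by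
    have := (Matrix.isNilpotent_trace_of_isNilpotent hnil).eq_zero
    rwa [Matrix.trace_fin_two] at this
  have hdet : N 0 0 * N 1 1 - N 0 1 * N 1 0 = 0 := by
    obtain ⟨m, hm⟩ := hnil
    have hd : N.det ^ m = 0 := by
      rw [← Matrix.det_pow, hm]
      rcases Nat.eq_zero_or_pos m with rfl | _
      · rw [pow_zero] at hm; exact absurd hm one_ne_zero
      · simp
    rw [← Matrix.det_fin_two]
    exact eq_zero_of_pow_eq_zero hd
  -- an element commuting with a non-zero nilpotent matrix is a scalar plus a multiple of it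
  obtain ⟨a, c, hac⟩ : ∃ a c : F, (y : Matrix (Fin 2) (Fin 2) F) = a • 1 + c • N := by
    have e : N * (y : Matrix (Fin 2) (Fin 2) F) = (y : Matrix (Fin 2) (Fin 2) F) * N := by
      rw [hN, sub_mul, mul_sub, one_mul, mul_one]
      exact congrArg (· - (y : Matrix (Fin 2) (Fin 2) F)) (congrArg Subtype.val hc.eq)
    obtain ⟨Y, hY⟩ : ∃ Y : Matrix (Fin 2) (Fin 2) F, Y = (y : Matrix (Fin 2) (Fin 2) F) := ⟨_, rfl⟩
    rw [← hY] at e ⊢
    have e00 := congrFun (congrFun e 0) 0
    have e01 := congrFun (congrFun e 0) 1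
    have e10 := congrFun (congrFun e 1) 0
    simp only [Matrix.mul_apply, Fin.sum_univ_two] at e00 e01 e10
    rw [eq_neg_of_add_eq_zero_right htr] at e01 e10 hdet
    by_cases hb : N 0 1 = 0
    · have ha : N 0 0 = 0 := by
        rw [hb, zero_mul, sub_zero, mul_neg, neg_eq_zero, mul_self_eq_zero] at hdet
        exact hdet
      have hd : N 1 1 = 0 := by rw [eq_neg_of_add_eq_zero_right htr, ha, neg_zero]
      have hg : N 1 0 ≠ 0 := fun h => hN0 (by ext i j; fin_cases i <;> fin_cases j <;> assumption)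
      refine ⟨Y 0 0, Y 1 0 / N 1 0, ?_⟩
      simp [hb, ha] at e00 e01 e10
      ext i j
      fin_cases i <;> fin_cases j <;> simp [hb, ha, hd, hg]
      · exact e00.resolve_right hg
      · exact mul_right_cancel₀ hg (by linear_combination -e10)
    · refine ⟨Y 0 0 - Y 0 1 / N 0 1 * N 0 0, Y 0 1 / N 0 1, ?_⟩
      have hd : N 1 1 = -N 0 0 := eq_neg_of_add_eq_zero_right htr
      ext i j
      fin_cases i <;> fin_cases j <;> simp [hd]
      · field_simp
      · field_simp; linear_combination e00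
      · field_simp; linear_combination e01
  have hNN : N * N = 0 := by
    have hd : N 1 1 = -N 0 0 := eq_neg_of_add_eq_zero_right htr
    have hdet' : N 0 0 * N 0 0 + N 0 1 * N 1 0 = 0 := by
      rw [hd] at hdet
      linear_combination -hdet
    ext i j
    fin_cases i <;> fin_cases j <;> simp [Matrix.mul_apply, Fin.sum_univ_two, hd]
    · linear_combination hdet'
    · ring
    · ring
    · linear_combination hdet'
  have ha : a = 1 ∨ a = -1 := by
    have h1 := y.2
    rw [hac, Matrix.det_fin_two] at h1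
    simp at h1
    refine sq_eq_one_iff.1 ?_
    linear_combination h1 - a * c * htr - c ^ 2 * hdet
  have hpow : ∀ m : ℕ, ((y : Matrix (Fin 2) (Fin 2) F)) ^ m = a ^ m • 1 + ((m : F) * a ^ (m - 1) * c) • N := by
    intro m
    induction m with
    | zero => simp
    | succ m ih =>
      rw [pow_succ, ih, hac, add_mul, mul_add, mul_add]
      simp only [Matrix.smul_mul, Matrix.mul_smul, one_mul, mul_one, hNN, smul_zero, add_zero, smul_smul]
      rw [add_assoc, ← add_smul]
      congr 1
      · rw [← pow_succ']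
      · congr 1
        rcases m with _ | m
        · simp
        · push_cast
          ring
  have hc0 : c = 0 := by
    have h1 : ((y : Matrix (Fin 2) (Fin 2) F)) ^ orderOf y = 1 := congrArg Subtype.val (pow_orderOf_eq_one y)
    have h2 := hpow (orderOf y * 2)
    rw [pow_mul, h1, one_pow, mul_comm (orderOf y) 2, pow_mul a, show a ^ 2 = 1 from sq_eq_one_iff.2 ha, one_pow,
      one_smul, left_eq_add, smul_eq_zero] at h2
    have h3 := h2.resolve_right hN0
    refine (mul_eq_zero.1 h3).resolve_left (mul_ne_zero ?_ (pow_ne_zero _ ?_))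
    · intro h0
      rcases (hp.dvd_mul).1 ((CharP.cast_eq_zero_iff F p _).1 h0) with h | h
      · exact hp2 ((Nat.prime_dvd_prime_iff_eq hp Nat.prime_two).1 h)
      · exact hy h
    · intro e
      rcases ha with h | h <;> rw [h] at e
      · exact one_ne_zero e
      · exact neg_ne_zero.2 one_ne_zero e
  rw [hc0, zero_smul, add_zero] at hac
  rcases ha with rfl | rfl
  · exact Or.inl (Subtype.ext (by rw [hac, one_smul]; rfl))
  · exact Or.inr (Subtype.ext (by rw [hac]; simp))

/-- An element whose centralizer has order divisible by `p` and whose order is not is central. -/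
theorem central_of_dvd_cenCard (hp2 : p ≠ 2) {g : SL(2, F)} (hg : ¬ p ∣ orderOf g) (hdvd : p ∣ cenCard g) :
    g = 1 ∨ g = -1 := by
  obtain ⟨x, hx⟩ := exists_prime_orderOf_dvd_card' p hdvd
  have hx' : orderOf (x : SL(2, F)) = p := by rw [Subgroup.orderOf_coe, hx]
  refine central_of_commute p hp2 (x := (x : SL(2, F))) (k := 1) (by rw [pow_one, hx'])
    (fun e => (Fact.out : p.Prime).ne_one (by rw [← hx', e, orderOf_one])) hg ?_
  exact ((Subgroup.mem_centralizer_iff.1 x.2) g rfl).symm

variable (M : Ideal AlgInt)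

theorem centralChar_central (χ : IrrCharacter SL(2, F)) {z : SL(2, F)} (hz : z ∈ Subgroup.center SL(2, F)) :
    centralChar (χ : SL(2, F) → ℂ) z = (χ : SL(2, F) → ℂ) z / (χ : SL(2, F) → ℂ) 1 := by
  rw [centralChar, show Subgroup.centralizer ({z} : Set SL(2, F)) = ⊤ from
    eq_top_iff.2 fun g _ => Subgroup.mem_centralizer_iff.2 (by
      rintro h rfl; exact (Subgroup.mem_center_iff.1 hz g).symm), Subgroup.index_top]
  simp

/-- The sign of a character at `-1`. -/
theorem exists_sign (χ : IrrCharacter SL(2, F)) :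
    ∃ s : ℂ, (s = 1 ∨ s = -1) ∧ ∀ g, (χ : SL(2, F) → ℂ) (-1 * g) = s * (χ : SL(2, F) → ℂ) g := by
  obtain ⟨c, hc, hcg⟩ := exists_central_scalar χ neg_one_mem_center
  refine ⟨c, ?_, hcg⟩
  have h1 := hcg (-1)
  have h2 := hcg 1
  rw [neg_one_sq] at h1
  rw [mul_one] at h2
  rw [h2, ← mul_assoc] at h1
  have := mul_right_cancel₀ χ.2.apply_one_ne_zero ((one_mul _).trans h1)
  exact mul_self_eq_one_iff.1 this.symm

variable {p} {M}

theorem q_dvd (hp0 : p.Prime) : p ∣ Fintype.card F := by
  obtain ⟨k, -, hk⟩ := FiniteField.card F p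
  rw [hk]; exact dvd_pow_self p k.pos.ne'

theorem degree_not_dvd (hp : p ≠ 2) (χ : IrrCharacter SL(2, F))
    (hne : (χ : SL(2, F) → ℂ) 1 ≠ (Fintype.card F : ℂ)) : ¬ p ∣ charDegree (χ : SL(2, F) → ℂ) := by
  have hq := q_dvd (F := F) (Fact.out : p.Prime)
  have h1 : ¬ p ∣ 1 := (Fact.out : p.Prime).not_dvd_one
  have hq2 := two_le_q (F := F)
  intro hd
  rcases sl_degree_cases χ.2 with h | h | h | h | ⟨ho, h⟩ | ⟨ho, h⟩
  · rw [charDegree_nat (n := 1) (by rw [h, oneR_one])] at hd
    exact h1 hd
  · exact hne (by rw [h, stR_one])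
  · rw [charDegree_nat h] at hd
    exact h1 ((Nat.dvd_add_right hq).1 hd)
  · rw [charDegree_nat h] at hd
    have := Nat.dvd_sub hq hd
    rw [Nat.sub_sub_self (by omega)] at this
    exact h1 this
  · rw [charDegree_nat h] at hd
    obtain ⟨m, hm⟩ := ho
    exact h1 ((Nat.dvd_add_right hq).1 (hd.trans ⟨2, by omega⟩))
  · rw [charDegree_nat h] at hd
    obtain ⟨m, hm⟩ := ho
    have := Nat.dvd_sub hq (hd.trans (show (Fintype.card F - 1) / 2 ∣ Fintype.card F - 1 from ⟨2, by omega⟩))
    rw [Nat.sub_sub_self (by omega)] at this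
    exact h1 this

/-- Two characters of degree prime to `p` with the same sign lie in the same block. -/
theorem sameBlock_of_sign (hM : IsPModular p M) (hp : p ≠ 2) (χ ψ : IrrCharacter SL(2, F))
    (hχ : ¬ p ∣ charDegree (χ : SL(2, F) → ℂ)) (hψ : ¬ p ∣ charDegree (ψ : SL(2, F) → ℂ))
    (hs : (χ : SL(2, F) → ℂ) (-1) / (χ : SL(2, F) → ℂ) 1 = (ψ : SL(2, F) → ℂ) (-1) / (ψ : SL(2, F) → ℂ) 1) :
    SameBlock M (χ : SL(2, F) → ℂ) (ψ : SL(2, F) → ℂ) := by
  obtain ⟨s, -, hsg⟩ := exists_sign χ
  obtain ⟨t, -, htg⟩ := exists_sign ψ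
  have hst : s = t := by
    have e1 := hsg 1
    have e2 := htg 1
    rw [mul_one] at e1 e2
    rw [e1, e2, mul_div_cancel_right₀ _ χ.2.apply_one_ne_zero, mul_div_cancel_right₀ _ ψ.2.apply_one_ne_zero] at hs
    exact hs
  intro g
  rcases eq_or_ne (pPt p g) 1 with hx | hx
  · have hreg := (pPt_eq_one_iff g).1 hx
    by_cases hdvd : p ∣ cenCard g
    · rcases central_of_dvd_cenCard p hp hreg hdvd with rfl | rfl
      · rw [centralChar_one_elt, centralChar_one_elt, sub_self]
        exact memLocalIdeal_zero hM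
      · rw [centralChar_central χ neg_one_mem_center, centralChar_central ψ neg_one_mem_center, hs, sub_self]
        exact memLocalIdeal_zero hM
    · -- the class size is divisible by `p`
      have hidx : p ∣ (Subgroup.centralizer ({g} : Set SL(2, F))).index := by
        have hG : p ∣ Nat.card SL(2, F) := by
          rw [card_sl_factor]
          exact Dvd.dvd.mul_right (Dvd.dvd.mul_right (q_dvd (Fact.out : p.Prime)) _) _
        rw [← (Subgroup.centralizer ({g} : Set SL(2, F))).card_mul_index] at hG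
        exact ((Fact.out : p.Prime).dvd_mul.1 hG).resolve_left hdvd
      have h : ∀ θ : IrrCharacter SL(2, F), ¬ p ∣ charDegree (θ : SL(2, F) → ℂ) →
          MemLocalIdeal M (centralChar (θ : SL(2, F) → ℂ) g) := fun θ hθ => by
        rw [centralChar, mul_div_assoc, mul_comm]
        refine memLocalIdeal_mul_left hM ?_ ((memLocalIdeal_natCast_iff hM _).2 hidx)
        rw [div_eq_mul_inv, apply_one_eq_charDegree θ]
        exact mul_mem (charVal_mem_locRing hM θ g) (inv_natCast_mem_locRing hM hθ)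
      exact memLocalIdeal_sub hM (h χ hχ) (h ψ hψ)
  · -- the value is congruent to the one at a central element
    obtain ⟨k, hk⟩ := exists_orderOf_pPt (p := p) g
    have hc := central_of_commute p hp hk hx (not_dvd_orderOf_pReg g) (pPt_commute_pReg g)
    have h : ∀ θ : IrrCharacter SL(2, F), ¬ p ∣ charDegree (θ : SL(2, F) → ℂ) →
        MemLocalIdeal M (centralChar (θ : SL(2, F) → ℂ) g -
          ((Subgroup.centralizer ({g} : Set SL(2, F))).index : ℂ) *
            ((θ : SL(2, F) → ℂ) (pReg p g) / (θ : SL(2, F) → ℂ) 1)) := fun θ hθ => by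
      rw [centralChar, mul_div_assoc, ← mul_sub, ← sub_div, div_eq_mul_inv, apply_one_eq_charDegree θ, mul_comm]
      refine memLocalIdeal_mul_right hM (memLocalIdeal_mul_right hM (charVal_sub_pReg_mem hM θ.2.isCharacter g)
        (inv_natCast_mem_locRing hM hθ)) (natCast_mem _ _)
    have he : (χ : SL(2, F) → ℂ) (pReg p g) / (χ : SL(2, F) → ℂ) 1 =
        (ψ : SL(2, F) → ℂ) (pReg p g) / (ψ : SL(2, F) → ℂ) 1 := by
      rcases hc with e | e <;> rw [e]
      · rw [div_self χ.2.apply_one_ne_zero, div_self ψ.2.apply_one_ne_zero]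
      · exact hs
    have := memLocalIdeal_sub hM (h χ hχ) (h ψ hψ)
    rwa [he, sub_sub_sub_cancel_right] at this

end Cfsg.Lib.TwoDim
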