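import Cfsg.Agent.Lib.TwoDim.Sums

/-!
# The families of class functions on `GL₂` and `SL₂` and their inner products
-/

set_option autoImplicit false
set_option linter.unusedSectionVars false

namespace Cfsg.Lib.TwoDim

open Finset Matrix Cfsg
open scoped MatrixGroups ComplexConjugate

universe u

variable {F : Type u} [Field F] [Fintype F] [DecidableEq F]

local notation "q" => Fintype.card F

/-- Linear, scalar values. -/
noncomputable def linS (lam : MulChar F ℂ) (c : F) : ℂ := lam (c ^ 2)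

/-- Linear, other values. -/
noncomputable def linV (lam : MulChar F ℂ) (_t d : F) : ℂ := lam d

/-- Steinberg, scalar values. -/
noncomputable def stS (lam : MulChar F ℂ) (c : F) : ℂ := (q : ℂ) * lam (c ^ 2)

/-- Steinberg, other values. -/
noncomputable def stV (lam : MulChar F ℂ) (t d : F) : ℂ := (((roots t d).card : ℂ) - 1) * lam d

/-- Cuspidal, scalar values. -/
noncomputable def cuS (θ : MulChar (Quad F) ℂ) (c : F) : ℂ := ((q : ℂ) - 1) * θ (inc c)

/-- Cuspidal, other values. -/
noncomputable def cuV (θ : MulChar (Quad F) ℂ) (t d : F) : ℂ :=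
  -tV θ t d - ∑ c ∈ droots t d, θ (inc c)

section Values

theorem roots_double (c : F) : roots (2 * c) (c ^ 2) = {c} := by
  rw [roots_eq_pair (a := c) (by rw [mem_roots]; ring), two_mul, add_sub_cancel_right, Finset.pair_eq_singleton]

theorem droots_double (c : F) : droots (2 * c) (c ^ 2) = {c} := by
  rw [droots, roots_double, Finset.filter_singleton, if_pos rfl]

theorem roots_split (a b : F) : roots (a + b) (a * b) = {a, b} := by
  rw [roots_eq_pair (a := a) (by rw [mem_roots]; ring), add_sub_cancel_left]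

theorem droots_split {a b : F} (h : a ≠ b) : droots (a + b) (a * b) = ∅ := by
  rw [droots, roots_split, Finset.filter_eq_empty_iff]
  intro x hx
  rcases Finset.mem_insert.1 hx with rfl | hx
  · exact fun e => h (by linear_combination e)
  · rw [Finset.mem_singleton] at hx
    subst hx
    exact fun e => h (by linear_combination -e)

theorem kroots_outside_of_roots {t d a : F} (ha : a ∈ roots t d) : (kroots t d).filter (· ∈ outside) = ∅ := by
  rw [← Finset.card_eq_zero, card_kroots_outside, if_neg]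
  rw [Finset.card_eq_zero]
  exact fun h => Finset.notMem_empty a (h ▸ ha)

theorem kroots_outside_elliptic {k : Quad F} (hk : k ∈ outside) :
    (kroots (tr k) (nm k)).filter (· ∈ outside) = {k, k ^ q} := by
  rw [Finset.filter_true_of_mem ?_, kroots_tr_nm]
  intro l hl
  rw [kroots_tr_nm] at hl
  rcases Finset.mem_insert.1 hl with rfl | hl
  · exact hk
  · rw [Finset.mem_singleton] at hl
    exact hl ▸ pow_mem_outside hk

theorem psV_double {c : F} (hc : c ≠ 0) (α β : MulChar F ℂ) : psV α β (2 * c) (c ^ 2) = α c * β c := by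
  rw [psV, roots_double, Finset.sum_singleton, sq, mul_inv_cancel_right₀ hc]

theorem psV_split {a b : F} (ha : a ≠ 0) (hb : b ≠ 0) (h : a ≠ b) (α β : MulChar F ℂ) :
    psV α β (a + b) (a * b) = α a * β b + α b * β a := by
  rw [psV, roots_split, Finset.sum_pair h, mul_inv_cancel_right₀ hb, mul_comm a b, mul_inv_cancel_right₀ ha]

theorem psV_elliptic {k : Quad F} (hk : k ∈ outside) (α β : MulChar F ℂ) : psV α β (tr k) (nm k) = 0 := by
  rw [psV, roots_tr_nm hk, Finset.sum_empty]

theorem cuV_double (c : F) (θ : MulChar (Quad F) ℂ) : cuV θ (2 * c) (c ^ 2) = -θ (inc c) := by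
  rw [cuV, tV, kroots_outside_of_roots (a := c) (by rw [roots_double]; exact Finset.mem_singleton_self c),
    Finset.sum_empty, neg_zero, droots_double, Finset.sum_singleton, zero_sub]

theorem cuV_split {a b : F} (h : a ≠ b) (θ : MulChar (Quad F) ℂ) : cuV θ (a + b) (a * b) = 0 := by
  rw [cuV, tV, kroots_outside_of_roots (a := a) (by rw [roots_split]; exact Finset.mem_insert_self a _),
    Finset.sum_empty, neg_zero, droots_split h, Finset.sum_empty, sub_zero]

theorem cuV_elliptic {k : Quad F} (hk : k ∈ outside) (θ : MulChar (Quad F) ℂ) :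
    cuV θ (tr k) (nm k) = -(θ k + θ (k ^ q)) := by
  have hne : k ≠ k ^ q := fun e => (mem_outside.1 hk) e.symm
  rw [cuV, tV, kroots_outside_elliptic hk, Finset.sum_pair hne, droots, roots_tr_nm hk]
  simp

theorem stV_double (c : F) (lam : MulChar F ℂ) : stV lam (2 * c) (c ^ 2) = 0 := by
  rw [stV, roots_double, Finset.card_singleton]; simp

theorem stV_split {a b : F} (h : a ≠ b) (lam : MulChar F ℂ) : stV lam (a + b) (a * b) = lam (a * b) := by
  rw [stV, roots_split, Finset.card_pair h]; push_cast; ring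

theorem stV_elliptic {k : Quad F} (hk : k ∈ outside) (lam : MulChar F ℂ) : stV lam (tr k) (nm k) = -lam (nm k) := by
  rw [stV, roots_tr_nm hk, Finset.card_empty]; push_cast; ring

theorem psV_double_one {c : F} (hc : c ^ 2 = 1) (α β : MulChar F ℂ) : psV α β (2 * c) 1 = α c * β c := by
  rw [← hc]
  exact psV_double (fun h => by simp [h] at hc) α β

theorem ne_inv_of_sq {a : F} (ha : a ≠ 0) (h : a ^ 2 ≠ 1) : a ≠ a⁻¹ := fun e => h (by
  rw [sq]; nth_rw 2 [e]; exact mul_inv_cancel₀ ha)

theorem psV_split_one {a : F} (ha : a ≠ 0) (h : a ^ 2 ≠ 1) (α β : MulChar F ℂ) :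
    psV α β (a + a⁻¹) 1 = α a * β a⁻¹ + α a⁻¹ * β a := by
  have := psV_split ha (inv_ne_zero ha) (ne_inv_of_sq ha h) α β
  rwa [mul_inv_cancel₀ ha] at this

theorem cuV_double_one {c : F} (hc : c ^ 2 = 1) (θ : MulChar (Quad F) ℂ) : cuV θ (2 * c) 1 = -θ (inc c) := by
  rw [← hc]; exact cuV_double c θ

theorem cuV_split_one {a : F} (ha : a ≠ 0) (h : a ^ 2 ≠ 1) (θ : MulChar (Quad F) ℂ) : cuV θ (a + a⁻¹) 1 = 0 := by
  have := cuV_split (a := a) (b := a⁻¹) (ne_inv_of_sq ha h) θ
  rwa [mul_inv_cancel₀ ha] at this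

theorem psV_swap (α β : MulChar F ℂ) (t : F) {d : F} (hd : d ≠ 0) : psV α β t d = psV β α t d := by
  have hne : ∀ a ∈ roots t d, a ≠ 0 := fun a ha h => hd (by
    rw [mem_roots, h] at ha; linear_combination ha)
  have hmem : ∀ a ∈ roots t d, d * a⁻¹ ∈ roots t d := fun a ha => by
    have h0 := hne a ha
    rw [mem_roots] at ha ⊢
    field_simp
    linear_combination d * ha
  have hinv : ∀ a ∈ roots t d, d * (d * a⁻¹)⁻¹ = a := fun a ha => by
    have h0 := hne a ha
    field_simp
  refine Finset.sum_bij' (fun a _ => d * a⁻¹) (fun a _ => d * a⁻¹) hmem hmem hinv hinv ?_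
  intro a ha
  rw [hinv a ha, mul_comm]

end Values

section InnerGL

theorem star_comb (x y : ℂ) : star (x + y) = star x + star y := star_add x y

theorem classInner_gF (s s' : F → ℂ) (v v' : F → F → ℂ) :
    classInner (gF s v) (gF s' v') = ((q : ℂ) * ((q : ℂ) + 1) * ((q : ℂ) - 1) ^ 2)⁻¹ *
      ((∑ c ∈ Finset.univ.filter (fun c : F => c ≠ 0),
          (s c * star (s' c) + ((q : ℂ) ^ 2 - 1) * (v (2 * c) (c ^ 2) * star (v' (2 * c) (c ^ 2))))) +
      (q : ℂ) * ((q : ℂ) + 1) / 2 *
        (∑ p ∈ Finset.univ.filter (fun p : F × F => p.1 ≠ 0 ∧ p.2 ≠ 0 ∧ p.1 ≠ p.2),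
          v (p.1 + p.2) (p.1 * p.2) * star (v' (p.1 + p.2) (p.1 * p.2))) +
      (q : ℂ) * ((q : ℂ) - 1) / 2 *
        (∑ k ∈ outside, v (tr k) (nm k) * star (v' (tr k) (nm k)))) := by
  rw [classInner, card_gl_cast, ← sum_gl (fun c => s c * star (s' c)) (fun t d => v t d * star (v' t d))]
  congr 1
  refine Finset.sum_congr rfl fun g _ => ?_
  rw [starRingEnd_apply, gF_apply, gF_apply, gF_apply, ofData_star, ofData_mul]

theorem classInner_sF (s s' : F → ℂ) (v v' : F → F → ℂ) :
    classInner (sF s v) (sF s' v') = ((q : ℂ) * ((q : ℂ) + 1) * ((q : ℂ) - 1))⁻¹ *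
      ((∑ c ∈ Finset.univ.filter (fun c : F => c ^ 2 = 1),
          (s c * star (s' c) + ((q : ℂ) ^ 2 - 1) * (v (2 * c) 1 * star (v' (2 * c) 1)))) +
      (q : ℂ) * ((q : ℂ) + 1) / 2 *
        (∑ a ∈ Finset.univ.filter (fun a : F => a ≠ 0 ∧ a ^ 2 ≠ 1), v (a + a⁻¹) 1 * star (v' (a + a⁻¹) 1)) +
      (q : ℂ) * ((q : ℂ) - 1) / 2 *
        (∑ k ∈ outside.filter (fun k : Quad F => nm k = 1), v (tr k) 1 * star (v' (tr k) 1))) := by
  rw [classInner, card_sl_cast, ← sum_sl (fun c => s c * star (s' c)) (fun t d => v t d * star (v' t d))]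
  congr 1
  refine Finset.sum_congr rfl fun g _ => ?_
  rw [starRingEnd_apply, sF_apply, sF_apply, sF_apply, ofData_star, ofData_mul]

theorem sum_ne_zero_filter (f : F → ℂ) (h0 : f 0 = 0) :
    ∑ c ∈ Finset.univ.filter (fun c : F => c ≠ 0), f c = ∑ c, f c :=
  Finset.sum_filter_of_ne fun c _ hc e => hc (e ▸ h0)

theorem sum_pairs_eq (f : F → F → ℂ) (h1 : ∀ b, f 0 b = 0) (h2 : ∀ a, f a 0 = 0) :
    ∑ p ∈ Finset.univ.filter (fun p : F × F => p.1 ≠ 0 ∧ p.2 ≠ 0 ∧ p.1 ≠ p.2), f p.1 p.2 =
      (∑ a, ∑ b, f a b) - ∑ a, f a a := by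
  have e1 := Finset.sum_filter_add_sum_filter_not (Finset.univ : Finset (F × F)) (fun p => p.1 ≠ p.2)
    (fun p => f p.1 p.2)
  rw [Fintype.sum_prod_type] at e1
  have e2 : ∑ p ∈ Finset.univ.filter (fun p : F × F => ¬ p.1 ≠ p.2), f p.1 p.2 = ∑ a, f a a := by
    refine Finset.sum_bij' (fun p _ => p.1) (fun a _ => (a, a)) ?_ ?_ ?_ ?_ ?_ <;>
      simp (config := { contextual := true }) [not_not, Prod.ext_iff]
  have e3 : ∑ p ∈ Finset.univ.filter (fun p : F × F => p.1 ≠ 0 ∧ p.2 ≠ 0 ∧ p.1 ≠ p.2), f p.1 p.2 =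
      ∑ p ∈ Finset.univ.filter (fun p : F × F => p.1 ≠ p.2), f p.1 p.2 := by
    refine Finset.sum_subset (fun p hp => ?_) (fun p hp hnp => ?_)
    · simp only [Finset.mem_filter, Finset.mem_univ, true_and] at hp ⊢
      exact hp.2.2
    · simp only [Finset.mem_filter, Finset.mem_univ, true_and, not_and, not_not] at hp hnp
      by_cases ha : p.1 = 0
      · rw [ha]; exact h1 _
      by_cases hb : p.2 = 0
      · rw [hb]; exact h2 _
      exact absurd (hnp ha hb) hp
  rw [e3, ← e1, e2]
  ring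

theorem sum_outside_eq (f : Quad F → ℂ) : ∑ k ∈ outside, f k = (∑ k, f k) - ∑ c : F, f (inc c) := by
  rw [← Finset.sum_add_sum_compl (outside (F := F)) f, compl_outside,
    Finset.sum_image fun a _ b _ h => inc_injective h, add_sub_cancel_right]

variable (α β α' β' lam mu : MulChar F ℂ) (θ η : MulChar (Quad F) ℂ)

theorem inner_ps_ps [Decidable (α = α')] [Decidable (β = β')] [Decidable (α = β')] [Decidable (β = α')] :
    classInner (gF (psS α β) (psV α β)) (gF (psS α' β') (psV α' β')) =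
      (if α = α' then 1 else 0) * (if β = β' then 1 else 0) +
        (if α = β' then 1 else 0) * (if β = α' then 1 else 0) := by
  rw [classInner_gF]
  have hS : ∀ c ∈ Finset.univ.filter (fun c : F => c ≠ 0),
      psS α β c * star (psS α' β' c) + ((q : ℂ) ^ 2 - 1) * (psV α β (2 * c) (c ^ 2) * star (psV α' β' (2 * c) (c ^ 2)))
        = (2 * (q : ℂ) * ((q : ℂ) + 1)) * (α c * β c * star (α' c * β' c)) := by
    intro c hc
    rw [psV_double (Finset.mem_filter.1 hc).2, psV_double (Finset.mem_filter.1 hc).2, psS, psS, StarMul.star_mul (((q : ℂ) + 1))]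
    simp only [star_add, star_natCast, star_one]
    ring
  have hP : ∀ p ∈ Finset.univ.filter (fun p : F × F => p.1 ≠ 0 ∧ p.2 ≠ 0 ∧ p.1 ≠ p.2),
      psV α β (p.1 + p.2) (p.1 * p.2) * star (psV α' β' (p.1 + p.2) (p.1 * p.2)) =
        (α p.1 * β p.2 + α p.2 * β p.1) * star (α' p.1 * β' p.2 + α' p.2 * β' p.1) := by
    intro p hp
    obtain ⟨h1, h2, h3⟩ := (Finset.mem_filter.1 hp).2
    rw [psV_split h1 h2 h3, psV_split h1 h2 h3]
  rw [Finset.sum_congr rfl hS, Finset.sum_congr rfl hP,
    Finset.sum_eq_zero (s := outside) fun k hk => by rw [psV_elliptic hk, zero_mul],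
    sum_ne_zero_filter _ (by simp [MulChar.map_zero]),
    sum_pairs_eq (fun a b => (α a * β b + α b * β a) * star (α' a * β' b + α' b * β' a)) (by simp [MulChar.map_zero]) (by simp [MulChar.map_zero])]
  have hdiag : ∑ a, (α a * β a + α a * β a) * star (α' a * β' a + α' a * β' a) =
      4 * ∑ a, α a * β a * star (α' a * β' a) := by
    rw [Finset.mul_sum]
    refine Finset.sum_congr rfl fun a _ => ?_
    simp only [star_add]
    ring
  have hall : ∑ a, ∑ b, (α a * β b + α b * β a) * star (α' a * β' b + α' b * β' a) =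
      2 * ((∑ a, α a * star (α' a)) * (∑ b, β b * star (β' b))) +
      2 * ((∑ a, α a * star (β' a)) * (∑ b, β b * star (α' b))) := by
    rw [Finset.sum_mul_sum, Finset.sum_mul_sum, two_mul, two_mul]
    conv_rhs => arg 1; arg 2; rw [Finset.sum_comm]
    conv_rhs => arg 2; arg 2; rw [Finset.sum_comm]
    simp only [← Finset.sum_add_distrib]
    refine Finset.sum_congr rfl fun a _ => Finset.sum_congr rfl fun b _ => ?_
    simp only [star_add, StarMul.star_mul]
    ring
  rw [hdiag, hall, ← Finset.mul_sum, sum_mul_star, sum_mul_star, sum_mul_star, sum_mul_star,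
    inv_mul_eq_iff_eq_mul₀ (card_gl_ne_zero (F := F))]
  split_ifs <;> ring

theorem inner_cu_cu [Decidable (θ = η)] [Decidable (θ = η ^ Fintype.card F)] :
    classInner (gF (cuS θ) (cuV θ)) (gF (cuS η) (cuV η)) =
      (if θ = η then 1 else 0) + (if θ = η ^ q then 1 else 0) := by
  rw [classInner_gF]
  have hS : ∀ c ∈ Finset.univ.filter (fun c : F => c ≠ 0),
      cuS θ c * star (cuS η c) + ((q : ℂ) ^ 2 - 1) * (cuV θ (2 * c) (c ^ 2) * star (cuV η (2 * c) (c ^ 2)))
        = (2 * (q : ℂ) * ((q : ℂ) - 1)) * (θ (inc c) * star (η (inc c))) := by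
    intro c _
    rw [cuV_double, cuV_double, cuS, cuS, StarMul.star_mul (((q : ℂ) - 1)), star_neg]
    simp only [star_sub, star_natCast, star_one]
    ring
  have hE : ∀ k ∈ outside, cuV θ (tr k) (nm k) * star (cuV η (tr k) (nm k)) =
      (θ k + θ (k ^ q)) * star (η k + η (k ^ q)) := by
    intro k hk
    rw [cuV_elliptic hk, cuV_elliptic hk, star_neg, neg_mul_neg]
  have hP : ∀ p ∈ Finset.univ.filter (fun p : F × F => p.1 ≠ 0 ∧ p.2 ≠ 0 ∧ p.1 ≠ p.2),
      cuV θ (p.1 + p.2) (p.1 * p.2) * star (cuV η (p.1 + p.2) (p.1 * p.2)) = 0 := by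
    intro p hp
    rw [cuV_split (Finset.mem_filter.1 hp).2.2.2, zero_mul]
  rw [Finset.sum_congr rfl hS, Finset.sum_congr rfl hE, Finset.sum_eq_zero hP, sum_ne_zero_filter _ (by simp [MulChar.map_zero]),
    sum_outside_eq, ← Finset.mul_sum]
  have hfix : ∑ c : F, (θ (inc c) + θ (inc c ^ q)) * star (η (inc c) + η (inc c ^ q)) =
      4 * ∑ c : F, θ (inc c) * star (η (inc c)) := by
    rw [Finset.mul_sum]
    refine Finset.sum_congr rfl fun a _ => ?_
    rw [inc_pow]
    simp only [star_add]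
    ring
  have hfrob : Function.Bijective fun k : Quad F => k ^ q :=
    Finite.injective_iff_bijective.1 fun a b h => by
      simpa only [quad_pow_pow] using congrArg (· ^ q) h
  have hall : ∑ k : Quad F, (θ k + θ (k ^ q)) * star (η k + η (k ^ q)) =
      2 * (∑ k, θ k * star (η k)) + 2 * ∑ k, θ k * star ((η ^ q) k) := by
    have e1 : ∑ k, θ (k ^ q) * star (η (k ^ q)) = ∑ k, θ k * star (η k) :=
      hfrob.sum_comp fun k => θ k * star (η k)
    have e2 : ∑ k, θ (k ^ q) * star (η k) = ∑ k, θ k * star ((η ^ q) k) := by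
      have := hfrob.sum_comp fun k => θ k * star ((η ^ q) k)
      simp only [mulChar_pow_q, quad_pow_pow] at this
      simp only [mulChar_pow_q]
      exact this
    have e3 : ∀ k : Quad F, (θ k + θ (k ^ q)) * star (η k + η (k ^ q)) = θ k * star (η k) +
        θ k * star ((η ^ q) k) + (θ (k ^ q) * star (η k) + θ (k ^ q) * star (η (k ^ q))) := by
      intro k
      rw [mulChar_pow_q, star_add]
      ring
    simp only [e3, Finset.sum_add_distrib, e1, e2]
    ring
  rw [hfix, hall, sum_mul_star, sum_mul_star, card_quad, inv_mul_eq_iff_eq_mul₀ (card_gl_ne_zero (F := F))]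
  push_cast
  split_ifs <;> ring

theorem inner_ps_cu : classInner (gF (psS α β) (psV α β)) (gF (cuS θ) (cuV θ)) = 0 := by
  rw [classInner_gF, Finset.sum_eq_zero (s := outside) fun k hk => by rw [psV_elliptic hk, zero_mul],
    Finset.sum_eq_zero (s := Finset.univ.filter fun c : F => c ≠ 0) fun c hc => ?_,
    Finset.sum_eq_zero (s := Finset.univ.filter fun p : F × F => p.1 ≠ 0 ∧ p.2 ≠ 0 ∧ p.1 ≠ p.2) fun p hp => by
      rw [cuV_split (Finset.mem_filter.1 hp).2.2.2, star_zero, mul_zero]]
  · ring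
  · rw [psV_double (Finset.mem_filter.1 hc).2, cuV_double, psS, cuS, StarMul.star_mul (((q : ℂ) - 1)), star_neg]
    simp only [star_sub, star_natCast, star_one]
    ring

theorem inner_lin_ps [Decidable (lam = α)] [Decidable (lam = β)] :
    classInner (gF (linS lam) (linV lam)) (gF (psS α β) (psV α β)) =
      (if lam = α then 1 else 0) * (if lam = β then 1 else 0) := by
  rw [classInner_gF]
  have hS : ∀ c ∈ Finset.univ.filter (fun c : F => c ≠ 0),
      linS lam c * star (psS α β c) +
          ((q : ℂ) ^ 2 - 1) * (linV lam (2 * c) (c ^ 2) * star (psV α β (2 * c) (c ^ 2)))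
        = ((q : ℂ) * ((q : ℂ) + 1)) * (lam c * lam c * star (α c * β c)) := by
    intro c hc
    rw [psV_double (Finset.mem_filter.1 hc).2, psS, linS, linV, sq c, map_mul, StarMul.star_mul (((q : ℂ) + 1))]
    simp only [star_add, star_natCast, star_one]
    ring
  have hP : ∀ p ∈ Finset.univ.filter (fun p : F × F => p.1 ≠ 0 ∧ p.2 ≠ 0 ∧ p.1 ≠ p.2),
      linV lam (p.1 + p.2) (p.1 * p.2) * star (psV α β (p.1 + p.2) (p.1 * p.2)) =
        lam p.1 * lam p.2 * star (α p.1 * β p.2 + α p.2 * β p.1) := by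
    intro p hp
    obtain ⟨h1, h2, h3⟩ := (Finset.mem_filter.1 hp).2
    rw [psV_split h1 h2 h3, linV, map_mul]
  rw [Finset.sum_congr rfl hS, Finset.sum_congr rfl hP,
    Finset.sum_eq_zero (s := outside) fun k hk => by rw [psV_elliptic hk, star_zero, mul_zero],
    sum_ne_zero_filter _ (by simp [MulChar.map_zero]),
    sum_pairs_eq (fun a b => lam a * lam b * star (α a * β b + α b * β a)) (by simp [MulChar.map_zero]) (by simp [MulChar.map_zero])]
  have hdiag : ∑ a, lam a * lam a * star (α a * β a + α a * β a) =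
      2 * ∑ a, lam a * lam a * star (α a * β a) := by
    rw [Finset.mul_sum]
    refine Finset.sum_congr rfl fun a _ => ?_
    simp only [star_add]
    ring
  have hall : ∑ a, ∑ b, lam a * lam b * star (α a * β b + α b * β a) =
      2 * ((∑ a, lam a * star (α a)) * (∑ b, lam b * star (β b))) := by
    rw [Finset.sum_mul_sum, two_mul]
    conv_rhs => arg 2; rw [Finset.sum_comm]
    simp only [← Finset.sum_add_distrib]
    refine Finset.sum_congr rfl fun a _ => Finset.sum_congr rfl fun b _ => ?_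
    simp only [star_add, StarMul.star_mul]
    ring
  rw [hdiag, hall, ← Finset.mul_sum, sum_mul_star, sum_mul_star,
    inv_mul_eq_iff_eq_mul₀ (card_gl_ne_zero (F := F))]
  split_ifs <;> ring

theorem inner_lin_cu (hθ : θ ^ q ≠ θ) :
    classInner (gF (linS lam) (linV lam)) (gF (cuS θ) (cuV θ)) = 0 := by
  classical
  rw [classInner_gF]
  let L : MulChar (Quad F) ℂ :=
    { toMonoidHom := lam.toMonoidHom.comp (Algebra.norm F)
      map_nonunit' := fun k hk => by
        rw [isUnit_iff_ne_zero, not_not] at hk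
        subst hk
        exact (congrArg lam Algebra.norm_zero).trans lam.map_zero }
  have hLv : ∀ k, L k = lam (nm k) := fun k => rfl
  have hLq : L ^ q = L := MulChar.ext' fun k => by rw [mulChar_pow_q, hLv, hLv, nm_pow]
  have hS : ∀ c ∈ Finset.univ.filter (fun c : F => c ≠ 0),
      linS lam c * star (cuS θ c) + ((q : ℂ) ^ 2 - 1) * (linV lam (2 * c) (c ^ 2) * star (cuV θ (2 * c) (c ^ 2)))
        = (-((q : ℂ) * ((q : ℂ) - 1))) * (L (inc c) * star (θ (inc c))) := by
    intro c _
    rw [cuV_double, cuS, linS, linV, hLv, nm_inc, StarMul.star_mul (((q : ℂ) - 1)), star_neg]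
    simp only [star_sub, star_natCast, star_one]
    ring
  have hE : ∀ k ∈ outside, linV lam (tr k) (nm k) * star (cuV θ (tr k) (nm k)) =
      -(L k * star (θ k)) - L k * star ((θ ^ q) k) := by
    intro k hk
    rw [cuV_elliptic hk, linV, hLv, mulChar_pow_q, star_neg, star_add]
    ring
  have hfix : ∑ c : F, (-(L (inc c) * star (θ (inc c))) - L (inc c) * star ((θ ^ q) (inc c))) =
      -2 * ∑ c : F, L (inc c) * star (θ (inc c)) := by
    rw [Finset.mul_sum]
    refine Finset.sum_congr rfl fun a _ => ?_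
    rw [mulChar_pow_q, inc_pow]
    ring
  rw [Finset.sum_congr rfl hS, Finset.sum_congr rfl hE,
    Finset.sum_eq_zero (s := Finset.univ.filter fun p : F × F => p.1 ≠ 0 ∧ p.2 ≠ 0 ∧ p.1 ≠ p.2) fun p hp => by
      rw [cuV_split (Finset.mem_filter.1 hp).2.2.2, star_zero, mul_zero],
    sum_ne_zero_filter _ (by simp [MulChar.map_zero]), sum_outside_eq, hfix, Finset.sum_sub_distrib, Finset.sum_neg_distrib,
    ← Finset.mul_sum, sum_mul_star, sum_mul_star,
    if_neg (fun e : L = θ => hθ (e ▸ hLq)),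
    if_neg (fun e : L = θ ^ q => hθ (by
      have := congrArg (· ^ q) e
      simp only [pow_q_pow_q, hLq] at this
      rw [← this, hLq]))]
  ring

end InnerGL

end Cfsg.Lib.TwoDim
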