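import Cfsg.Agent.Lib.TwoDim.Families
import Cfsg.Agent.Lib.Char.SignedIrr

/-!
# The irreducible characters of `GL₂` over a finite field
-/

set_option autoImplicit false
set_option linter.unusedSectionVars false

namespace Cfsg.Lib.TwoDim

open Finset Matrix Cfsg Cfsg.Lib.Char
open scoped MatrixGroups ComplexConjugate

universe u

section Generic

variable {G : Type u} [Group G] [Fintype G]

/-- A virtual character of norm one and positive degree is irreducible. -/
theorem irr_of_virtual {f : G → ℂ} (hf : IsGeneralizedCharacter G f) (h : classInner f f = 1) {n : ℕ}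
    (hn : f 1 = (n : ℂ)) : IsIrrCharacter G f := by
  obtain ⟨ε, μ, hε, e⟩ := exists_signed_irr_of_norm_one hf h
  rcases hε with rfl | rfl
  · rw [e]; simpa using μ.2
  · exfalso
    obtain ⟨m, hm, hm'⟩ := μ.2.exists_degree
    have := congrFun e 1
    rw [hn, Pi.smul_apply, hm', smul_eq_mul] at this
    have h2 : ((n + m : ℕ) : ℂ) = 0 := by push_cast at this ⊢; rw [this]; ring
    rw [Nat.cast_eq_zero] at h2
    omega

/-- A set of irreducible characters whose squared degrees add up to the order is complete. -/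
theorem mem_of_sum_sq {S : Finset (G → ℂ)} (hS : ∀ f ∈ S, IsIrrCharacter G f)
    (hsum : ∑ f ∈ S, f 1 ^ 2 = (Nat.card G : ℂ)) {χ : G → ℂ} (hχ : IsIrrCharacter G χ) : χ ∈ S := by
  classical
  by_contra hne
  set T : Finset (IrrCharacter G) := S.attach.image fun f => ⟨f.1, hS f.1 f.2⟩ with hT
  have hTs : ∑ μ ∈ T, (μ : G → ℂ) 1 ^ 2 = (Nat.card G : ℂ) := by
    rw [hT, Finset.sum_image, ← hsum, ← Finset.sum_attach S]
    rintro ⟨a, ha⟩ _ ⟨b, hb⟩ _ h
    exact Subtype.ext (congrArg (fun μ : IrrCharacter G => (μ : G → ℂ)) h)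
  have hnot : (⟨χ, hχ⟩ : IrrCharacter G) ∉ T := by
    intro h
    obtain ⟨f, -, hf⟩ := Finset.mem_image.1 h
    have e : f.1 = χ := congrArg (fun μ : IrrCharacter G => (μ : G → ℂ)) hf
    exact hne (e ▸ f.2)
  have hall := sum_sq_degree (G := G)
  choose d hd hd' using fun μ : IrrCharacter G => μ.2.exists_degree
  simp only [hd'] at hall hTs
  rw [← hTs] at hall
  have hle : ∑ μ ∈ insert (⟨χ, hχ⟩ : IrrCharacter G) T, d μ ^ 2 ≤ ∑ μ, d μ ^ 2 :=
    Finset.sum_le_sum_of_subset (Finset.subset_univ _)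
  rw [Finset.sum_insert hnot] at hle
  have heq : ∑ μ, d μ ^ 2 = ∑ μ ∈ T, d μ ^ 2 := by exact_mod_cast hall
  have := pow_pos (hd ⟨χ, hχ⟩) 2
  linarith

/-- Counting irreducible characters with a property inside a complete set. -/
theorem card_irr_filter {S : Finset (G → ℂ)} (hS : ∀ f, IsIrrCharacter G f ↔ f ∈ S) (P : (G → ℂ) → Prop)
    [DecidablePred P] : Nat.card {χ : IrrCharacter G // P (χ : G → ℂ)} = (S.filter P).card := by
  rw [← Fintype.card_coe, ← Nat.card_eq_fintype_card]
  exact Nat.card_congr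
    { toFun := fun χ => ⟨χ.1.1, Finset.mem_filter.2 ⟨(hS _).1 χ.1.2, χ.2⟩⟩
      invFun := fun f => ⟨⟨f.1, (hS _).2 (Finset.mem_filter.1 f.2).1⟩, (Finset.mem_filter.1 f.2).2⟩
      left_inv := fun _ => rfl
      right_inv := fun _ => rfl }

theorem ne_of_inner {f f' : G → ℂ} (hf : IsIrrCharacter G f) (h : classInner f f' = 0) : f ≠ f' := by
  rintro rfl
  rw [classInner_irr_self hf] at h
  exact one_ne_zero h

/-- The image of a two-to-one map. -/
theorem card_image_two {α β : Type*} [DecidableEq α] [DecidableEq β] (s : Finset α) (f : α → β) (t : α → α)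
    (ht : ∀ a ∈ s, t a ∈ s ∧ t a ≠ a) (hf : ∀ a ∈ s, ∀ b ∈ s, f b = f a ↔ b = a ∨ b = t a) :
    2 * (s.image f).card = s.card := by
  rw [Finset.card_eq_sum_card_image f s,
    Finset.sum_congr rfl (g := fun _ => 2) fun b hb => ?_, Finset.sum_const, smul_eq_mul, mul_comm]
  obtain ⟨a, ha, rfl⟩ := Finset.mem_image.1 hb
  rw [show (s.filter fun x => f x = f a) = {a, t a} from ?_, Finset.card_pair (ht a ha).2.symm]
  ext x
  simp only [Finset.mem_filter, Finset.mem_insert, Finset.mem_singleton]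
  constructor
  · rintro ⟨hx, h⟩
    exact (hf a ha x hx).1 h
  · rintro (rfl | rfl)
    · exact ⟨ha, rfl⟩
    · exact ⟨(ht a ha).1, (hf a ha _ (ht a ha).1).2 (Or.inr rfl)⟩

end Generic

variable {F : Type u} [Field F] [Fintype F] [DecidableEq F]

local notation "q" => Fintype.card F

noncomputable instance fintypeMulChar {K : Type*} [Field K] [Finite K] : Fintype (MulChar K ℂ) := Fintype.ofFinite _

noncomputable instance decidableEqMulChar {K : Type*} [Field K] : DecidableEq (MulChar K ℂ) := Classical.decEq _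

theorem card_mulChar {K : Type*} [Field K] [Fintype K] : Fintype.card (MulChar K ℂ) = Fintype.card K - 1 := by
  classical
  rw [← Nat.card_eq_fintype_card, MulChar.card_eq_card_units_of_hasEnoughRootsOfUnity, Nat.card_eq_fintype_card,
    Fintype.card_units]

instance isCyclic_mulChar {K : Type*} [Field K] [Finite K] : IsCyclic (MulChar K ℂ) :=
  let ⟨e⟩ := MulChar.mulEquiv_units K ℂ
  isCyclic_of_surjective e.symm e.symm.surjective

/-- Linear characters of `GL₂`. -/
noncomputable def linF (lam : MulChar F ℂ) : GL (Fin 2) F → ℂ := gF (linS lam) (linV lam)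

/-- Principal series. -/
noncomputable def psF (α β : MulChar F ℂ) : GL (Fin 2) F → ℂ := gF (psS α β) (psV α β)

/-- Steinberg characters. -/
noncomputable def stF (lam : MulChar F ℂ) : GL (Fin 2) F → ℂ := gF (stS lam) (stV lam)

/-- Cuspidal characters. -/
noncomputable def cuF (θ : MulChar (Quad F) ℂ) : GL (Fin 2) F → ℂ := gF (cuS θ) (cuV θ)

theorem linF_apply (lam : MulChar F ℂ) (g : GL (Fin 2) F) : linF lam g = lam (g : M2 F).det := by
  rw [linF, gF_apply, ofData]
  split_ifs with h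
  · rw [linS, Matrix.det_fin_two, h.1, h.2.2]; congr 1; ring
  · rfl

theorem irr_linF (lam : MulChar F ℂ) : IsIrrCharacter (GL (Fin 2) F) (linF lam) := by
  have := isIrrCharacter_linear (lam.toUnitHom.comp (Matrix.GeneralLinearGroup.det (n := Fin 2) (R := F)))
  rwa [show linF lam = fun g => ((lam.toUnitHom.comp Matrix.GeneralLinearGroup.det) g : ℂ) from ?_]
  funext g
  rw [linF_apply, MonoidHom.comp_apply, MulChar.coe_toUnitHom]
  rfl

theorem indFun_psF (α β : MulChar F ℂ) :
    indFun (Cfsg.upperTriangularGL 2 F) (fun b => α (((b : GL (Fin 2) F) : M2 F) 0 0) *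
      β (((b : GL (Fin 2) F) : M2 F) 1 1)) = psF α β :=
  funext fun g => indFun_borel_gl α β g

theorem isCharacter_psF (α β : MulChar F ℂ) : IsCharacter (GL (Fin 2) F) (psF α β) := by
  rw [← indFun_psF]
  exact isCharacter_indFun _ (isIrrCharacter_linear (borelHom α β)).isCharacter

theorem psF_swap (α β : MulChar F ℂ) : psF α β = psF β α :=
  gF_congr (fun c _ => by rw [psS, psS, mul_comm (α c)]) (fun t _ hd => psV_swap α β t hd)

theorem irr_psF {α β : MulChar F ℂ} (h : α ≠ β) : IsIrrCharacter (GL (Fin 2) F) (psF α β) := by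
  classical
  refine isIrrCharacter_of_norm_one (isCharacter_psF α β) ?_
  rw [psF, inner_ps_ps, if_pos rfl, if_pos rfl, if_neg h, zero_mul, add_zero, one_mul]

theorem psF_eq_iff {α β α' β' : MulChar F ℂ} :
    psF α β = psF α' β' ↔ (α = α' ∧ β = β') ∨ (α = β' ∧ β = α') := by
  classical
  constructor
  · intro h
    by_contra hne
    have e1 : classInner (psF α β) (psF α' β') = classInner (psF α' β') (psF α' β') := by rw [h]
    rw [psF, psF, inner_ps_ps, inner_ps_ps] at e1
    simp only [if_true, mul_one] at e1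
    split_ifs at e1 <;> first | exact hne (by tauto) | norm_num at e1
  · rintro (⟨rfl, rfl⟩ | ⟨rfl, rfl⟩)
    · rfl
    · exact psF_swap _ _

theorem psF_one (α β : MulChar F ℂ) : psF α β 1 = ((q + 1 : ℕ) : ℂ) := by
  rw [psF, gF_one, psS, map_one, map_one]; push_cast; ring

theorem linF_one (lam : MulChar F ℂ) : linF lam 1 = ((1 : ℕ) : ℂ) := by
  rw [linF, gF_one, linS, one_pow, map_one, Nat.cast_one]

theorem stF_one (lam : MulChar F ℂ) : stF lam 1 = ((q : ℕ) : ℂ) := by
  rw [stF, gF_one, stS, one_pow, map_one, mul_one]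

theorem cuF_one (θ : MulChar (Quad F) ℂ) : cuF θ 1 = ((q - 1 : ℕ) : ℂ) := by
  rw [cuF, gF_one, cuS, map_one, map_one, mul_one, Nat.cast_sub Fintype.card_pos, Nat.cast_one]

theorem stF_eq (lam : MulChar F ℂ) : stF lam = psF lam lam - linF lam := by
  rw [psF, linF, gF_sub]
  refine gF_congr (fun c _ => ?_) (fun t d hd => ?_)
  · rw [stS, psS, linS, sq, map_mul]; ring
  · rw [stV, psV, linV, Finset.sum_congr rfl (g := fun _ => lam d) fun a ha => ?_, Finset.sum_const, nsmul_eq_mul]
    · ring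
    · rw [← map_mul]
      congr 1
      have ha0 : a ≠ 0 := fun h => hd (by rw [mem_roots, h] at ha; linear_combination ha)
      field_simp

theorem inner_linF_linF (lam mu : MulChar F ℂ) :
    classInner (linF lam) (linF mu) = if lam = mu then 1 else 0 := by
  split_ifs with h
  · rw [h, classInner_irr_self (irr_linF mu)]
  · refine classInner_irr_ne (irr_linF lam) (irr_linF mu) fun e => h ?_
    classical
    have e2 : classInner (linF lam) (psF mu mu) = classInner (linF mu) (psF mu mu) := by rw [e]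
    rw [linF, linF, psF, inner_lin_ps, inner_lin_ps, if_pos rfl] at e2
    by_contra hne
    rw [if_neg hne] at e2
    norm_num at e2

theorem inner_linF_stF (lam mu : MulChar F ℂ) : classInner (linF lam) (stF mu) = 0 := by
  rw [stF_eq, classInner_sub_right, inner_linF_linF, linF, psF, inner_lin_ps]
  split_ifs <;> norm_num

theorem inner_stF_stF (lam mu : MulChar F ℂ) : classInner (stF lam) (stF mu) = if lam = mu then 1 else 0 := by
  rw [stF_eq lam, classInner_sub_left, inner_linF_stF, sub_zero, stF_eq, classInner_sub_right,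
    ← classInner_conj_symm (linF mu) (psF lam lam), psF, psF, linF, inner_ps_ps, inner_lin_ps]
  split_ifs <;> first | (norm_num; done) | simp_all

theorem irr_stF (lam : MulChar F ℂ) : IsIrrCharacter (GL (Fin 2) F) (stF lam) :=
  irr_of_virtual (by rw [stF_eq]; exact (isCharacter_psF lam lam).isGeneralized.sub (irr_linF lam).isGeneralized)
    (by rw [inner_stF_stF, if_pos rfl]) (stF_one lam)

theorem stF_injective : Function.Injective (stF (F := F)) := fun lam mu e => by
  have := inner_stF_stF lam mu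
  rw [e, inner_stF_stF, if_pos rfl] at this
  by_contra hne
  rw [if_neg hne] at this
  exact one_ne_zero this

theorem linF_injective : Function.Injective (linF (F := F)) := fun lam mu e => by
  have := inner_linF_linF lam mu
  rw [e, inner_linF_linF, if_pos rfl] at this
  by_contra hne
  rw [if_neg hne] at this
  exact one_ne_zero this

theorem isGeneralized_cuF (θ : MulChar (Quad F) ℂ) : IsGeneralizedCharacter (GL (Fin 2) F) (cuF θ) := by
  classical
  have hI : IsGeneralizedCharacter (GL (Fin 2) F) (gF (tS θ) (tV θ)) := by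
    rw [← show indFun (torusHom (F := F)).range (fun x => (torusChar θ x : ℂ)) = gF (tS θ) (tV θ) from
      funext fun g => indFun_torus θ g]
    exact (isCharacter_indFun _ (isIrrCharacter_linear (torusChar θ)).isCharacter).isGeneralized
  have key : cuF θ = stF 1 * psF (resF θ) 1 - psF (resF θ) 1 - gF (tS θ) (tV θ) := by
    rw [cuF, stF, psF, gF_mul, gF_sub, gF_sub]
    refine gF_congr (fun c hc => ?_) (fun t d hd => ?_)
    · rw [cuS, stS, psS, tS, resF_apply, MulChar.one_apply (Ne.isUnit hc),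
        MulChar.one_apply (Ne.isUnit (pow_ne_zero 2 hc))]
      ring
    · have hne : ∀ a ∈ roots t d, (1 : MulChar F ℂ) (d * a⁻¹) = 1 := fun a ha =>
        MulChar.one_apply (Ne.isUnit (mul_ne_zero hd (inv_ne_zero fun h => hd (by
          rw [mem_roots, h] at ha; linear_combination ha))))
      have hps : psV (resF θ) 1 t d = ∑ a ∈ roots t d, θ (inc a) :=
        Finset.sum_congr rfl fun a ha => by rw [hne a ha, mul_one, resF_apply]
      have hst : stV (1 : MulChar F ℂ) t d = ((roots t d).card : ℂ) - 1 := by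
        rw [stV, MulChar.one_apply (Ne.isUnit hd), mul_one]
      rw [cuV, hps, hst]
      rcases roots_cases t d with ⟨h1, h2⟩ | ⟨h1, h2⟩ | ⟨h1, h2⟩
      · rw [h1, Finset.card_eq_zero.1 h2, Finset.card_eq_zero.1 h1]
        simp
      · have : droots t d = roots t d :=
          Finset.eq_of_subset_of_card_le (Finset.filter_subset _ _) (by rw [h1]; exact h2.ge)
        rw [h1, this]
        push_cast
        ring
      · rw [h1, Finset.card_eq_zero.1 h2, Finset.sum_empty]
        push_cast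
        ring
  rw [key]
  exact (((irr_stF 1).isGeneralized.mul (isCharacter_psF _ _).isGeneralized).sub
    (isCharacter_psF _ _).isGeneralized).sub hI

theorem irr_cuF {θ : MulChar (Quad F) ℂ} (h : θ ^ q ≠ θ) : IsIrrCharacter (GL (Fin 2) F) (cuF θ) := by
  classical
  exact irr_of_virtual (isGeneralized_cuF θ)
    (by rw [cuF, inner_cu_cu, if_pos rfl, if_neg (Ne.symm h), add_zero]) (cuF_one θ)

theorem cuF_eq_iff {θ η : MulChar (Quad F) ℂ} : cuF θ = cuF η ↔ θ = η ∨ θ = η ^ q := by
  classical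
  constructor
  · intro h
    by_contra hne
    have e1 : classInner (cuF θ) (cuF η) = classInner (cuF η) (cuF η) := by rw [h]
    rw [cuF, cuF, inner_cu_cu, inner_cu_cu, if_pos rfl, if_neg fun e => hne (Or.inl e),
      if_neg fun e => hne (Or.inr e)] at e1
    split_ifs at e1 <;> norm_num at e1
  · rintro (rfl | rfl)
    · rfl
    · refine gF_congr (fun c _ => ?_) (fun t d _ => ?_)
      · rw [cuS, cuS, mulChar_pow_q, inc_pow]
      · have hk : ∑ k ∈ (kroots t d).filter (· ∈ outside), η (k ^ q) =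
            ∑ k ∈ (kroots t d).filter (· ∈ outside), η k := by
          have hmem : ∀ k ∈ (kroots t d).filter (· ∈ outside), k ^ q ∈ (kroots t d).filter (· ∈ outside) := by
            intro k hk
            rw [Finset.mem_filter, mem_kroots] at hk ⊢
            exact ⟨⟨by rw [tr_pow]; exact hk.1.1, by rw [nm_pow]; exact hk.1.2⟩, pow_mem_outside hk.2⟩
          exact Finset.sum_bij' (fun k _ => k ^ q) (fun k _ => k ^ q) hmem hmem (fun k _ => quad_pow_pow k)
            (fun k _ => quad_pow_pow k) (fun k _ => rfl)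
        rw [cuV, cuV, tV, tV]
        simp only [mulChar_pow_q, inc_pow, hk]

theorem card_fixed_mulChar :
    (Finset.univ.filter fun θ : MulChar (Quad F) ℂ => θ ^ q = θ).card = q - 1 := by
  classical
  have : (Finset.univ.filter fun θ : MulChar (Quad F) ℂ => θ ^ q = θ).card =
      Nat.card (powMonoidHom (q - 1) : MulChar (Quad F) ℂ →* MulChar (Quad F) ℂ).ker := by
    rw [Nat.card_eq_fintype_card, Fintype.card_of_subtype]
    intro θ
    rw [Finset.mem_filter, MonoidHom.mem_ker, powMonoidHom_apply]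
    conv_lhs => rw [← Nat.sub_add_cancel (Fintype.card_pos (α := F)), pow_succ]
    simp
  rw [this, IsCyclic.card_powMonoidHom_ker, Nat.card_eq_fintype_card, card_mulChar, card_quad]
  exact Nat.gcd_eq_right ⟨q + 1, by rw [mul_comm, ← Nat.sq_sub_sq, one_pow]⟩

/-- The linear characters. -/
noncomputable def linSet (F : Type u) [Field F] [Fintype F] [DecidableEq F] : Finset (GL (Fin 2) F → ℂ) :=
  Finset.univ.image linF

/-- The Steinberg characters. -/
noncomputable def stSet (F : Type u) [Field F] [Fintype F] [DecidableEq F] : Finset (GL (Fin 2) F → ℂ) :=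
  Finset.univ.image stF

/-- The principal series. -/
noncomputable def psSet (F : Type u) [Field F] [Fintype F] [DecidableEq F] : Finset (GL (Fin 2) F → ℂ) :=
  ((Finset.univ : Finset (MulChar F ℂ)).offDiag).image fun p => psF p.1 p.2

/-- The cuspidal characters. -/
noncomputable def cuSet (F : Type u) [Field F] [Fintype F] [DecidableEq F] : Finset (GL (Fin 2) F → ℂ) :=
  ((Finset.univ : Finset (MulChar (Quad F) ℂ)).filter fun θ => θ ^ Fintype.card F ≠ θ).image cuF

theorem mem_linSet {f : GL (Fin 2) F → ℂ} : f ∈ linSet F ↔ ∃ lam, linF lam = f := by simp [linSet]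

theorem mem_stSet {f : GL (Fin 2) F → ℂ} : f ∈ stSet F ↔ ∃ lam, stF lam = f := by simp [stSet]

theorem mem_psSet {f : GL (Fin 2) F → ℂ} : f ∈ psSet F ↔ ∃ α β, α ≠ β ∧ psF α β = f := by
  simp [psSet]

theorem mem_cuSet {f : GL (Fin 2) F → ℂ} : f ∈ cuSet F ↔ ∃ θ, θ ^ q ≠ θ ∧ cuF θ = f := by
  simp [cuSet]

theorem card_linSet : (linSet F).card = q - 1 := by
  classical
  rw [linSet, Finset.card_image_of_injective _ linF_injective, Finset.card_univ, card_mulChar]

theorem card_stSet : (stSet F).card = q - 1 := by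
  classical
  rw [stSet, Finset.card_image_of_injective _ stF_injective, Finset.card_univ, card_mulChar]

theorem two_mul_card_psSet : 2 * (psSet F).card = (q - 1) * (q - 2) := by
  classical
  rw [psSet, card_image_two _ _ Prod.swap]
  · rw [Finset.offDiag_card, Finset.card_univ, card_mulChar]
    conv_lhs => arg 2; rw [← mul_one (q - 1)]
    rw [← Nat.mul_sub, Nat.sub_sub, one_add_one_eq_two]
  · rintro ⟨a, b⟩ h
    simp only [Finset.mem_offDiag, Finset.mem_univ, true_and, Prod.swap_prod_mk, ne_eq, Prod.mk.injEq] at h ⊢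
    exact ⟨fun e => h e.symm, fun e => h e.2⟩
  · rintro ⟨a, b⟩ _ ⟨c, d⟩ _
    simp only [psF_eq_iff, Prod.swap_prod_mk, Prod.mk.injEq]

theorem two_mul_card_cuSet : 2 * (cuSet F).card = q * (q - 1) := by
  classical
  rw [cuSet, card_image_two _ _ (fun θ => θ ^ q)]
  · have h := Finset.card_filter_add_card_filter_not (s := (Finset.univ : Finset (MulChar (Quad F) ℂ)))
      (fun θ => θ ^ q = θ)
    rw [card_fixed_mulChar, Finset.card_univ, card_mulChar, card_quad] at h
    have h1 := two_le_q (F := F)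
    have h2 : q * (q - 1) + q = q ^ 2 := by
      rw [Nat.mul_sub, mul_one, Nat.sub_add_cancel (Nat.le_mul_self q), sq]
    simp only [ne_eq]
    omega
  · intro θ h
    simp only [Finset.mem_filter, Finset.mem_univ, true_and, pow_q_pow_q] at h ⊢
    exact ⟨Ne.symm h, h⟩
  · intro a _ b _
    exact cuF_eq_iff

/-- All irreducible characters. -/
noncomputable def glSet (F : Type u) [Field F] [Fintype F] [DecidableEq F] : Finset (GL (Fin 2) F → ℂ) :=
  linSet F ∪ stSet F ∪ psSet F ∪ cuSet F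

theorem mem_glSet {f : GL (Fin 2) F → ℂ} :
    f ∈ glSet F ↔ f ∈ linSet F ∨ f ∈ stSet F ∨ f ∈ psSet F ∨ f ∈ cuSet F := by
  simp [glSet, or_assoc]

theorem irr_of_mem_glSet {f : GL (Fin 2) F → ℂ} (h : f ∈ glSet F) : IsIrrCharacter (GL (Fin 2) F) f := by
  rw [mem_glSet, mem_linSet, mem_stSet, mem_psSet, mem_cuSet] at h
  rcases h with ⟨l, rfl⟩ | ⟨l, rfl⟩ | ⟨a, b, h, rfl⟩ | ⟨θ, h, rfl⟩
  exacts [irr_linF l, irr_stF l, irr_psF h, irr_cuF h]

theorem inner_linF_psF (lam : MulChar F ℂ) {α β : MulChar F ℂ} (h : α ≠ β) :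
    classInner (linF lam) (psF α β) = 0 := by
  rw [linF, psF, inner_lin_ps]
  split_ifs with h1 h2 <;> first | exact absurd (h1.symm.trans h2) h | simp

theorem inner_stF_psF (lam : MulChar F ℂ) {α β : MulChar F ℂ} (h : α ≠ β) :
    classInner (stF lam) (psF α β) = 0 := by
  rw [stF_eq, classInner_sub_left, inner_linF_psF lam h, psF, psF, inner_ps_ps]
  split_ifs with h1 h2 <;> first | exact absurd (h1.symm.trans h2) h | simp

theorem inner_linF_cuF (lam : MulChar F ℂ) {θ : MulChar (Quad F) ℂ} (h : θ ^ q ≠ θ) :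
    classInner (linF lam) (cuF θ) = 0 := inner_lin_cu lam θ h

theorem inner_psF_cuF (α β : MulChar F ℂ) (θ : MulChar (Quad F) ℂ) : classInner (psF α β) (cuF θ) = 0 :=
  inner_ps_cu α β θ

theorem inner_stF_cuF (lam : MulChar F ℂ) {θ : MulChar (Quad F) ℂ} (h : θ ^ q ≠ θ) :
    classInner (stF lam) (cuF θ) = 0 := by
  rw [stF_eq, classInner_sub_left, inner_linF_cuF lam h, inner_psF_cuF, sub_zero]

theorem disj_lin_st : Disjoint (linSet F) (stSet F) := by
  rw [Finset.disjoint_left]
  intro f h1 h2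
  obtain ⟨l, rfl⟩ := mem_linSet.1 h1
  obtain ⟨m, hm⟩ := mem_stSet.1 h2
  exact ne_of_inner (irr_linF l) (inner_linF_stF l m) hm.symm

theorem disj_lin_ps : Disjoint (linSet F) (psSet F) := by
  rw [Finset.disjoint_left]
  intro f h1 h2
  obtain ⟨l, rfl⟩ := mem_linSet.1 h1
  obtain ⟨a, b, h, hm⟩ := mem_psSet.1 h2
  exact ne_of_inner (irr_linF l) (inner_linF_psF l h) hm.symm

theorem disj_st_ps : Disjoint (stSet F) (psSet F) := by
  rw [Finset.disjoint_left]
  intro f h1 h2
  obtain ⟨l, rfl⟩ := mem_stSet.1 h1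
  obtain ⟨a, b, h, hm⟩ := mem_psSet.1 h2
  exact ne_of_inner (irr_stF l) (inner_stF_psF l h) hm.symm

theorem disj_cu : Disjoint (linSet F) (cuSet F) ∧ Disjoint (stSet F) (cuSet F) ∧ Disjoint (psSet F) (cuSet F) := by
  refine ⟨?_, ?_, ?_⟩ <;> rw [Finset.disjoint_left] <;> intro f h1 h2 <;>
    obtain ⟨θ, hθ, hm⟩ := mem_cuSet.1 h2
  · obtain ⟨l, rfl⟩ := mem_linSet.1 h1
    exact ne_of_inner (irr_linF l) (inner_linF_cuF l hθ) hm.symm
  · obtain ⟨l, rfl⟩ := mem_stSet.1 h1
    exact ne_of_inner (irr_stF l) (inner_stF_cuF l hθ) hm.symm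
  · obtain ⟨a, b, h, rfl⟩ := mem_psSet.1 h1
    exact ne_of_inner (irr_psF h) (inner_psF_cuF a b θ) hm.symm

theorem sum_sq_glSet : ∑ f ∈ glSet F, f 1 ^ 2 = (Nat.card (GL (Fin 2) F) : ℂ) := by
  classical
  have e1 : ∀ f ∈ linSet F, f 1 ^ 2 = (1 : ℂ) := fun f hf => by
    obtain ⟨l, rfl⟩ := mem_linSet.1 hf; rw [linF_one]; simp
  have e2 : ∀ f ∈ stSet F, f 1 ^ 2 = (q : ℂ) ^ 2 := fun f hf => by
    obtain ⟨l, rfl⟩ := mem_stSet.1 hf; rw [stF_one]
  have e3 : ∀ f ∈ psSet F, f 1 ^ 2 = ((q : ℂ) + 1) ^ 2 := fun f hf => by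
    obtain ⟨a, b, h, rfl⟩ := mem_psSet.1 hf; rw [psF_one]; push_cast; rfl
  have e4 : ∀ f ∈ cuSet F, f 1 ^ 2 = ((q : ℂ) - 1) ^ 2 := fun f hf => by
    obtain ⟨a, h, rfl⟩ := mem_cuSet.1 hf
    rw [cuF_one, Nat.cast_sub Fintype.card_pos, Nat.cast_one]
  have hp : (2 : ℂ) * (psSet F).card = ((q : ℂ) - 1) * ((q : ℂ) - 2) := by
    have := congrArg (Nat.cast : ℕ → ℂ) (two_mul_card_psSet (F := F))
    rw [Nat.cast_mul, Nat.cast_mul, Nat.cast_sub Fintype.card_pos, Nat.cast_sub two_le_q] at this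
    exact_mod_cast this
  have hc : (2 : ℂ) * (cuSet F).card = (q : ℂ) * ((q : ℂ) - 1) := by
    have := congrArg (Nat.cast : ℕ → ℂ) (two_mul_card_cuSet (F := F))
    rw [Nat.cast_mul, Nat.cast_mul, Nat.cast_sub Fintype.card_pos] at this
    exact_mod_cast this
  rw [glSet, Finset.sum_union, Finset.sum_union, Finset.sum_union disj_lin_st, Finset.sum_congr rfl e1,
    Finset.sum_congr rfl e2, Finset.sum_congr rfl e3, Finset.sum_congr rfl e4]
  · simp only [Finset.sum_const, nsmul_eq_mul, card_linSet, card_stSet, Nat.cast_sub Fintype.card_pos, Nat.cast_one]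
    rw [card_gl_cast]
    linear_combination (((q : ℂ) + 1) ^ 2 / 2) * hp + (((q : ℂ) - 1) ^ 2 / 2) * hc
  · exact Finset.disjoint_union_left.2 ⟨disj_lin_ps, disj_st_ps⟩
  · exact Finset.disjoint_union_left.2 ⟨Finset.disjoint_union_left.2 ⟨disj_cu.1, disj_cu.2.1⟩, disj_cu.2.2⟩

theorem isIrr_gl_iff (f : GL (Fin 2) F → ℂ) : IsIrrCharacter (GL (Fin 2) F) f ↔ f ∈ glSet F :=
  ⟨fun h => mem_of_sum_sq (fun _ => irr_of_mem_glSet) sum_sq_glSet h, irr_of_mem_glSet⟩

theorem gl_cases {χ : GL (Fin 2) F → ℂ} (hχ : IsIrrCharacter (GL (Fin 2) F) χ) :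
    (∃ lam, χ = linF lam) ∨ (∃ lam, χ = stF lam) ∨ (∃ α β, α ≠ β ∧ χ = psF α β) ∨
      ∃ θ, θ ^ q ≠ θ ∧ χ = cuF θ := by
  rcases mem_glSet.1 ((isIrr_gl_iff χ).1 hχ) with h | h | h | h
  · obtain ⟨l, rfl⟩ := mem_linSet.1 h; exact Or.inl ⟨l, rfl⟩
  · obtain ⟨l, rfl⟩ := mem_stSet.1 h; exact Or.inr (Or.inl ⟨l, rfl⟩)
  · obtain ⟨a, b, h', rfl⟩ := mem_psSet.1 h; exact Or.inr (Or.inr (Or.inl ⟨a, b, h', rfl⟩))
  · obtain ⟨a, h', rfl⟩ := mem_cuSet.1 h; exact Or.inr (Or.inr (Or.inr ⟨a, h', rfl⟩))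

end Cfsg.Lib.TwoDim
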