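import Cfsg.Agent.Lib.TwoDim.SLFamilies
import Cfsg.Agent.Lib.Char.UniformCent

/-!
# The characters of half degree of `SL₂`, odd characteristic
-/

set_option autoImplicit false
set_option linter.unusedSectionVars false

namespace Cfsg.Lib.TwoDim

open Finset Matrix Cfsg Cfsg.Lib.Char
open scoped MatrixGroups ComplexConjugate

universe u

section Generic

variable {G : Type u} [Group G] [Fintype G]

/-- A character of norm two is a sum of two irreducible characters. -/
theorem exists_add_of_norm_two {f : G → ℂ} (hf : IsCharacter G f) (h : classInner f f = 2) :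
    ∃ χ ψ, IsIrrCharacter G χ ∧ IsIrrCharacter G ψ ∧ χ ≠ ψ ∧ f = χ + ψ := by
  classical
  choose n hn using fun χ : IrrCharacter G => hf.exists_nat_classInner χ.2.isCharacter
  have hsum : ∑ χ, n χ * n χ = 2 := by
    rw [classInner_eq_sum hf.isClassFunction] at h
    simp only [hn, Complex.conj_natCast] at h
    exact_mod_cast h
  have hle : ∀ χ, n χ ≤ 1 := fun χ => by
    by_contra hgt
    have h1 := Finset.single_le_sum (f := fun y => n y * n y) (fun _ _ => Nat.zero_le _) (Finset.mem_univ χ)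
    rw [hsum] at h1
    have h2 : 2 * 2 ≤ n χ * n χ := Nat.mul_le_mul (by omega) (by omega)
    omega
  set S := (Finset.univ : Finset (IrrCharacter G)).filter fun χ => n χ = 1 with hS
  have hcard : S.card = 2 := by
    rw [Finset.card_filter, ← hsum]
    refine Finset.sum_congr rfl fun χ _ => ?_
    have := hle χ
    interval_cases n χ <;> rfl
  obtain ⟨χ, ψ, hne, heq⟩ := Finset.card_eq_two.1 hcard
  refine ⟨χ.1, ψ.1, χ.2, ψ.2, fun e => hne (Subtype.ext e), ?_⟩
  conv_lhs => rw [eq_sum_classInner hf.isClassFunction]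
  rw [← Finset.sum_subset (Finset.subset_univ S) fun y _ hy => ?_, heq, Finset.sum_pair hne, hn, hn]
  · have h1 : n χ = 1 := (Finset.mem_filter.1 (heq ▸ Finset.mem_insert_self χ _ : χ ∈ S)).2
    have h2 : n ψ = 1 :=
      (Finset.mem_filter.1 (heq ▸ Finset.mem_insert_of_mem (Finset.mem_singleton_self ψ) : ψ ∈ S)).2
    rw [h1, h2, Nat.cast_one, one_smul, one_smul]
  · have h0 : n y = 0 := by
      have := hle y
      have h1 : n y ≠ 1 := fun e => hy (Finset.mem_filter.2 ⟨Finset.mem_univ _, e⟩)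
      omega
    rw [hn, h0, Nat.cast_zero, zero_smul]

/-- If a character is orthogonal to `χ + ψ`, it is orthogonal to both. -/
theorem inner_eq_zero_of_add {f χ ψ : G → ℂ} (hf : IsCharacter G f) (hχ : IsCharacter G χ)
    (hψ : IsCharacter G ψ) (h : classInner f (χ + ψ) = 0) : classInner f χ = 0 ∧ classInner f ψ = 0 := by
  obtain ⟨a, ha⟩ := hf.exists_nat_classInner hχ
  obtain ⟨b, hb⟩ := hf.exists_nat_classInner hψ
  rw [classInner_add_right, ha, hb, ← Nat.cast_add, Nat.cast_eq_zero, Nat.add_eq_zero_iff] at h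
  rw [ha, hb, h.1, h.2, Nat.cast_zero]
  exact ⟨rfl, rfl⟩

end Generic

section Conj

variable {F : Type u} [Field F]

/-- Conjugation of `SL₂` by an element of `GL₂`. -/
def cj (x : GL (Fin 2) F) : SL(2, F) →* SL(2, F) where
  toFun g := ⟨(x : M2 F) * (g : M2 F) * ((x⁻¹ : GL (Fin 2) F) : M2 F), by
    rw [Matrix.det_mul, Matrix.det_mul, g.2, mul_one, ← Matrix.det_mul, ← Units.val_mul, mul_inv_cancel,
      Units.val_one, Matrix.det_one]⟩
  map_one' := Subtype.ext (by simp)
  map_mul' g h := Subtype.ext (by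
    show (x : M2 F) * ((g : M2 F) * (h : M2 F)) * ((x⁻¹ : GL (Fin 2) F) : M2 F) =
      ((x : M2 F) * (g : M2 F) * ((x⁻¹ : GL (Fin 2) F) : M2 F)) * ((x : M2 F) * (h : M2 F) * ((x⁻¹ : GL (Fin 2) F) : M2 F))
    simp only [mul_assoc, Units.inv_mul_cancel_left])

theorem cj_coe (x : GL (Fin 2) F) (g : SL(2, F)) :
    (cj x g : M2 F) = (x : M2 F) * (g : M2 F) * ((x⁻¹ : GL (Fin 2) F) : M2 F) := rfl

theorem toGL_cj (x : GL (Fin 2) F) (g : SL(2, F)) :
    Matrix.SpecialLinearGroup.toGL (cj x g) = x * Matrix.SpecialLinearGroup.toGL g * x⁻¹ := Units.ext rfl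

theorem cj_mul (x y : GL (Fin 2) F) (g : SL(2, F)) : cj (x * y) g = cj x (cj y g) := by
  refine Subtype.ext ?_
  simp only [cj_coe, _root_.mul_inv_rev, Units.val_mul, mul_assoc]

theorem cj_one (g : SL(2, F)) : cj 1 g = g := Subtype.ext (by simp [cj_coe])

theorem cj_surjective (x : GL (Fin 2) F) : Function.Surjective (cj x) := fun g =>
  ⟨cj x⁻¹ g, by rw [← cj_mul, mul_inv_cancel, cj_one]⟩

/-- Conjugation by an element of square determinant is inner. -/
theorem cj_eq_conj {x : GL (Fin 2) F} (hx : IsSquare (x : M2 F).det) :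
    ∃ s : SL(2, F), ∀ g, cj x g = s * g * s⁻¹ := by
  obtain ⟨r, hr⟩ := hx
  have hr0 : r ≠ 0 := fun h => x.det_ne_zero (by rw [hr, h, mul_zero])
  refine ⟨⟨r⁻¹ • (x : M2 F), by rw [Matrix.det_smul, Fintype.card_fin, hr]; field_simp⟩, fun g => ?_⟩
  refine Subtype.ext ?_
  rw [cj_coe]
  show _ = r⁻¹ • (x : M2 F) * (g : M2 F) * (r⁻¹ • (x : M2 F)).adjugate
  rw [Matrix.adjugate_smul, Fintype.card_fin, pow_one, smul_mul_assoc, smul_mul_assoc, mul_smul_comm, smul_smul]
  have hinv : ((x⁻¹ : GL (Fin 2) F) : M2 F) = (r * r)⁻¹ • (x : M2 F).adjugate := by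
    rw [Matrix.coe_units_inv, Matrix.inv_def, hr, Ring.inverse_eq_inv']
  rw [hinv, mul_smul_comm, mul_inv]

theorem classFn_cj {x : GL (Fin 2) F} (hx : IsSquare (x : M2 F).det) {f : SL(2, F) → ℂ}
    (hf : IsClassFunction SL(2, F) f) (g : SL(2, F)) : f (cj x g) = f g := by
  obtain ⟨s, hs⟩ := cj_eq_conj hx
  rw [hs, hf]

/-- The diagonal element `diag(ν, 1)`. -/
def x0 (ν : Fˣ) : GL (Fin 2) F :=
  Matrix.GeneralLinearGroup.mkOfDetNeZero !![(ν : F), 0; 0, 1] (by simp [Matrix.det_fin_two])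

theorem det_x0 (ν : Fˣ) : (x0 ν : M2 F).det = ν := by
  show (!![(ν : F), 0; 0, 1] : M2 F).det = ν
  simp [Matrix.det_fin_two]

theorem x0_coe (ν : Fˣ) : (x0 ν : M2 F) = !![(ν : F), 0; 0, 1] := rfl

end Conj

variable {F : Type u} [Field F] [Fintype F] [DecidableEq F]

local notation "q" => Fintype.card F

theorem sF_cj (s : F → ℂ) (v : F → F → ℂ) (x : GL (Fin 2) F) (g : SL(2, F)) : sF s v (cj x g) = sF s v g := by
  refine (ofData_conj s v x.det_ne_zero ?_).symm
  rw [cj_coe, mul_assoc, ← Units.val_mul, inv_mul_cancel, Units.val_one, mul_one]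

theorem isSquare_mul_nonsquare {ν a : F} (hν : ¬ IsSquare ν) (ha : a ≠ 0) :
    IsSquare (a * ν) ↔ ¬ IsSquare a := by
  have hν0 : ν ≠ 0 := fun h => hν (h ▸ IsSquare.zero)
  have hna : ∀ b : F, b ≠ 0 → (IsSquare b ↔ quadraticChar F b = 1) := fun b hb =>
    (quadraticChar_one_iff_isSquare hb).symm
  rw [hna _ (mul_ne_zero ha hν0), map_mul, quadraticChar_neg_one_iff_not_isSquare.2 hν,
    ← quadraticChar_neg_one_iff_not_isSquare, mul_neg_one, neg_eq_iff_eq_neg]

/-- The two halves of a character of norm two. -/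
structure IsSplit (π : SL(2, F) → ℂ) (ν : Fˣ) (χ ψ : SL(2, F) → ℂ) : Prop where
  irr : IsIrrCharacter SL(2, F) χ
  irr' : IsIrrCharacter SL(2, F) ψ
  ne : χ ≠ ψ
  eq : π = χ + ψ
  swap : ∀ g, χ (cj (x0 ν) g) = ψ g
  swap' : ∀ g, ψ (cj (x0 ν) g) = χ g

theorem IsSplit.symm {π : SL(2, F) → ℂ} {ν : Fˣ} {χ ψ : SL(2, F) → ℂ} (h : IsSplit π ν χ ψ) :
    IsSplit π ν ψ χ :=
  ⟨h.irr', h.irr, h.ne.symm, by rw [h.eq, add_comm], h.swap', h.swap⟩

theorem exists_split {π : SL(2, F) → ℂ} (hπ : IsCharacter SL(2, F) π) (hn : classInner π π = 2)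
    (hinv : ∀ x g, π (cj x g) = π g) (ν : Fˣ) (hν : ¬ IsSquare (ν : F))
    (horth : ∀ ψ : GL (Fin 2) F → ℂ, IsIrrCharacter (GL (Fin 2) F) ψ →
      ψ ∘ Matrix.SpecialLinearGroup.toGL = π ∨ classInner (ψ ∘ Matrix.SpecialLinearGroup.toGL) π = 0) :
    ∃ χ ψ, IsSplit π ν χ ψ := by
  classical
  obtain ⟨χ, ψ, hχ, hψ, hne, heq⟩ := exists_add_of_norm_two hπ hn
  set D := χ - ψ with hD
  have hDc : IsClassFunction SL(2, F) D := fun g h => by
    rw [hD, Pi.sub_apply, Pi.sub_apply, hχ.isClassFunction g h, hψ.isClassFunction g h]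
  have hDorth : ∀ Φ : GL (Fin 2) F → ℂ, IsIrrCharacter (GL (Fin 2) F) Φ →
      classInner D (Φ ∘ Matrix.SpecialLinearGroup.toGL) = 0 := by
    intro Φ hΦ
    rw [← classInner_conj_symm, hD]
    rcases horth Φ hΦ with h | h
    · rw [h, heq, classInner_sub_right, classInner_add_left, classInner_add_left, classInner_irr_self hχ,
        classInner_irr_self hψ, classInner_irr_ne hχ hψ hne, classInner_irr_ne hψ hχ hne.symm]
      simp
    · rw [heq] at h
      obtain ⟨h1, h2⟩ := inner_eq_zero_of_add (f := Φ ∘ Matrix.SpecialLinearGroup.toGL) (hΦ.isCharacter.comp _)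
        hχ.isCharacter hψ.isCharacter h
      rw [classInner_sub_right, h1, h2, sub_zero, map_zero]
  let E : GL (Fin 2) F → ℂ := fun g => if h : (g : M2 F).det = 1 then D ⟨(g : M2 F), h⟩ else 0
  let Ψ : GL (Fin 2) F → ℂ := fun g => ∑ x : GL (Fin 2) F, E (x * g * x⁻¹)
  have hΨc : IsClassFunction (GL (Fin 2) F) Ψ := by
    intro g h
    show ∑ x, E (x * (h * g * h⁻¹) * x⁻¹) = ∑ x, E (x * g * x⁻¹)
    rw [← Equiv.sum_comp (Equiv.mulRight h) fun x => E (x * g * x⁻¹)]
    refine Finset.sum_congr rfl fun x _ => ?_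
    rw [Equiv.coe_mulRight, _root_.mul_inv_rev]
    simp only [mul_assoc]
  have hΨ0 : Ψ = 0 := by
    refine ext_classInner hΨc (fun _ _ => rfl) fun Φ hΦ => ?_
    rw [classInner_zero_left, classInner]
    have e1 : ∀ x : GL (Fin 2) F, ∑ g, E (x * g * x⁻¹) * conj (Φ g) = ∑ g, E g * conj (Φ g) := by
      intro x
      rw [← Equiv.sum_comp (MulAut.conj x).toEquiv fun g => E g * conj (Φ g)]
      refine Finset.sum_congr rfl fun g _ => ?_
      rw [MulEquiv.toEquiv_eq_coe, MulEquiv.coe_toEquiv, MulAut.conj_apply, hΦ.isClassFunction g x]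
    have e2 : ∑ g, E g * conj (Φ g) = ∑ h : SL(2, F), D h * conj (Φ (Matrix.SpecialLinearGroup.toGL h)) := by
      rw [← Finset.sum_filter_of_ne (p := fun g : GL (Fin 2) F => (g : M2 F).det = 1) fun g _ hg => by
        by_contra h
        exact hg (by simp [E, h])]
      refine Finset.sum_bij' (fun g hg => ⟨(g : M2 F), (Finset.mem_filter.1 hg).2⟩)
        (fun h _ => Matrix.SpecialLinearGroup.toGL h) ?_ ?_ ?_ ?_ ?_
      · intro g _; exact Finset.mem_univ _
      · intro h _; exact Finset.mem_filter.2 ⟨Finset.mem_univ _, h.2⟩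
      · intro g _; exact Units.ext rfl
      · intro h _; rfl
      · intro g hg
        rw [show E g = D ⟨(g : M2 F), (Finset.mem_filter.1 hg).2⟩ from dif_pos (Finset.mem_filter.1 hg).2,
          show Matrix.SpecialLinearGroup.toGL (⟨(g : M2 F), (Finset.mem_filter.1 hg).2⟩ : SL(2, F)) = g from
            Units.ext rfl]
    have e3 : ∑ h : SL(2, F), D h * conj (Φ (Matrix.SpecialLinearGroup.toGL h)) = 0 := by
      have := hDorth Φ hΦ
      rw [classInner, mul_eq_zero] at this
      exact this.resolve_left (inv_ne_zero card_cast_ne_zero)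
    simp only [Ψ, Finset.sum_mul]
    rw [Finset.sum_comm, Finset.sum_congr rfl fun x _ => e1 x, e2, e3]
    simp
  have hanti : ∀ g, D (cj (x0 ν) g) = -D g := by
    intro g
    have h0 := congrFun hΨ0 (Matrix.SpecialLinearGroup.toGL g)
    have hE : ∀ x : GL (Fin 2) F, E (x * Matrix.SpecialLinearGroup.toGL g * x⁻¹) = D (cj x g) := by
      intro x
      rw [← toGL_cj]
      exact dif_pos (cj x g).2
    simp only [Ψ, Pi.zero_apply, hE] at h0
    rw [← Finset.sum_filter_add_sum_filter_not (Finset.univ : Finset (GL (Fin 2) F))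
      (fun x : GL (Fin 2) F => IsSquare (x : M2 F).det)] at h0
    set A := (Finset.univ : Finset (GL (Fin 2) F)).filter fun x : GL (Fin 2) F => IsSquare (x : M2 F).det with hA
    have hB : ((Finset.univ : Finset (GL (Fin 2) F)).filter fun x : GL (Fin 2) F => ¬ IsSquare (x : M2 F).det) =
        A.image (· * x0 ν) := by
      ext y
      rw [Finset.mem_filter, Finset.mem_image]
      constructor
      · rintro ⟨-, hy⟩
        refine ⟨y * (x0 ν)⁻¹, ?_, inv_mul_cancel_right y _⟩
        rw [hA, Finset.mem_filter]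
        refine ⟨Finset.mem_univ _, ?_⟩
        by_contra h
        have hd : (y : M2 F).det = ((y * (x0 ν)⁻¹ : GL (Fin 2) F) : M2 F).det * ν := by
          rw [← det_x0 ν, ← Matrix.det_mul, ← Units.val_mul, inv_mul_cancel_right]
        rw [hd, isSquare_mul_nonsquare hν (Matrix.GeneralLinearGroup.det_ne_zero _)] at hy
        exact hy h
      · rintro ⟨x, hx, rfl⟩
        rw [hA, Finset.mem_filter] at hx
        refine ⟨Finset.mem_univ _, ?_⟩
        rw [Units.val_mul, Matrix.det_mul, det_x0, isSquare_mul_nonsquare hν x.det_ne_zero, not_not]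
        exact hx.2
    have hs1 : ∑ x ∈ A, D (cj x g) = A.card • D g := by
      rw [← Finset.sum_const]
      exact Finset.sum_congr rfl fun x hx => classFn_cj (Finset.mem_filter.1 hx).2 hDc g
    have hs2 : ∑ x ∈ A, D (cj (x * x0 ν) g) = A.card • D (cj (x0 ν) g) := by
      rw [← Finset.sum_const]
      refine Finset.sum_congr rfl fun x hx => ?_
      rw [cj_mul]
      exact classFn_cj (Finset.mem_filter.1 hx).2 hDc _
    rw [hB, Finset.sum_image fun a _ b _ h => mul_right_cancel h,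
      hs1, hs2, ← smul_add, smul_eq_zero] at h0
    rcases h0 with h0 | h0
    · exfalso
      have : (1 : GL (Fin 2) F) ∈ A := by rw [hA, Finset.mem_filter]; simp
      rw [Finset.card_eq_zero.1 h0] at this
      exact Finset.notMem_empty _ this
    · linear_combination h0
  refine ⟨χ, ψ, hχ, hψ, hne, heq, fun g => ?_, fun g => ?_⟩
  all_goals
    have h1 := hanti g
    have h2 := hinv (x0 ν) g
    rw [heq] at h2
    simp only [hD, Pi.sub_apply, Pi.add_apply] at h1 h2
  · linear_combination (1 / 2 : ℂ) * h1 + (1 / 2 : ℂ) * h2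
  · linear_combination (1 / 2 : ℂ) * h2 - (1 / 2 : ℂ) * h1

section Values

variable {π : SL(2, F) → ℂ} {ν : Fˣ} {χ ψ : SL(2, F) → ℂ}

theorem IsSplit.eq_of_fixed (h : IsSplit π ν χ ψ) {g : SL(2, F)} (hg : IsConj (cj (x0 ν) g) g) :
    2 * χ g = π g := by
  obtain ⟨c, hc⟩ := isConj_iff.1 hg
  have h1 := h.irr.isClassFunction (cj (x0 ν) g) c
  rw [hc, h.swap] at h1
  rw [h.eq, Pi.add_apply, ← h1, two_mul]

theorem IsSplit.apply_one (h : IsSplit π ν χ ψ) : 2 * χ 1 = π 1 :=
  h.eq_of_fixed (by rw [map_one])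

theorem IsSplit.scalar (h : IsSplit π ν χ ψ) {g : SL(2, F)} (hg : IsSc (g : M2 F)) : 2 * χ g = π g := by
  refine h.eq_of_fixed ?_
  obtain ⟨c, hc⟩ := isSc_iff.1 hg
  rw [show cj (x0 ν) g = g from Subtype.ext (by
    rw [cj_coe, hc, mul_smul_comm, mul_one, smul_mul_assoc, ← Units.val_mul, mul_inv_cancel, Units.val_one])]

theorem isConj_of_trace {g h : SL(2, F)} (hodd : ringChar F ≠ 2) (hg : ¬ IsSc (g : M2 F)) (hh : ¬ IsSc (h : M2 F))
    (ht : (g : M2 F).trace = (h : M2 F).trace) (h4 : (g : M2 F).trace ^ 2 ≠ 4) : IsConj g h := by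
  obtain ⟨ν, hν⟩ := FiniteField.exists_nonsquare hodd
  have hν0 : ν ≠ 0 := fun e => hν (e ▸ IsSquare.zero)
  have key : ∀ k : SL(2, F), ¬ IsSc (k : M2 F) → (k : M2 F).trace ^ 2 ≠ 4 →
      IsConj k (Cfsg.Agent.Lib.Linear.TwoClasses.R (k : M2 F).trace 1) := fun k hk h4' => by
    rcases Cfsg.Agent.Lib.Linear.TwoClasses.exists_normal_form hodd (Units.mk0 ν hν0) hν k
      (fun c hc => hk (isSc_iff.2 ⟨c, hc⟩)) with h | ⟨h, -⟩
    · exact h
    · exact absurd h h4'
  exact (key g hg h4).trans (ht ▸ (key h hh (ht ▸ h4)).symm)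

theorem IsSplit.regular (h : IsSplit π ν χ ψ) (hodd : ringChar F ≠ 2) {g : SL(2, F)} (hg : ¬ IsSc (g : M2 F))
    (h4 : (g : M2 F).trace ^ 2 ≠ 4) : 2 * χ g = π g := by
  refine h.eq_of_fixed ?_
  have hP : (x0 ν : M2 F) * (g : M2 F) = (cj (x0 ν) g : M2 F) * (x0 ν : M2 F) := by
    rw [cj_coe, mul_assoc (_ * _), ← Units.val_mul, inv_mul_cancel, Units.val_one, mul_one]
  have ht := Cfsg.Agent.Lib.Linear.TwoClasses.trace_of_semiconj (x0 ν).det_ne_zero hP
  exact isConj_of_trace hodd (fun e => hg ((isSc_conj (x0 ν).det_ne_zero hP).2 e)) hg ht.1.symm (ht.1 ▸ h4)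

/-- The unipotent element. -/
def uu (F : Type u) [Field F] : SL(2, F) := ⟨!![1, 1; 0, 1], by simp [Matrix.det_fin_two]⟩

theorem uu_coe : (uu F : M2 F) = !![1, 1; 0, 1] := rfl

theorem neg_uu_coe : ((-uu F : SL(2, F)) : M2 F) = !![-1, -1; 0, -1] := by
  rw [Matrix.SpecialLinearGroup.coe_neg]
  ext i j
  fin_cases i <;> fin_cases j <;> simp [uu_coe]

theorem apply_neg_mul {f : SL(2, F) → ℂ} (hf : IsIrrCharacter SL(2, F) f) {ε : ℂ}
    (h : f (-1) = ε * f 1) (g : SL(2, F)) : f (-g) = ε * f g := by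
  have h1 := irr_apply_central_mul hf (z := (-1 : SL(2, F))) (fun g => by rw [mul_neg, neg_mul, mul_one, one_mul]) g
  rw [neg_mul, one_mul, h, mul_right_comm] at h1
  exact mul_right_cancel₀ hf.apply_one_ne_zero h1

theorem isSc_neg_one : IsSc ((-1 : SL(2, F)) : M2 F) := by
  rw [Matrix.SpecialLinearGroup.coe_neg, Matrix.SpecialLinearGroup.coe_one]
  simp [IsSc]

theorem IsSplit.apply_neg (h : IsSplit π ν χ ψ) {ε : ℂ} (hε : π (-1) = ε * π 1) :
    χ (-1) = ε * χ 1 := by
  have h1 := h.scalar (g := (-1 : SL(2, F))) isSc_neg_one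
  rw [hε, ← h.apply_one] at h1
  linear_combination (1 / 2 : ℂ) * h1

/-- The squared difference of the halves at a unipotent element. -/
theorem IsSplit.sq_diff (h : IsSplit π ν χ ψ) (hodd : ringChar F ≠ 2) (hν : ¬ IsSquare (ν : F)) {ε : ℂ}
    (hε : π (-1) = ε * π 1) (hεn : ‖ε‖ = 1) :
    (χ (uu F) - ψ (uu F)) ^ 2 = (if IsSquare (-1 : F) then 1 else -1) * (q : ℂ) := by
  classical
  set D := χ - ψ with hD
  have hDc : IsClassFunction SL(2, F) D := fun g k => by
    rw [hD, Pi.sub_apply, Pi.sub_apply, h.irr.isClassFunction g k, h.irr'.isClassFunction g k]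
  have h2 : (2 : F) ≠ 0 := Ring.two_ne_zero hodd
  set w := uu F with hw
  have hwn : ¬ IsSc (w : M2 F) := fun hs => one_ne_zero (α := F) (by
    have := hs.1
    rw [hw, uu_coe] at this
    simpa using this)
  have hwn' : ¬ IsSc ((-w : SL(2, F)) : M2 F) := fun hs => one_ne_zero (α := F) (by
    have := hs.1
    rw [hw, neg_uu_coe] at this
    simpa using this)
  have htw : (w : M2 F).trace = 2 := by simp [hw, uu_coe, Matrix.trace_fin_two, one_add_one_eq_two]
  have htw' : ((-w : SL(2, F)) : M2 F).trace = -2 := by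
    rw [Matrix.SpecialLinearGroup.coe_neg, Matrix.trace_neg, htw]
  have hcj : ∀ (x : GL (Fin 2) F) (g : SL(2, F)), ‖D (cj x g)‖ = ‖D g‖ := by
    intro x g
    by_cases hx : IsSquare (x : M2 F).det
    · rw [classFn_cj hx hDc]
    · have hxx : IsSquare ((x * (x0 ν)⁻¹ : GL (Fin 2) F) : M2 F).det := by
        by_contra hns
        refine hx ?_
        rw [← inv_mul_cancel_right x (x0 ν), Units.val_mul, Matrix.det_mul, det_x0,
          isSquare_mul_nonsquare hν (Matrix.GeneralLinearGroup.det_ne_zero _)]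
        exact hns
      rw [← inv_mul_cancel_right x (x0 ν), cj_mul, classFn_cj hxx hDc, hD, Pi.sub_apply, Pi.sub_apply, h.swap,
        h.swap', ← norm_neg, neg_sub]
  have hnorm : ∀ g : SL(2, F), ((‖D g‖ ^ 2 : ℝ) : ℂ) =
      sF (fun _ => 0) (fun t _ => if t = 2 ∨ t = -2 then ((‖D w‖ ^ 2 : ℝ) : ℂ) else 0) g := by
    intro g
    rw [sF_apply, ofData]
    split_ifs with hs ht
    · have := h.scalar hs
      have h' := h.symm.scalar hs
      rw [hD, Pi.sub_apply, show χ g = ψ g by linear_combination (1 / 2 : ℂ) * this - (1 / 2 : ℂ) * h',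
        sub_self]
      simp
    · have key : ∀ k : SL(2, F), ¬ IsSc (k : M2 F) → (k : M2 F).trace = (g : M2 F).trace → ‖D g‖ = ‖D k‖ := by
        intro k hk hkt
        obtain ⟨x, hx⟩ := isConj_iff.1 (isConj_of_tr_det (g := Matrix.SpecialLinearGroup.toGL g)
          (h := Matrix.SpecialLinearGroup.toGL k) hs hk hkt.symm (g.2.trans k.2.symm))
        rw [← toGL_cj] at hx
        have : cj x g = k := Subtype.ext (congrArg Units.val hx)
        rw [← this, hcj]
      rcases ht with ht | ht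
      · rw [key w hwn (htw.trans ht.symm)]
      · have hneg : ‖D (-w)‖ = ‖D w‖ := by
          rw [hD, Pi.sub_apply, Pi.sub_apply, apply_neg_mul h.irr (h.apply_neg hε),
            apply_neg_mul h.irr' (h.symm.apply_neg hε), ← mul_sub, norm_mul, hεn, one_mul]
        rw [key (-w) hwn' (htw'.trans ht.symm), hneg]
    · have h4 : (g : M2 F).trace ^ 2 ≠ 4 := fun e => ht (by
        rcases eq_or_eq_neg_of_sq_eq_sq _ (2 : F) (e.trans (by norm_num)) with h | h
        · exact Or.inl h
        · exact Or.inr h)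
      have := h.regular hodd hs h4
      have h' := h.symm.regular hodd hs h4
      rw [hD, Pi.sub_apply, show χ g = ψ g by linear_combination (1 / 2 : ℂ) * this - (1 / 2 : ℂ) * h',
        sub_self]
      simp
  have hsum : ∑ g : SL(2, F), ((‖D g‖ ^ 2 : ℝ) : ℂ) = 2 * (Nat.card SL(2, F) : ℂ) := by
    have hDD : classInner D D = 2 := by
      rw [hD, classInner_sub_left, classInner_sub_right, classInner_sub_right, classInner_irr_self h.irr,
        classInner_irr_self h.irr', classInner_irr_ne h.irr h.irr' h.ne, classInner_irr_ne h.irr' h.irr h.ne.symm]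
      norm_num
    rw [classInner, inv_mul_eq_iff_eq_mul₀ card_cast_ne_zero] at hDD
    rw [mul_comm, ← hDD]
    refine Finset.sum_congr rfl fun g _ => ?_
    rw [Complex.mul_conj']
    push_cast
    rfl
  rw [Finset.sum_congr rfl fun g _ => hnorm g] at hsum
  rw [sum_sl, card_sl_cast] at hsum
  have hpm : (Finset.univ.filter fun c : F => c ^ 2 = 1) = {1, -1} := by
    ext c
    simp [sq_eq_one_iff]
  have hne1 : (1 : F) ≠ -1 := fun e => h2 (by linear_combination e)
  set K : ℂ := ((‖D w‖ ^ 2 : ℝ) : ℂ) with hKdef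
  have hA0 : ∀ a ∈ Finset.univ.filter (fun a : F => a ≠ 0 ∧ a ^ 2 ≠ 1),
      (if a + a⁻¹ = 2 ∨ a + a⁻¹ = -2 then K else 0) = 0 := by
    intro a ha
    obtain ⟨-, ha0, ha⟩ := Finset.mem_filter.1 ha
    refine if_neg ?_
    rintro (e | e) <;> refine ha ?_ <;> field_simp at e
    · have : (a - 1) ^ 2 = 0 := by linear_combination e
      rw [sub_eq_zero.1 ((pow_eq_zero_iff two_ne_zero).1 this), one_pow]
    · have : (a + 1) ^ 2 = 0 := by linear_combination e
      rw [eq_neg_of_add_eq_zero_left ((pow_eq_zero_iff two_ne_zero).1 this), neg_one_sq]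
  have hC0 : ∀ k ∈ outside.filter (fun k : Quad F => nm k = 1),
      (if tr k = 2 ∨ tr k = -2 then K else 0) = 0 := by
    intro k hk
    obtain ⟨hk, hk1⟩ := Finset.mem_filter.1 hk
    refine if_neg ?_
    have hr := roots_tr_nm hk
    rw [hk1] at hr
    rintro (e | e)
    · refine Finset.notMem_empty (1 : F) (hr ▸ ?_)
      rw [mem_roots, e]; ring
    · refine Finset.notMem_empty (-1 : F) (hr ▸ ?_)
      rw [mem_roots, e]; ring
  rw [hpm, Finset.sum_pair hne1, Finset.sum_eq_zero hA0, Finset.sum_eq_zero hC0] at hsum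
  simp only [mul_one, mul_neg, true_or, or_true, if_true, mul_zero, add_zero, zero_add] at hsum
  have hK : ((‖D w‖ ^ 2 : ℝ) : ℂ) = (q : ℂ) := by
    have e : 2 * (((q : ℂ) + 1) * ((q : ℂ) - 1)) * (((‖D w‖ ^ 2 : ℝ) : ℂ) - q) = 0 := by linear_combination hsum
    refine sub_eq_zero.1 ((mul_eq_zero.1 e).resolve_left ?_)
    exact mul_ne_zero two_ne_zero (mul_ne_zero q_add_one_ne_zero q_sub_one_ne_zero)
  have hconj : conj (D w) = (if IsSquare (-1 : F) then 1 else -1) * D w := by
    have hwinv : w⁻¹ = cj (x0 (-1)) w := by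
      have hx : ((x0 (-1 : Fˣ))⁻¹ : GL (Fin 2) F) = x0 (-1) := inv_eq_of_mul_eq_one_right (Units.ext (by
        rw [Units.val_mul]
        ext i j
        fin_cases i <;> fin_cases j <;>
          simp [x0_coe, Matrix.mul_apply,
            Fin.sum_univ_two]))
      refine Subtype.ext ?_
      rw [Matrix.SpecialLinearGroup.coe_inv, cj_coe, hx]
      ext i j
      fin_cases i <;> fin_cases j <;>
        simp [hw, uu_coe, x0_coe, Matrix.mul_apply,
          Fin.sum_univ_two, Matrix.adjugate_fin_two]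
    have hDinv : conj (D w) = D w⁻¹ := by
      rw [hD, Pi.sub_apply, Pi.sub_apply, map_sub, h.irr.isCharacter.apply_inv, h.irr'.isCharacter.apply_inv]
    rw [hDinv, hwinv]
    split_ifs with hsq
    · rw [one_mul, classFn_cj (by rw [det_x0, Units.val_neg, Units.val_one]; exact hsq) hDc]
    · have hxx : IsSquare ((x0 (-1 : Fˣ) * (x0 ν)⁻¹ : GL (Fin 2) F) : M2 F).det := by
        by_contra hns
        refine hsq ?_
        rw [show (-1 : F) = (x0 (-1 : Fˣ) : M2 F).det by simp [det_x0],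
          ← inv_mul_cancel_right (x0 (-1 : Fˣ)) (x0 ν), Units.val_mul, Matrix.det_mul, det_x0,
          isSquare_mul_nonsquare hν (Matrix.GeneralLinearGroup.det_ne_zero _)]
        exact hns
      rw [← inv_mul_cancel_right (x0 (-1 : Fˣ)) (x0 ν), cj_mul, classFn_cj hxx hDc, hD, Pi.sub_apply, Pi.sub_apply,
        h.swap, h.swap']
      ring
  have hmc := Complex.mul_conj' (D w)
  rw [hconj] at hmc
  push_cast at hK
  rw [hK] at hmc
  show D w ^ 2 = _
  split_ifs at hmc ⊢ with hsq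
  · linear_combination hmc
  · linear_combination -hmc

end Values

end Cfsg.Lib.TwoDim
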