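import Cfsg.Agent.Lib.TwoDim.Count
import Cfsg.Agent.Lib.Linear.TwoClasses
import Cfsg.Agent.Lib.Concrete.GL2Basic
import Cfsg.Agent.Lib.Char.Induced
import Cfsg.Agent.Lib.Char.Linear

/-!
# Induction from the Borel subgroups and from a non-split torus of `GL₂`
-/

set_option autoImplicit false
set_option linter.unusedSectionVars false

namespace Cfsg.Lib.TwoDim

open Finset Matrix Cfsg
open scoped MatrixGroups

universe u

section Reps

variable {G : Type*} [Group G] [Fintype G]

/-- Induction as a sum over coset representatives. -/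
theorem indFun_eq_sum_reps {ι : Type*} [Fintype ι] (H : Subgroup G) {θ : H → ℂ}
    (hθ : IsClassFunction H θ) (r : ι → G)
    (hr : Function.Bijective fun i => (QuotientGroup.mk (r i) : G ⧸ H)) (g : G) :
    indFun H θ g = ∑ i, extendByZero H θ ((r i)⁻¹ * g * r i) := by
  classical
  have hbij : Function.Bijective (fun x : ι × H => r x.1 * (x.2 : G)) := by
    constructor
    · rintro ⟨i, h⟩ ⟨j, k⟩ e
      simp only at e
      have hij : i = j := hr.1 (QuotientGroup.eq.2 (by
        rw [show (r i)⁻¹ * r j = (h : G) * (k : G)⁻¹ by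
          rw [inv_mul_eq_iff_eq_mul, ← mul_assoc, e, mul_inv_cancel_right]]
        exact H.mul_mem h.2 (H.inv_mem k.2)))
      subst hij
      rw [Subtype.ext (mul_left_cancel e)]
    · intro y
      obtain ⟨i, hi⟩ := hr.2 (QuotientGroup.mk y)
      exact ⟨(i, ⟨(r i)⁻¹ * y, QuotientGroup.eq.1 hi⟩), mul_inv_cancel_left (r i) y⟩
  have key : ∀ (i : ι) (h : H), extendByZero H θ ((r i * (h : G))⁻¹ * g * (r i * (h : G))) =
      extendByZero H θ ((r i)⁻¹ * g * r i) := by
    intro i h
    rw [show (r i * (h : G))⁻¹ * g * (r i * (h : G)) = (h : G)⁻¹ * ((r i)⁻¹ * g * r i) * h by group]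
    by_cases hy : (r i)⁻¹ * g * r i ∈ H
    · rw [Cfsg.Lib.Char.extendByZero_of_mem H θ hy,
        Cfsg.Lib.Char.extendByZero_of_mem H θ (H.mul_mem (H.mul_mem (H.inv_mem h.2) hy) h.2)]
      have := hθ ⟨_, hy⟩ h⁻¹
      rw [inv_inv] at this
      exact this
    · rw [Cfsg.Lib.Char.extendByZero_of_notMem H θ hy, Cfsg.Lib.Char.extendByZero_of_notMem H θ]
      intro hm
      refine hy ?_
      have := H.mul_mem (H.mul_mem h.2 hm) (H.inv_mem h.2)
      rwa [show (h : G) * ((h : G)⁻¹ * ((r i)⁻¹ * g * r i) * h) * (h : G)⁻¹ = (r i)⁻¹ * g * r i by group] at this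
  rw [indFun, ← (Equiv.ofBijective _ hbij).sum_comp, Fintype.sum_prod_type, Finset.mul_sum]
  refine Finset.sum_congr rfl fun i _ => ?_
  simp only [Equiv.ofBijective_apply]
  rw [Finset.sum_congr rfl (g := fun _ => extendByZero H θ ((r i)⁻¹ * g * r i)) fun h _ => key i h,
    Finset.sum_const, Finset.card_univ, nsmul_eq_mul, ← mul_assoc, Nat.card_eq_fintype_card, inv_mul_cancel₀,
    one_mul]
  exact Nat.cast_ne_zero.2 Fintype.card_ne_zero

end Reps

variable {F : Type u} [Field F]

section Borel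

/-- Representatives of the lines. -/
def lineRep : Option F → SL(2, F)
  | some a => ⟨!![1, 0; a, 1], by simp [Matrix.det_fin_two]⟩
  | none => ⟨!![0, -1; 1, 0], by simp [Matrix.det_fin_two]⟩

/-- Conjugating by a representative. -/
def lineConj (M : M2 F) : Option F → M2 F
  | some a => !![M 0 0 + M 0 1 * a, M 0 1; M 1 0 + (M 1 1 - M 0 0) * a - M 0 1 * a ^ 2, M 1 1 - a * M 0 1]
  | none => !![M 1 1, -M 1 0; -M 0 1, M 0 0]

theorem lineRep_mul (M : M2 F) (o : Option F) :
    (lineRep o : M2 F) * lineConj M o = M * (lineRep o : M2 F) := by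
  cases o <;> (ext i j; fin_cases i <;> fin_cases j <;>
    simp [lineRep, lineConj, Matrix.mul_apply, Fin.sum_univ_two] <;> ring)

theorem conj_lineRep (g : GL (Fin 2) F) (o : Option F) :
    (((Matrix.SpecialLinearGroup.toGL (lineRep o))⁻¹ * g * Matrix.SpecialLinearGroup.toGL (lineRep o) :
      GL (Fin 2) F) : M2 F) = lineConj (g : M2 F) o := by
  rw [mul_assoc, Units.val_mul, Units.val_mul]
  change _ * ((g : M2 F) * (lineRep o : M2 F)) = _
  rw [← lineRep_mul, ← mul_assoc]
  change ((Matrix.SpecialLinearGroup.toGL (lineRep o))⁻¹ : GL (Fin 2) F).val *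
    (Matrix.SpecialLinearGroup.toGL (lineRep o) : GL (Fin 2) F).val * _ = _
  rw [Units.inv_mul, one_mul]

theorem conj_lineRep_sl (g : SL(2, F)) (o : Option F) :
    (((lineRep o)⁻¹ * g * lineRep o : SL(2, F)) : M2 F) = lineConj (g : M2 F) o := by
  have := conj_lineRep (Matrix.SpecialLinearGroup.toGL g) o
  rwa [← map_inv, ← map_mul, ← map_mul] at this

theorem mem_upper {x : GL (Fin 2) F} : x ∈ Cfsg.upperTriangularGL 2 F ↔ (x : M2 F) 1 0 = 0 :=
  Cfsg.Lib.Concrete.mem_upperTriangularGL_two x

theorem lineRep_inv_mul (o : Option F) (y : SL(2, F)) :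
    (((lineRep o)⁻¹ * y : SL(2, F)) : M2 F) 1 0 =
      match o with
      | some a => (y : M2 F) 1 0 - a * (y : M2 F) 0 0
      | none => -(y : M2 F) 0 0 := by
  rw [Matrix.SpecialLinearGroup.coe_mul, Matrix.SpecialLinearGroup.coe_inv]
  cases o <;> simp [lineRep, Matrix.adjugate_fin_two, Matrix.mul_apply, Fin.sum_univ_two]
  ring

theorem lineRep_injective_mod {o o' : Option F}
    (h : (((lineRep o)⁻¹ * lineRep o' : SL(2, F)) : M2 F) 1 0 = 0) : o = o' := by
  rw [lineRep_inv_mul] at h
  rcases o with _ | a <;> rcases o' with _ | b <;> simp [lineRep] at h ⊢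
  linear_combination -h

theorem lineRep_bij_gl :
    Function.Bijective fun o : Option F =>
      (QuotientGroup.mk (Matrix.SpecialLinearGroup.toGL (lineRep o)) : GL (Fin 2) F ⧸ Cfsg.upperTriangularGL 2 F) := by
  constructor
  · intro o o' h
    have h1 := QuotientGroup.eq.1 h
    rw [← map_inv, ← map_mul, mem_upper] at h1
    exact lineRep_injective_mod h1
  · intro x
    obtain ⟨y, rfl⟩ := QuotientGroup.mk_surjective x
    have key : ∀ o : Option F, (((Matrix.SpecialLinearGroup.toGL (lineRep o))⁻¹ * y : GL (Fin 2) F) : M2 F) 1 0 =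
        match o with
        | some a => (y : M2 F) 1 0 - a * (y : M2 F) 0 0
        | none => -(y : M2 F) 0 0 := by
      intro o
      rw [← map_inv, Units.val_mul]
      change ((((lineRep o)⁻¹ : SL(2, F)) : M2 F) * (y : M2 F)) 1 0 = _
      rw [Matrix.SpecialLinearGroup.coe_inv]
      cases o <;> simp [lineRep, Matrix.adjugate_fin_two, Matrix.mul_apply, Fin.sum_univ_two]
      ring
    rcases eq_or_ne ((y : M2 F) 0 0) 0 with h | h
    · exact ⟨none, QuotientGroup.eq.2 (by rw [mem_upper, key]; simp [h])⟩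
    · exact ⟨some ((y : M2 F) 1 0 / (y : M2 F) 0 0),
        QuotientGroup.eq.2 (by rw [mem_upper, key]; simp [h])⟩

theorem lineRep_bij_sl :
    Function.Bijective fun o : Option F =>
      (QuotientGroup.mk (lineRep o) :
        SL(2, F) ⧸ (Cfsg.upperTriangularGL 2 F).comap Matrix.SpecialLinearGroup.toGL) := by
  constructor
  · intro o o' h
    have h1 := QuotientGroup.eq.1 h
    rw [Subgroup.mem_comap, mem_upper] at h1
    exact lineRep_injective_mod h1
  · intro x
    obtain ⟨y, rfl⟩ := QuotientGroup.mk_surjective x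
    rcases eq_or_ne ((y : M2 F) 0 0) 0 with h | h
    · refine ⟨none, QuotientGroup.eq.2 ?_⟩
      rw [Subgroup.mem_comap, mem_upper]
      exact (lineRep_inv_mul none y).trans (by simp [h])
    · refine ⟨some ((y : M2 F) 1 0 / (y : M2 F) 0 0), QuotientGroup.eq.2 ?_⟩
      rw [Subgroup.mem_comap, mem_upper]
      exact (lineRep_inv_mul (some _) y).trans (by simp [h])

variable [Fintype F] [DecidableEq F]

local notation "q" => Fintype.card F

/-- Principal series, scalar values. -/
noncomputable def psS (α β : MulChar F ℂ) (c : F) : ℂ := ((q : ℂ) + 1) * (α c * β c)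

/-- Principal series, other values. -/
noncomputable def psV (α β : MulChar F ℂ) (t d : F) : ℂ := ∑ a ∈ roots t d, α a * β (d * a⁻¹)

/-- The function on upper triangular matrices. -/
noncomputable def borelFun (α β : MulChar F ℂ) (M : M2 F) : ℂ := if M 1 0 = 0 then α (M 0 0) * β (M 1 1) else 0

theorem sum_borelFun {M : M2 F} (hM : M.det ≠ 0) (α β : MulChar F ℂ) :
    ∑ o, borelFun α β (lineConj M o) = ofData (psS α β) (psV α β) M := by
  by_cases hs : IsSc M
  · obtain ⟨c, rfl⟩ := isSc_iff.1 hs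
    rw [ofData_smul, psS, Fintype.sum_option]
    simp [borelFun, lineConj]
    ring
  rw [ofData_of_not hs, psV, Fintype.sum_option]
  have htd : M.trace = M 0 0 + M 1 1 ∧ M.det = M 0 0 * M 1 1 - M 0 1 * M 1 0 :=
    ⟨Matrix.trace_fin_two M, Matrix.det_fin_two M⟩
  have hne : ∀ e, e ∈ roots M.trace M.det → e ≠ 0 := fun e he h => hM (by
    rw [mem_roots, h] at he; linear_combination he)
  by_cases h01 : M 0 1 = 0
  · have hroots : roots M.trace M.det = {M 0 0, M 1 1} := by
      rw [roots_eq_pair (a := M 0 0) (by rw [mem_roots, htd.1, htd.2, h01]; ring), htd.1, add_sub_cancel_left]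
    have hprod : M 0 0 * M 1 1 ≠ 0 := by rw [htd.2, h01, zero_mul, sub_zero] at hM; exact hM
    have hnone : borelFun α β (lineConj M none) = α (M 1 1) * β (M 0 0) := by simp [borelFun, lineConj, h01]
    have hsome : ∀ a : F, borelFun α β (lineConj M (some a)) =
        if M 1 0 + (M 1 1 - M 0 0) * a = 0 then α (M 0 0) * β (M 1 1) else 0 := fun a => by
      simp [borelFun, lineConj, h01]
    rw [hnone, Finset.sum_congr rfl fun a _ => hsome a, hroots, htd.2, h01, zero_mul, sub_zero]
    by_cases he : M 0 0 = M 1 1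
    · have h10 : M 1 0 ≠ 0 := fun h => hs ⟨h01, h, he⟩
      rw [Finset.sum_eq_zero fun a _ => if_neg (by rw [he, sub_self, zero_mul, add_zero]; exact h10), add_zero,
        he, Finset.pair_eq_singleton, Finset.sum_singleton, mul_inv_cancel_right₀ (right_ne_zero_of_mul hprod)]
    · have hd : M 1 1 - M 0 0 ≠ 0 := sub_ne_zero.2 (Ne.symm he)
      rw [Finset.sum_pair he, Finset.sum_eq_single (-M 1 0 / (M 1 1 - M 0 0)),
        if_pos (by field_simp; ring), mul_comm (M 0 0) (M 1 1), mul_inv_cancel_right₀ (left_ne_zero_of_mul hprod),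
        mul_comm (M 1 1) (M 0 0), mul_inv_cancel_right₀ (right_ne_zero_of_mul hprod), add_comm]
      · intro a _ ha
        exact if_neg fun h => ha (by field_simp; linear_combination h)
      · exact fun h => absurd (Finset.mem_univ _) h
  · have hnone : borelFun α β (lineConj M none) = 0 := by simp [borelFun, lineConj, h01]
    rw [hnone, zero_add]
    simp only [borelFun, lineConj, Matrix.of_apply, Matrix.cons_val', Matrix.cons_val_zero, Matrix.cons_val_one,
      Matrix.cons_val_fin_one]
    rw [← Finset.sum_filter]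
    refine Finset.sum_bij' (fun a _ => M 0 0 + M 0 1 * a) (fun e _ => (e - M 0 0) / M 0 1) ?_ ?_ ?_ ?_ ?_
    · intro a ha
      rw [Finset.mem_filter] at ha
      rw [mem_roots, htd.1, htd.2]
      linear_combination -(M 0 1) * ha.2
    · intro e he
      rw [mem_roots, htd.1, htd.2] at he
      rw [Finset.mem_filter]
      refine ⟨Finset.mem_univ _, ?_⟩
      field_simp
      linear_combination -he
    · intro a _
      field_simp
      ring
    · intro e _
      field_simp
      ring
    · intro a ha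
      rw [Finset.mem_filter] at ha
      have he : M 0 0 + M 0 1 * a ∈ roots M.trace M.det := by
        rw [mem_roots, htd.1, htd.2]; linear_combination -(M 0 1) * ha.2
      have h0 := hne _ he
      congr 2
      rw [eq_mul_inv_iff_mul_eq₀ h0, htd.2]
      linear_combination (M 0 1) * ha.2

/-- The linear character of the Borel subgroup of `GL₂`. -/
noncomputable def borelHom (α β : MulChar F ℂ) : ↥(Cfsg.upperTriangularGL 2 F) →* ℂˣ :=
  MonoidHom.toHomUnits
    { toFun := fun b => α (((b : GL (Fin 2) F) : M2 F) 0 0) * β (((b : GL (Fin 2) F) : M2 F) 1 1)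
      map_one' := by simp
      map_mul' := fun a b => by
        have ha := mem_upper.1 a.2
        have hb := mem_upper.1 b.2
        rw [Subgroup.coe_mul, Units.val_mul]
        simp [Matrix.mul_apply, Fin.sum_univ_two, ha, hb]
        ring }

theorem borelHom_apply (α β : MulChar F ℂ) (b : ↥(Cfsg.upperTriangularGL 2 F)) :
    (borelHom α β b : ℂ) = α (((b : GL (Fin 2) F) : M2 F) 0 0) * β (((b : GL (Fin 2) F) : M2 F) 1 1) := rfl

theorem isClassFunction_hom {G : Type*} [Group G] (φ : G →* ℂˣ) : IsClassFunction G fun g => (φ g : ℂ) := by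
  intro g h
  show ((φ (h * g * h⁻¹)) : ℂ) = φ g
  rw [map_mul, map_mul, map_inv, mul_comm (φ h), mul_inv_cancel_right]

theorem indFun_borel_gl (α β : MulChar F ℂ) (g : GL (Fin 2) F) :
    indFun (Cfsg.upperTriangularGL 2 F) (fun b => α (((b : GL (Fin 2) F) : M2 F) 0 0) *
      β (((b : GL (Fin 2) F) : M2 F) 1 1)) g = ofData (psS α β) (psV α β) (g : M2 F) := by
  have hθ : IsClassFunction ↥(Cfsg.upperTriangularGL 2 F) (fun b => α (((b : GL (Fin 2) F) : M2 F) 0 0) *
      β (((b : GL (Fin 2) F) : M2 F) 1 1)) := isClassFunction_hom (borelHom α β)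
  rw [indFun_eq_sum_reps _ hθ _ lineRep_bij_gl, ← sum_borelFun g.det_ne_zero α β]
  refine Finset.sum_congr rfl fun o _ => ?_
  set y := (Matrix.SpecialLinearGroup.toGL (lineRep o))⁻¹ * g * Matrix.SpecialLinearGroup.toGL (lineRep o) with hy
  rw [← conj_lineRep g o, ← hy, borelFun]
  by_cases h : y ∈ Cfsg.upperTriangularGL 2 F
  · rw [Cfsg.Lib.Char.extendByZero_of_mem _ _ h, if_pos (mem_upper.1 h)]
  · rw [Cfsg.Lib.Char.extendByZero_of_notMem _ _ h, if_neg fun h' => h (mem_upper.2 h')]

theorem indFun_borel_sl (α : MulChar F ℂ) (g : SL(2, F)) :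
    indFun ((Cfsg.upperTriangularGL 2 F).comap Matrix.SpecialLinearGroup.toGL)
      (fun b => α (((b : SL(2, F)) : M2 F) 0 0)) g = ofData (psS α 1) (psV α 1) (g : M2 F) := by
  have hval : ∀ b : ↥((Cfsg.upperTriangularGL 2 F).comap Matrix.SpecialLinearGroup.toGL),
      α (((b : SL(2, F)) : M2 F) 0 0) =
        ((borelHom α 1).comp (Matrix.SpecialLinearGroup.toGL.subgroupComap _) b : ℂ) := by
    intro b
    rw [MonoidHom.comp_apply, borelHom_apply]
    have hb : ((b : SL(2, F)) : M2 F) 1 0 = 0 :=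
      (mem_upper (x := Matrix.SpecialLinearGroup.toGL (b : SL(2, F)))).1 b.2
    have hdet : ((b : SL(2, F)) : M2 F) 0 0 * ((b : SL(2, F)) : M2 F) 1 1 = 1 := by
      have := Matrix.det_fin_two ((b : SL(2, F)) : M2 F)
      rw [(b : SL(2, F)).2, hb, mul_zero, sub_zero] at this
      exact this.symm
    have h11 : IsUnit (((b : SL(2, F)) : M2 F) 1 1) := Ne.isUnit (right_ne_zero_of_mul_eq_one hdet)
    exact ((congrArg _ (MulChar.one_apply h11)).trans (mul_one _)).symm
  rw [funext hval, indFun_eq_sum_reps _ (isClassFunction_hom _) _ lineRep_bij_sl,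
    ← sum_borelFun (by rw [g.2]; exact one_ne_zero) α 1]
  refine Finset.sum_congr rfl fun o _ => ?_
  set y := (lineRep o)⁻¹ * g * lineRep o with hy
  rw [← conj_lineRep_sl g o, ← hy, borelFun]
  by_cases h : y ∈ (Cfsg.upperTriangularGL 2 F).comap Matrix.SpecialLinearGroup.toGL
  · rw [Cfsg.Lib.Char.extendByZero_of_mem _ _ h, if_pos (show (y : M2 F) 1 0 = 0 from mem_upper.1 h)]; rfl
  · rw [Cfsg.Lib.Char.extendByZero_of_notMem _ _ h,
      if_neg fun h' : (y : M2 F) 1 0 = 0 => h (Subgroup.mem_comap.2 (mem_upper.2 h'))]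

end Borel

section Conj

/-- Non-scalar elements with equal trace and determinant are conjugate. -/
theorem isConj_of_tr_det {g h : GL (Fin 2) F} (hg : ¬ IsSc (g : M2 F)) (hh : ¬ IsSc (h : M2 F))
    (ht : (g : M2 F).trace = (h : M2 F).trace) (hd : (g : M2 F).det = (h : M2 F).det) : IsConj g h := by
  have key : ∀ x : GL (Fin 2) F, ¬ IsSc (x : M2 F) → ∃ C : GL (Fin 2) F, (x : M2 F) * (C : M2 F) =
      (C : M2 F) * Cfsg.Agent.Lib.Linear.TwoClasses.cmp (x : M2 F).trace (x : M2 F).det := by
    intro x hx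
    obtain ⟨v, hv⟩ := Cfsg.Agent.Lib.Linear.TwoClasses.exists_cyc (x : M2 F) fun c hc => hx (isSc_iff.2 ⟨c, hc⟩)
    exact ⟨Matrix.GeneralLinearGroup.mkOfDetNeZero _ hv, Cfsg.Agent.Lib.Linear.TwoClasses.mul_cyc _ v⟩
  obtain ⟨C, hC⟩ := key g hg
  obtain ⟨D, hD⟩ := key h hh
  rw [← ht, ← hd] at hD
  refine isConj_iff.2 ⟨D * C⁻¹, Units.ext ?_⟩
  rw [Units.val_mul, Units.val_mul, _root_.mul_inv_rev, inv_inv, Units.val_mul, Units.val_mul]
  simp only [mul_assoc]
  rw [← mul_assoc (g : M2 F), hC]
  simp only [← mul_assoc]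
  rw [mul_assoc (D : M2 F), Units.inv_mul, mul_one, ← hD, mul_assoc, Units.mul_inv, mul_one]

theorem no_eigen {M : M2 F} {t d : F} (ht : M.trace = t) (hd : M.det = d) [Fintype F] [DecidableEq F]
    (hr : roots t d = ∅) (c : F) (v : Fin 2 → F) (hv : v ≠ 0) : M.mulVec v ≠ c • v := by
  intro h
  have h0 : (M - c • 1).det = 0 := Matrix.exists_mulVec_eq_zero_iff.1
    ⟨v, hv, by rw [Matrix.sub_mulVec, h, Matrix.smul_mulVec, Matrix.one_mulVec, sub_self]⟩
  have : c ∈ roots t d := by
    rw [mem_roots, ← ht, ← hd, Matrix.trace_fin_two, Matrix.det_fin_two]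
    simp [Matrix.det_fin_two] at h0
    linear_combination h0
  rw [hr] at this
  exact Finset.notMem_empty c this

end Conj

section Torus

variable [Fintype F] [DecidableEq F]

local notation "q" => Fintype.card F

/-- A basis of the quadratic extension. -/
noncomputable def quadBasis : Module.Basis (Fin 2) F (Quad F) := Module.finBasisOfFinrankEq F (Quad F) finrank_quad

/-- The non-split torus. -/
noncomputable def torusHom : (Quad F)ˣ →* GL (Fin 2) F :=
  Units.map (Algebra.leftMulMatrix (quadBasis (F := F))).toRingHom.toMonoidHom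

theorem torusHom_val (k : (Quad F)ˣ) :
    (torusHom k : M2 F) = Algebra.leftMulMatrix (quadBasis (F := F)) (k : Quad F) := rfl

theorem torusHom_injective : Function.Injective (torusHom (F := F)) := fun k l h =>
  Units.ext (Algebra.leftMulMatrix_injective _ (congrArg Units.val h))

theorem trace_torus (k : (Quad F)ˣ) : (torusHom k : M2 F).trace = tr (k : Quad F) :=
  (Algebra.trace_eq_matrix_trace quadBasis _).symm

theorem det_torus (k : (Quad F)ˣ) : (torusHom k : M2 F).det = nm (k : Quad F) :=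
  (Algebra.norm_eq_matrix_det quadBasis _).symm

theorem isSc_torus (k : (Quad F)ˣ) : IsSc (torusHom k : M2 F) ↔ (k : Quad F) ∉ outside := by
  rw [isSc_iff, mem_outside, not_not]
  constructor
  · rintro ⟨c, hc⟩
    have : (k : Quad F) = inc c := Algebra.leftMulMatrix_injective _ (hc.trans (by
      rw [AlgHom.commutes, Algebra.algebraMap_eq_smul_one]))
    rw [this, inc_pow]
  · intro h
    obtain ⟨c, hc⟩ := exists_inc_of_fixed h
    exact ⟨c, by rw [torusHom_val, ← hc, AlgHom.commutes, Algebra.algebraMap_eq_smul_one]⟩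

/-- Induced from the torus, scalar values. -/
noncomputable def tS (θ : MulChar (Quad F) ℂ) (c : F) : ℂ := (q : ℂ) * ((q : ℂ) - 1) * θ (inc c)

/-- Induced from the torus, other values. -/
noncomputable def tV (θ : MulChar (Quad F) ℂ) (t d : F) : ℂ := ∑ k ∈ (kroots t d).filter (· ∈ outside), θ k

/-- The linear character of the torus. -/
noncomputable def torusChar (θ : MulChar (Quad F) ℂ) : ↥(torusHom (F := F)).range →* ℂˣ :=
  θ.toUnitHom.comp (MonoidHom.ofInjective (torusHom_injective (F := F))).symm.toMonoidHom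

theorem torusChar_apply (θ : MulChar (Quad F) ℂ) (k : (Quad F)ˣ) :
    (torusChar θ ⟨torusHom k, ⟨k, rfl⟩⟩ : ℂ) = θ k := by
  rw [torusChar, MonoidHom.comp_apply, MulChar.coe_toUnitHom]
  congr 2
  exact (MonoidHom.ofInjective (torusHom_injective (F := F))).injective
    ((MulEquiv.apply_symm_apply _ _).trans rfl)

theorem card_torus : Nat.card ↥(torusHom (F := F)).range = q ^ 2 - 1 := by
  rw [← Nat.card_congr (MonoidHom.ofInjective (torusHom_injective (F := F))).toEquiv, Nat.card_eq_fintype_card,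
    Fintype.card_units, card_quad]

theorem card_torus_cast : (Nat.card ↥(torusHom (F := F)).range : ℂ) = (q : ℂ) ^ 2 - 1 := by
  rw [card_torus, Nat.cast_sub (Nat.one_le_pow _ _ Fintype.card_pos)]
  push_cast; ring

theorem indFun_torus (θ : MulChar (Quad F) ℂ) (g : GL (Fin 2) F) :
    indFun (torusHom (F := F)).range (fun x => (torusChar θ x : ℂ)) g = ofData (tS θ) (tV θ) (g : M2 F) := by
  classical
  have hcard : ((q : ℂ) ^ 2 - 1) ≠ 0 := by
    rw [← card_torus_cast]; exact Nat.cast_ne_zero.2 Nat.card_pos.ne'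
  by_cases hs : IsSc (g : M2 F)
  · obtain ⟨c, hc⟩ := isSc_iff.1 hs
    have hc0 : c ≠ 0 := fun h => g.det_ne_zero (by rw [hc, h]; simp)
    have hgk : g = torusHom (Units.mk0 (inc c) ((map_ne_zero _).2 hc0)) := Units.ext (by
      rw [torusHom_val, Units.val_mk0, AlgHom.commutes, Algebra.algebraMap_eq_smul_one]; exact hc)
    have hcen : ∀ x : GL (Fin 2) F, x⁻¹ * g * x = g := fun x => by
      rw [mul_assoc, inv_mul_eq_iff_eq_mul]
      exact Units.ext (by rw [Units.val_mul, Units.val_mul, hc]; simp)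
    rw [indFun, Finset.sum_congr rfl (g := fun _ => θ (inc c)) fun x _ => ?_]
    · rw [Finset.sum_const, Finset.card_univ, nsmul_eq_mul, ← Nat.card_eq_fintype_card,
        Matrix.card_GL_field, hc, ofData_smul, tS, card_torus_cast, Fin.prod_univ_two, Nat.cast_mul,
        Nat.cast_sub (Nat.pow_le_pow_right Fintype.card_pos (by norm_num)),
        Nat.cast_sub (Nat.pow_le_pow_right Fintype.card_pos (by norm_num))]
      field_simp
      push_cast
      simp only [Fin.val_zero, Fin.val_one, pow_zero, pow_one]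
      ring
    · rw [hcen, hgk, Cfsg.Lib.Char.extendByZero_of_mem _ _ (MonoidHom.mem_range.2 ⟨_, rfl⟩), torusChar_apply]
      rfl
  rw [ofData_of_not hs, tV, indFun]
  set R := (kroots (g : M2 F).trace (g : M2 F).det).filter (· ∈ outside) with hR
  have key : ∀ x : GL (Fin 2) F, extendByZero _ (fun x => (torusChar θ x : ℂ)) (x⁻¹ * g * x) =
      ∑ k ∈ R, if ((x⁻¹ * g * x : GL (Fin 2) F) : M2 F) = Algebra.leftMulMatrix (quadBasis (F := F)) k
        then θ k else 0 := by
    intro x
    by_cases hx : x⁻¹ * g * x ∈ (torusHom (F := F)).range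
    · obtain ⟨k, hk⟩ := hx
      have hsim : (x : M2 F) * (torusHom k : M2 F) = (g : M2 F) * (x : M2 F) := by
        rw [hk, ← Units.val_mul, ← Units.val_mul, mul_assoc, mul_inv_cancel_left]
      have htr := Cfsg.Agent.Lib.Linear.TwoClasses.trace_of_semiconj x.det_ne_zero hsim
      rw [trace_torus, det_torus] at htr
      have hkR : (k : Quad F) ∈ R := by
        rw [hR, Finset.mem_filter, mem_kroots]
        refine ⟨htr, ?_⟩
        by_contra hno
        exact hs ((isSc_conj x.det_ne_zero hsim).1 ((isSc_torus k).2 hno))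
      rw [← hk, Cfsg.Lib.Char.extendByZero_of_mem _ _ (MonoidHom.mem_range.2 ⟨k, rfl⟩), torusChar_apply, torusHom_val,
        Finset.sum_eq_single (k : Quad F) (fun l _ hl => if_neg fun h =>
          hl (Algebra.leftMulMatrix_injective _ h).symm) (fun h => absurd hkR h), if_pos rfl]
    · rw [Cfsg.Lib.Char.extendByZero_of_notMem _ _ hx, Finset.sum_eq_zero]
      intro k hk
      refine if_neg fun h => hx ?_
      exact ⟨Units.mk0 k (ne_zero_of_outside (Finset.mem_filter.1 hk).2), Units.ext (by rw [h]; rfl)⟩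
  rw [Finset.sum_congr rfl fun x _ => key x, Finset.sum_comm, Finset.mul_sum]
  refine Finset.sum_congr rfl fun k hk => ?_
  rw [hR, Finset.mem_filter, mem_kroots] at hk
  obtain ⟨⟨ht, hd⟩, hko⟩ := hk
  set τ := torusHom (Units.mk0 k (ne_zero_of_outside hko)) with hτ
  have hτv : (τ : M2 F) = Algebra.leftMulMatrix (quadBasis (F := F)) k := rfl
  have hτs : ¬ IsSc (τ : M2 F) := fun h => (isSc_torus _).1 h hko
  obtain ⟨x₀, hx₀⟩ := isConj_iff.1 (isConj_of_tr_det hτs hs
    (by rw [hτ, trace_torus]; exact ht) (by rw [hτ, det_torus]; exact hd))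
  have hcent : Nat.card (Subgroup.centralizer ({g} : Set (GL (Fin 2) F))) = q ^ 2 - 1 := by
    refine Cfsg.Lib.Concrete.card_centralizer_anisotropic (no_eigen rfl rfl ?_)
    rw [← ht, ← hd]
    exact roots_tr_nm hko
  have hcount : (Finset.univ.filter fun x : GL (Fin 2) F =>
      ((x⁻¹ * g * x : GL (Fin 2) F) : M2 F) = Algebra.leftMulMatrix (quadBasis (F := F)) k).card = q ^ 2 - 1 := by
    rw [← hcent, Nat.card_eq_fintype_card, Fintype.card_of_subtype (s := Finset.univ.filter fun x => x ∈
      Subgroup.centralizer ({g} : Set (GL (Fin 2) F))) (fun x => by simp)]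
    refine Finset.card_bij' (fun x _ => x * x₀⁻¹) (fun y _ => y * x₀) ?_ ?_ ?_ ?_
    · intro x hx
      simp only [Finset.mem_filter, Finset.mem_univ, true_and, ← hτv] at hx ⊢
      have hx' : x⁻¹ * g * x = τ := Units.ext hx
      rw [Subgroup.mem_centralizer_singleton_iff]
      calc x * x₀⁻¹ * g = x * (x₀⁻¹ * g * x₀) * x₀⁻¹ := by group
        _ = x * τ * x₀⁻¹ := by rw [← hx₀]; group
        _ = g * (x * x₀⁻¹) := by rw [← hx']; group
    · intro y hy
      simp only [Finset.mem_filter, Finset.mem_univ, true_and, ← hτv] at hy ⊢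
      rw [Subgroup.mem_centralizer_singleton_iff] at hy
      congr 1
      calc (y * x₀)⁻¹ * g * (y * x₀) = x₀⁻¹ * (y⁻¹ * (g * y)) * x₀ := by group
        _ = x₀⁻¹ * g * x₀ := by rw [← hy, inv_mul_cancel_left]
        _ = τ := by rw [← hx₀]; group
    · intro x _; exact inv_mul_cancel_right x x₀
    · intro y _; exact mul_inv_cancel_right y x₀
  rw [← Finset.sum_filter, Finset.sum_const, hcount, nsmul_eq_mul, card_torus, ← mul_assoc, inv_mul_cancel₀, one_mul]
  rw [← card_torus]
  exact Nat.cast_ne_zero.2 Nat.card_pos.ne'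

end Torus

end Cfsg.Lib.TwoDim
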