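import Cfsg.Agent.Lib.TwoDim.SylowTwo
import Cfsg.Agent.Lib.Char.Ito
import Cfsg.Agent.Lib.Char.Linear
import Cfsg.Agent.Lib.Char.Formulas

/-!
# Characters of degree prime to `ℓ`
-/

set_option autoImplicit false
set_option linter.unusedSectionVars false

namespace Cfsg.Lib.TwoDim

open Finset Cfsg Cfsg.Lib.Char
open scoped MatrixGroups commutatorElement

universe u v

section Generic

variable {H : Type u} [Group H] [Finite H] {H₀ : Type v} [Group H₀]

theorem charDegree_of_eq {G : Type u} [Group G] {χ : G → ℂ} {n : ℕ} (h : χ 1 = (n : ℂ)) : charDegree χ = n := by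
  simp [charDegree, h]

theorem card_conjClasses_congr (e : H₀ ≃* H) : Nat.card (ConjClasses H₀) = Nat.card (ConjClasses H) := by
  refine Nat.card_eq_of_bijective (ConjClasses.map e.toMonoidHom) ⟨?_, ?_⟩
  · intro x y h
    obtain ⟨a, rfl⟩ := ConjClasses.exists_rep x
    obtain ⟨b, rfl⟩ := ConjClasses.exists_rep y
    have h' : IsConj (e a) (e b) := ConjClasses.mk_eq_mk_iff_isConj.1 h
    refine ConjClasses.mk_eq_mk_iff_isConj.2 ?_
    simpa using e.symm.toMonoidHom.map_isConj h'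
  · exact ConjClasses.map_surjective e.surjective

/-- The number of irreducible characters of degree prime to `ℓ`. -/
noncomputable def primeCount (ℓ : ℕ) (H : Type u) [Group H] : ℕ :=
  Nat.card {χ : IrrCharacter H // ¬ ℓ ∣ charDegree (χ : H → ℂ)}

theorem primeCount_all {ℓ : ℕ} (h : ∀ χ : IrrCharacter H, ¬ ℓ ∣ charDegree (χ : H → ℂ)) :
    primeCount ℓ H = Nat.card (ConjClasses H) := by
  have := Fintype.ofFinite H
  rw [primeCount, Nat.card_congr (Equiv.subtypeUnivEquiv h), card_irr_eq_card_conjClasses]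

theorem primeCount_of_abelian {ℓ k : ℕ} (e : H₀ ≃* H) (A : Subgroup H₀) [A.Normal]
    (hA : ∀ a ∈ A, ∀ b ∈ A, a * b = b * a) (hk : A.index = k) (hℓ : ¬ ℓ ∣ k) :
    primeCount ℓ H = Nat.card (ConjClasses H₀) := by
  have := Fintype.ofFinite H
  rw [card_conjClasses_congr e]
  refine primeCount_all fun χ hd => hℓ (hd.trans ?_)
  have : (A.map e.toMonoidHom).Normal := Subgroup.Normal.map inferInstance _ e.surjective
  have h1 := degree_dvd_index_of_comm (A.map e.toMonoidHom) (by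
    rintro _ ⟨a, ha, rfl⟩ _ ⟨b, hb, rfl⟩
    rw [← map_mul, ← map_mul, hA a ha b hb]) χ.2 χ.2.apply_one_eq_charDegree
  rwa [show A.map e.toMonoidHom = A.map (e : H₀ →* H) from rfl, Subgroup.index_map_equiv, hk] at h1

theorem primeCount_two_group {j : ℕ} (hj : Nat.card H = 2 ^ j) : primeCount 2 H = (commutator H).index := by
  rw [← card_degree_one, primeCount]
  refine Nat.card_congr (Equiv.subtypeEquivRight fun χ => ?_)
  have hd := charDegree_dvd_card χ.2
  rw [hj] at hd
  obtain ⟨i, -, hi⟩ := (Nat.dvd_prime_pow Nat.prime_two).1 hd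
  rw [χ.2.apply_one_eq_charDegree, Nat.cast_eq_one, hi]
  rcases Nat.eq_zero_or_pos i with rfl | hpos
  · simp
  · exact iff_of_false (fun h => h (dvd_pow_self 2 hpos.ne'))
      (fun e => by have := Nat.one_lt_two_pow hpos.ne'; omega)

theorem primeCount_twentyfour (h24 : Nat.card H = 24) (hc : (commutator H).index = 3) : primeCount 2 H = 4 := by
  classical
  have := Fintype.ofFinite H
  set d : IrrCharacter H → ℕ := fun χ => charDegree (χ : H → ℂ) with hddef
  have hsum : ∑ χ : IrrCharacter H, d χ ^ 2 = 24 := by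
    have h := sum_sq_degree (G := H)
    rw [h24, Finset.sum_congr rfl (fun (χ : IrrCharacter H) (_ : χ ∈ Finset.univ) =>
      show ((χ : H → ℂ) 1) ^ 2 = ((d χ ^ 2 : ℕ) : ℂ) by rw [χ.2.apply_one_eq_charDegree]; push_cast; rfl),
      ← Nat.cast_sum] at h
    exact_mod_cast h
  have hd : ∀ χ, d χ = 1 ∨ d χ = 2 ∨ d χ = 3 ∨ d χ = 4 := by
    intro χ
    have h1 : d χ ∣ 24 := h24 ▸ charDegree_dvd_card χ.2
    have h2 : d χ ^ 2 ≤ 24 := hsum ▸ Finset.single_le_sum (f := fun χ => d χ ^ 2) (fun _ _ => Nat.zero_le _)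
      (Finset.mem_univ χ)
    have h0 : 0 < d χ := Nat.pos_of_dvd_of_pos h1 (by norm_num)
    have h5 : d χ < 5 := by
      by_contra h
      have : 5 ^ 2 ≤ d χ ^ 2 := Nat.pow_le_pow_left (by omega) 2
      omega
    omega
  have hterm : ∀ χ, d χ ^ 2 = (if d χ = 1 then 1 else 0) + 4 * (if d χ = 2 then 1 else 0) +
      9 * (if d χ = 3 then 1 else 0) + 16 * (if d χ = 4 then 1 else 0) := by
    intro χ
    rcases hd χ with e | e | e | e <;> simp [e]
  rw [Finset.sum_congr rfl fun χ _ => hterm χ, Finset.sum_add_distrib, Finset.sum_add_distrib, Finset.sum_add_distrib,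
    ← Finset.mul_sum, ← Finset.mul_sum, ← Finset.mul_sum, ← Finset.card_filter, ← Finset.card_filter,
    ← Finset.card_filter, ← Finset.card_filter] at hsum
  have h1 : (Finset.univ.filter fun χ => d χ = 1).card = 3 := by
    rw [← hc, ← card_degree_one]
    exact (Nat.subtype_card _ fun χ => by
      rw [Finset.mem_filter, χ.2.apply_one_eq_charDegree, Nat.cast_eq_one]; simp [hddef]).symm
  have h2 : primeCount 2 H = (Finset.univ.filter fun χ => ¬ 2 ∣ d χ).card :=
    Nat.subtype_card _ fun χ => by simp [hddef]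
  rw [h2, Finset.card_filter, Finset.sum_congr rfl fun χ _ =>
    show (if ¬ 2 ∣ d χ then 1 else 0 : ℕ) = (if d χ = 1 then 1 else 0) + (if d χ = 3 then 1 else 0) by
      rcases hd χ with e | e | e | e <;> simp [e],
    Finset.sum_add_distrib, ← Finset.card_filter, ← Finset.card_filter]
  omega

theorem index_commutator_congr {H : Type*} [Group H] {H₀ : Type*} [Group H₀] (e : H₀ ≃* H) :
    (commutator H₀).index = (commutator H).index :=
  Nat.card_congr e.abelianizationCongr.toEquiv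

end Generic

section Quaternion

variable {F : Type u} [Field F] [Fintype F] {A : Type v} [CommGroup A] [Finite A] {ι : A →* SL(2, F)} {w : SL(2, F)}

local notation "q" => Fintype.card F

/-- The Sylow `2`-subgroup and its normaliser modulo commutators. -/
theorem IsTorus.quat_data [IsCyclic A] (h : IsTorus ι w) (h2 : (2 : F) ≠ 0) (h4 : 4 ∣ Nat.card A) {m : ℕ}
    (hm : m % 4 = 2) (hnm : Nat.card A * m = (q - 1) * (q + 1)) (hodd : Odd q) (S : Sylow 2 SL(2, F)) :
    ∃ (S₀ : Subgroup SL(2, F)) (e : SL(2, F) ≃* SL(2, F)) (j : ℕ), Nat.card ↥S₀ = 2 ^ j ∧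
      (S : Subgroup SL(2, F)) = S₀.map e.toMonoidHom ∧ (commutator ↥S₀).index = 4 ∧
      (¬ 8 ∣ Nat.card A → (commutator ↥(Subgroup.normalizer (S₀ : Set SL(2, F)))).index = 3 ∧
        Nat.card ↥(Subgroup.normalizer (S₀ : Set SL(2, F))) = 24) := by
  classical
  have hn0 : Nat.card A ≠ 0 := Nat.card_pos.ne'
  set k := (Nat.card A).factorization 2 with hk
  have hk2 : 2 ≤ k := (Nat.prime_two.pow_dvd_iff_le_factorization hn0).1 h4
  set T : Subgroup A := (powMonoidHom (2 ^ k) : A →* A).ker with hTdef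
  have hTmem : ∀ a : A, a ∈ T ↔ a ^ 2 ^ k = 1 := fun a => MonoidHom.mem_ker
  have hT : ∀ e : A, e ^ 2 = 1 → e ∈ T := fun e he => (hTmem e).2 (by
    obtain ⟨j, hj⟩ : 2 ∣ 2 ^ k := dvd_pow_self 2 (by omega)
    rw [hj, pow_mul, he, one_pow])
  have hTcard : Nat.card ↥T = 2 ^ k := by
    rw [hTdef, IsCyclic.card_powMonoidHom_ker, Nat.gcd_eq_right]
    exact Nat.ordProj_dvd _ _
  obtain ⟨c, hc⟩ := IsCyclic.exists_generator (α := ↥T)
  have hgen : ∀ a ∈ T, ∃ i : ℤ, a = (c : A) ^ i := fun a ha => by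
    obtain ⟨i, hi⟩ := Subgroup.mem_zpowers_iff.1 (hc ⟨a, ha⟩)
    exact ⟨i, (congrArg Subtype.val hi).symm⟩
  have hco : orderOf (c : A) = 2 ^ k := by
    rw [Subgroup.orderOf_coe, orderOf_eq_card_of_forall_mem_zpowers hc, hTcard]
  set S₀ := quatSub h T hT with hS₀
  have hcS : ι c ∈ S₀ := Or.inl ⟨c, c.2, rfl⟩
  have hwS : w ∈ S₀ := Or.inr ⟨1, T.one_mem, by rw [map_one, mul_one]⟩
  have hfm : m.factorization 2 = 1 := by
    obtain ⟨m', rfl⟩ : 2 ∣ m := by omega
    rw [Nat.factorization_mul (by norm_num) (by omega), Finsupp.add_apply, Nat.Prime.factorization_self Nat.prime_two,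
      Nat.factorization_eq_zero_of_not_dvd (by omega)]
  have hSL : (Nat.card SL(2, F)).factorization 2 = k + 1 := by
    have hqpos : 0 < q := Fintype.card_pos
    rw [card_sl_factor, mul_assoc, ← hnm, Nat.factorization_mul (by omega) (Nat.mul_ne_zero hn0 (by omega)),
      Nat.factorization_mul hn0 (by omega), Finsupp.add_apply, Finsupp.add_apply, hfm,
      Nat.factorization_eq_zero_of_not_dvd (by obtain ⟨j, hj⟩ := hodd; omega)]
    omega
  have hcard : Nat.card ↥S₀ = 2 ^ (k + 1) := by rw [hS₀, card_quatSub, hTcard, pow_succ']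
  obtain ⟨g₀, hg₀⟩ := MulAction.exists_smul_eq SL(2, F) (Sylow.ofCard S₀ (by rw [hcard, hSL])) S
  have hSe : (S : Subgroup SL(2, F)) = S₀.map (MulAut.conj g₀).toMonoidHom := by rw [← hg₀]; rfl
  refine ⟨S₀, MulAut.conj g₀, k + 1, hcard, hSe, ?_, fun h8 => ?_⟩
  · -- the squares of the cyclic part
    set T2 : Subgroup A := Subgroup.zpowers ((c : A) ^ 2) with hT2
    have hT2card : Nat.card ↥T2 * 2 = 2 ^ k := by
      rw [hT2, Nat.card_zpowers, orderOf_pow, hco, Nat.gcd_eq_right (dvd_pow_self 2 (by omega)), Nat.div_mul_cancel (dvd_pow_self 2 (by omega))]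
    set M : Subgroup ↥S₀ := (T2.map ι).subgroupOf S₀ with hM
    have hT2le : T2.map ι ≤ S₀ := by
      rintro _ ⟨a, ha, rfl⟩
      exact Or.inl ⟨a, (Subgroup.zpowers_le.2 (T.pow_mem c.2 2)) ha, rfl⟩
    have hMnorm : M.Normal := ⟨by
      rintro ⟨x, hx⟩ ⟨a, ha, hax⟩ ⟨g, hg⟩
      have hax' : ι a = x := hax
      refine Subgroup.mem_subgroupOf.2 ?_
      show g * x * g⁻¹ ∈ T2.map ι
      rw [← hax']
      rcases hg with ⟨b, -, rfl⟩ | ⟨b, -, rfl⟩
      · rw [← map_inv, ← map_mul, ← map_mul, mul_inv_cancel_comm]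
        exact ⟨a, ha, rfl⟩
      · refine ⟨a⁻¹, T2.inv_mem ha, ?_⟩
        rw [_root_.mul_inv_rev, ← map_inv ι b, show w * ι b * ι a * (ι b⁻¹ * w⁻¹) = w * (ι b * ι a * ι b⁻¹) * w⁻¹ by group,
          ← map_mul, ← map_mul, mul_inv_cancel_comm, h.inv]⟩
    have hMindex : M.index = 4 := by
      have e1 : Nat.card ↥M = Nat.card ↥T2 :=
        (Nat.card_congr (Subgroup.subgroupOfEquivOfLe hT2le).toEquiv).trans (Subgroup.card_map_of_injective h.inj)
      have e2 := M.index_mul_card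
      rw [e1, hcard, pow_succ', ← hT2card] at e2
      refine Nat.eq_of_mul_eq_mul_right (Nat.card_pos (α := ↥T2)) ?_
      rw [e2]
      ring
    have hle : commutator ↥S₀ ≤ M := by
      refine (Subgroup.Normal.quotient_commutative_iff_commutator_le).1 ?_
      have h4' : Nat.card (↥S₀ ⧸ M) = 2 ^ 2 := by rw [← Subgroup.index_eq_card, hMindex]; norm_num
      exact ⟨⟨fun a b => IsPGroup.commutative_of_card_eq_prime_sq h4' a b⟩⟩
    have hge : M ≤ commutator ↥S₀ := by
      have hsq : (⟨ι ((c : A) ^ 2), hT2le ⟨_, Subgroup.mem_zpowers _, rfl⟩⟩ : ↥S₀) ∈ commutator ↥S₀ := by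
        have e : ⁅(⟨ι c, hcS⟩ : ↥S₀), (⟨w, hwS⟩ : ↥S₀)⁆ = ⟨ι ((c : A) ^ 2), hT2le ⟨_, Subgroup.mem_zpowers _, rfl⟩⟩ := by
          refine Subtype.ext ?_
          show ι c * w * (ι c)⁻¹ * w⁻¹ = ι ((c : A) ^ 2)
          rw [mul_assoc (ι (c : A)) w, mul_assoc (ι (c : A)), ← map_inv, h.inv, inv_inv, ← map_mul, _root_.sq]
        rw [← e, commutator_def]
        exact Subgroup.commutator_mem_commutator (Subgroup.mem_top _) (Subgroup.mem_top _)
      rintro ⟨x, hx⟩ ⟨a, ha, hax⟩
      obtain ⟨i, rfl⟩ := Subgroup.mem_zpowers_iff.1 ha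
      have := Subgroup.zpow_mem _ hsq i
      convert this using 1
      refine Subtype.ext ?_
      have hax' : ι (((c : A) ^ 2) ^ i) = x := hax
      rw [Subgroup.coe_zpow, ← map_zpow, hax']
    rw [le_antisymm hle hge, hMindex]
  · have hcardN : Nat.card ↥(Subgroup.normalizer (S₀ : Set SL(2, F))) = 24 := by
      have := (h.sylow_two h2 h4 hm hnm hodd S).2.2 h8
      rw [hSe, card_normalizer_map, Subgroup.card_map_of_injective (f := (MulAut.conj g₀).toMonoidHom)
        (MulAut.conj g₀).injective, hcard] at this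
      have hkeq : k = 2 := by
        by_contra hne
        exact h8 ((Nat.prime_two.pow_dvd_iff_le_factorization hn0).2 (show 3 ≤ k by omega))
      rw [this, hkeq]
      norm_num
    refine ⟨?_, hcardN⟩
    have hkeq : k = 2 := by
      by_contra hne
      exact h8 ((Nat.prime_two.pow_dvd_iff_le_factorization hn0).2 (show 3 ≤ k by omega))
    have hc2 : (c : A) ^ 2 ≠ 1 := fun e => by
      have := Nat.le_of_dvd two_pos (hco ▸ orderOf_dvd_of_pow_eq_one e)
      rw [hkeq] at this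
      omega
    have hX : ι c * ι c = -1 := by
      have hs : ((c : A) ^ 2) ^ 2 = 1 := by
        rw [← pow_mul, show 2 * 2 = 2 ^ k by rw [hkeq]; norm_num, ← hco, pow_orderOf_eq_one]
      have := Cfsg.Agent.S0261.sq_one h2 (ι ((c : A) ^ 2)) (by rw [← map_pow, hs, map_one])
      rw [← map_mul, ← _root_.sq]
      rcases this with e | e
      · exact absurd (h.inj (by rw [map_one]; exact Subtype.ext (by rw [e, Matrix.SpecialLinearGroup.coe_one]))) hc2
      · exact Subtype.ext (by rw [e, Matrix.SpecialLinearGroup.coe_neg, Matrix.SpecialLinearGroup.coe_one])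
    have hinvc : ι ((c : A)⁻¹) = -ι c := by
      rw [map_inv]
      exact inv_eq_of_mul_eq_one_right (by rw [mul_neg, hX, neg_neg])
    obtain ⟨g, hg1, hg2⟩ := exists_quat_perm h2 hX h.sq (by rw [h.move, hinvc, mul_neg, neg_neg])
    have hgX : g * ι c * g⁻¹ = w := by rw [hg1, mul_inv_cancel_right]
    have hgY : g * w * g⁻¹ = ι c * w := by rw [hg2, mul_inv_cancel_right]
    set N := Subgroup.normalizer (S₀ : Set SL(2, F))
    have hgN : g ∈ N := by
      have hgen' : ∀ K : Subgroup SL(2, F), ι c ∈ K → w ∈ K → S₀ ≤ K := by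
        rintro K hK hK' x (⟨a, ha, rfl⟩ | ⟨a, ha, rfl⟩) <;> obtain ⟨i, rfl⟩ := hgen a ha <;> rw [map_zpow]
        exacts [K.zpow_mem hK i, K.mul_mem hK' (K.zpow_mem hK i)]
      have hsub : S₀ ≤ S₀.comap (MulAut.conj g).toMonoidHom := hgen' _
        (show g * ι c * g⁻¹ ∈ S₀ by rw [hgX]; exact hwS)
        (show g * w * g⁻¹ ∈ S₀ by rw [hgY]; exact S₀.mul_mem hcS hwS)
      have heq : S₀.map (MulAut.conj g).toMonoidHom = S₀ := Subgroup.eq_of_le_of_card_ge (Subgroup.map_le_iff_le_comap.2 hsub)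
        (le_of_eq (Subgroup.card_map_of_injective (f := (MulAut.conj g).toMonoidHom) (MulAut.conj g).injective).symm)
      rw [Subgroup.mem_normalizer_iff]
      intro x
      refine ⟨fun hx => hsub hx, fun hx => ?_⟩
      rw [← heq] at hx
      obtain ⟨y, hy, e⟩ := hx
      rwa [← (MulAut.conj g).injective e]
    set M : Subgroup ↥N := S₀.subgroupOf N with hM
    have hMnorm : M.Normal := Subgroup.normal_in_normalizer
    have hMindex : M.index = 3 := by
      have e1 : Nat.card ↥M = 8 := by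
        rw [hM, Nat.card_congr (Subgroup.subgroupOfEquivOfLe (Subgroup.le_normalizer : S₀ ≤ N)).toEquiv, hcard, hkeq]
        norm_num
      have e2 := M.index_mul_card
      rw [e1, hcardN] at e2
      omega
    have hle : commutator ↥N ≤ M := by
      refine (Subgroup.Normal.quotient_commutative_iff_commutator_le).1 ?_
      have : Fact (Nat.Prime 3) := ⟨Nat.prime_three⟩
      have h3 : Nat.card (↥N ⧸ M) = 3 := by rw [← Subgroup.index_eq_card, hMindex]
      have := isCyclic_of_prime_card h3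
      exact IsCyclic.isMulCommutative
    have hge : M ≤ commutator ↥N := by
      have hmem : ∀ (x : SL(2, F)) (hx : x ∈ S₀) (y : SL(2, F)), g * x * g⁻¹ * x⁻¹ = y →
          y ∈ (commutator ↥N).map N.subtype := by
        intro x hx y e
        refine ⟨⁅(⟨g, hgN⟩ : ↥N), (⟨x, Subgroup.le_normalizer hx⟩ : ↥N)⁆, ?_, e⟩
        rw [SetLike.mem_coe, commutator_def]
        exact Subgroup.commutator_mem_commutator (Subgroup.mem_top _) (Subgroup.mem_top _)
      have k1 := hmem w hwS (ι c) (by rw [hgY, mul_inv_cancel_right])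
      have k2 := hmem (ι c) hcS (w * (ι c)⁻¹) (by rw [hgX])
      have k3 : w ∈ (commutator ↥N).map N.subtype := by
        simpa using Subgroup.mul_mem _ k2 k1
      intro x hx
      obtain ⟨z, hz, e⟩ := (show S₀ ≤ (commutator ↥N).map N.subtype from by
        rintro y (⟨a, ha, rfl⟩ | ⟨a, ha, rfl⟩) <;> obtain ⟨i, rfl⟩ := hgen a ha <;> rw [map_zpow]
        exacts [Subgroup.zpow_mem _ k1 i, Subgroup.mul_mem _ k3 (Subgroup.zpow_mem _ k1 i)]) hx
      rwa [← Subtype.ext e]
    rw [le_antisymm hle hge, hMindex]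

end Quaternion

section SL

variable {F : Type u} [Field F] [Fintype F] [DecidableEq F]

local notation "q" => Fintype.card F

/-- Whether a degree counts. -/
def wt (ℓ d : ℕ) : ℕ := if ℓ ∣ d then 0 else 1

theorem primeCount_sl (hodd : Odd q) (ℓ : ℕ) :
    primeCount ℓ SL(2, F) = wt ℓ 1 + wt ℓ q + (q - 3) / 2 * wt ℓ (q + 1) + (q - 1) / 2 * wt ℓ (q - 1) +
      2 * wt ℓ ((q + 1) / 2) + 2 * wt ℓ ((q - 1) / 2) := by
  classical
  obtain ⟨D⟩ := exists_halfData hodd
  have e1 : primeCount ℓ SL(2, F) = ((baseSet F ∪ D.halfSet).filter fun f => ¬ ℓ ∣ charDegree f).card := by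
    rw [primeCount, Nat.card_congr (Equiv.subtypeSubtypeEquivSubtypeInter (IsIrrCharacter SL(2, F))
      fun f => ¬ ℓ ∣ charDegree f)]
    exact Nat.subtype_card _ fun f => by rw [Finset.mem_filter, ← isIrr_sl_odd D]
  have hne : oneR F ≠ stR F := ne_of_inner irr_oneR inner_oneR_stR
  have d1 : Disjoint ({oneR F, stR F} : Finset (SL(2, F) → ℂ)) (psSet1 F) := by
    rw [Finset.disjoint_left]
    intro f h1 h2
    obtain ⟨α, hα, rfl⟩ := mem_psSet1.1 h2
    rcases Finset.mem_insert.1 h1 with h | h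
    · exact ne_of_inner irr_oneR (by rw [inner_oneR_psR, if_neg (ne_one_of_sq_ne hα)]) h.symm
    · exact ne_of_inner irr_stR (by rw [inner_stR_psR, if_neg (ne_one_of_sq_ne hα)]) (Finset.mem_singleton.1 h).symm
  have d2 : Disjoint ({oneR F, stR F} ∪ psSet1 F) (cuSet1 F) := by
    rw [Finset.disjoint_left]
    intro f h1 h2
    obtain ⟨φ, hφ, rfl⟩ := mem_cuSet1.1 h2
    rcases Finset.mem_union.1 h1 with h1 | h1
    · rcases Finset.mem_insert.1 h1 with h | h
      · exact ne_of_inner irr_oneR (inner_oneR_cuQ (ne_one_of_sq_ne hφ)) h.symm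
      · exact ne_of_inner irr_stR (inner_stR_cuQ (ne_one_of_sq_ne hφ)) (Finset.mem_singleton.1 h).symm
    · obtain ⟨α, hα, h⟩ := mem_psSet1.1 h1
      exact ne_of_inner (irr_psR hα) (inner_psR_cuR α (lift1 φ)) h
  obtain ⟨n1, n2, n3, n4, n5, n6⟩ := D.card_halfSet
  set W : (SL(2, F) → ℂ) → ℕ := fun f => wt ℓ (charDegree f) with hW
  have hval : ∀ {f : SL(2, F) → ℂ} {n : ℕ}, f 1 = (n : ℂ) → W f = wt ℓ n := fun h => by
    simp only [hW, charDegree_of_eq h]
  have p1 : ∀ f ∈ psSet1 F, W f = wt ℓ (q + 1) := fun f hf => by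
    obtain ⟨α, hα, rfl⟩ := mem_psSet1.1 hf
    exact hval (psR_one α)
  have p2 : ∀ f ∈ cuSet1 F, W f = wt ℓ (q - 1) := fun f hf => by
    obtain ⟨φ, hφ, rfl⟩ := mem_cuSet1.1 hf
    exact hval (cuR_one _)
  have hb : ∑ f ∈ baseSet F, W f =
      wt ℓ 1 + wt ℓ q + (psSet1 F).card * wt ℓ (q + 1) + (cuSet1 F).card * wt ℓ (q - 1) := by
    rw [baseSet, Finset.sum_union d2, Finset.sum_union d1, Finset.sum_pair hne, hval oneR_one, hval stR_one,
      Finset.sum_congr rfl p1, Finset.sum_congr rfl p2, Finset.sum_const, Finset.sum_const, smul_eq_mul, smul_eq_mul]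
  have hh : ∑ f ∈ D.halfSet, W f = 2 * wt ℓ ((q + 1) / 2) + 2 * wt ℓ ((q - 1) / 2) := by
    rw [HalfData.halfSet, Finset.sum_insert (by simp [n1, n2, n3]), Finset.sum_insert (by simp [n4, n5]),
      Finset.sum_pair n6, hval (IsHalf.degree_ps ⟨_, _, D.hν, D.psplit⟩ hodd),
      hval (IsHalf.degree_ps ⟨_, _, D.hν, D.psplit.symm⟩ hodd),
      hval (IsHalf.degree_cu ⟨_, _, D.hν, D.csplit⟩ hodd),
      hval (IsHalf.degree_cu ⟨_, _, D.hν, D.csplit.symm⟩ hodd)]
    ring
  have e2 : ((baseSet F ∪ D.halfSet).filter fun f => ¬ ℓ ∣ charDegree f).card =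
      ∑ f ∈ baseSet F ∪ D.halfSet, W f := by
    rw [Finset.card_filter]
    refine Finset.sum_congr rfl fun f _ => ?_
    simp only [hW, wt]
    split_ifs <;> rfl
  have hA := two_mul_card_psSet1 (F := F)
  have hB := two_mul_card_cuSet1 (F := F)
  have ho := Nat.odd_iff.1 hodd
  rw [Nat.gcd_eq_right (Nat.dvd_of_mod_eq_zero (by omega : (q - 1) % 2 = 0))] at hA
  rw [Nat.gcd_eq_right (Nat.dvd_of_mod_eq_zero (by omega : (q + 1) % 2 = 0))] at hB
  rw [e1, e2, Finset.sum_union D.disjoint, hb, hh, show (psSet1 F).card = (q - 3) / 2 by omega,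
    show (cuSet1 F).card = (q - 1) / 2 by omega]
  ring

end SL

end Cfsg.Lib.TwoDim
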