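import Cfsg.Agent.Lib.TwoDim.QuadExt

/-!
# Norm one elements and orthogonality of multiplicative characters
-/

set_option autoImplicit false
set_option linter.unusedSectionVars false

namespace Cfsg.Lib.TwoDim

open Finset

universe u

variable {F : Type u} [Field F] [Fintype F] [DecidableEq F]

local notation "q" => Fintype.card F

theorem nm_eq_one_iff {k : Quad F} : nm k = 1 ↔ k ^ (q + 1) = 1 := by
  rw [← inc_injective.eq_iff, inc_nm, map_one, pow_succ']

theorem nm_inc_eq_one {c : F} : nm (inc c) = 1 ↔ c ^ 2 = 1 := by rw [nm_inc]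

/-- The norm one units of the quadratic extension. -/
noncomputable def normOne (F : Type u) [Field F] [Fintype F] [DecidableEq F] : Subgroup (Quad F)ˣ :=
  (powMonoidHom (Fintype.card F + 1)).ker

theorem mem_normOne {k : (Quad F)ˣ} : k ∈ normOne F ↔ nm (k : Quad F) = 1 := by
  rw [normOne, MonoidHom.mem_ker, powMonoidHom_apply, nm_eq_one_iff, Units.ext_iff, Units.val_pow_eq_pow_val,
    Units.val_one]

theorem card_normOne : Nat.card ↥(normOne F) = q + 1 := by
  rw [normOne, IsCyclic.card_powMonoidHom_ker, Nat.card_eq_fintype_card, Fintype.card_units, card_quad]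
  refine Nat.gcd_eq_right ⟨q - 1, ?_⟩
  rw [← Nat.sq_sub_sq q 1, one_pow]

/-- The norm one elements as a finset. -/
noncomputable def normOneSet (F : Type u) [Field F] [Fintype F] [DecidableEq F] : Finset (Quad F) :=
  Finset.univ.filter fun k => nm k = 1

theorem mem_normOneSet {k : Quad F} : k ∈ normOneSet F ↔ nm k = 1 := by simp [normOneSet]

theorem sum_normOneSet {β : Type*} [AddCommMonoid β] [Fintype ↥(normOne F)] (f : Quad F → β) :
    ∑ k ∈ normOneSet F, f k = ∑ x : ↥(normOne F), f ((x : (Quad F)ˣ) : Quad F) := by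
  refine Finset.sum_bij' (fun k hk => ⟨Units.mk0 k (fun h => ?_), mem_normOne.2 (mem_normOneSet.1 hk)⟩)
    (fun x _ => ((x : (Quad F)ˣ) : Quad F)) ?_ ?_ ?_ ?_ ?_
  · have := nm_eq_one_iff.1 (mem_normOneSet.1 hk)
    rw [h, zero_pow (Nat.succ_ne_zero _)] at this
    exact zero_ne_one this
  · intro k _; exact Finset.mem_univ _
  · intro x _; exact mem_normOneSet.2 (mem_normOne.1 x.2)
  · intro k _; rfl
  · intro x _; exact Subtype.ext (Units.ext rfl)
  · intro k _; rfl

theorem card_normOneSet : (normOneSet F).card = q + 1 := by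
  classical
  have : Fintype ↥(normOne F) := Fintype.ofFinite _
  rw [Finset.card_eq_sum_ones, sum_normOneSet, ← Finset.card_eq_sum_ones, Finset.card_univ,
    ← Nat.card_eq_fintype_card, card_normOne]

theorem sum_normOne_split {β : Type*} [AddCommMonoid β] (f : Quad F → β) :
    ∑ k ∈ normOneSet F, f k =
      (∑ c ∈ Finset.univ.filter (fun c : F => c ^ 2 = 1), f (inc c)) +
        ∑ k ∈ outside.filter (fun k : Quad F => nm k = 1), f k := by
  rw [← Finset.sum_filter_add_sum_filter_not (normOneSet F) (fun k => k ∉ outside)]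
  congr 1
  · refine (Finset.sum_bij (fun c _ => inc c) ?_ ?_ ?_ ?_).symm
    · intro c hc
      exact Finset.mem_filter.2 ⟨mem_normOneSet.2 (nm_inc_eq_one.2 (Finset.mem_filter.1 hc).2), inc_not_outside c⟩
    · intro c _ c' _ h
      exact inc_injective h
    · intro k hk
      rw [Finset.mem_filter, mem_outside, not_not] at hk
      obtain ⟨c, rfl⟩ := exists_inc_of_fixed hk.2
      exact ⟨c, Finset.mem_filter.2 ⟨Finset.mem_univ _, nm_inc_eq_one.1 (mem_normOneSet.1 hk.1)⟩, rfl⟩
    · intro c _; rfl
  · refine Finset.sum_congr ?_ fun _ _ => rfl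
    ext k
    simp [normOneSet, and_comm]

theorem card_norm_one_split :
    (Finset.univ.filter fun c : F => c ^ 2 = 1).card + (outside.filter fun k : Quad F => nm k = 1).card = q + 1 := by
  rw [← card_normOneSet, Finset.card_eq_sum_ones, Finset.card_eq_sum_ones, Finset.card_eq_sum_ones,
    sum_normOne_split]

section CharSums

variable {K : Type*} [Field K] [Fintype K]

/-- Orthogonality of multiplicative characters. -/
theorem sum_mul_star (α β : MulChar K ℂ) [Decidable (α = β)] :
    ∑ a, α a * star (β a) = if α = β then (Fintype.card K : ℂ) - 1 else 0 := by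
  classical
  simp only [MulChar.star_apply', ← MulChar.mul_apply]
  split_ifs with h
  · rw [h, mul_inv_cancel, MulChar.sum_one_eq_card_units, Fintype.card_units, Nat.cast_sub Fintype.card_pos,
      Nat.cast_one]
  · exact MulChar.sum_eq_zero_of_ne_one (fun e => h (mul_inv_eq_one.1 e))

theorem star_mul_self (α : MulChar K ℂ) {a : K} (ha : a ≠ 0) : star (α a) * α a = 1 := by
  rw [MulChar.star_apply', ← MulChar.mul_apply, inv_mul_cancel, MulChar.one_apply (Ne.isUnit ha)]

theorem norm_mulChar (α : MulChar K ℂ) {a : K} (ha : a ≠ 0) : ‖α a‖ = 1 := by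
  have := star_mul_self α ha
  rw [Complex.star_def, Complex.conj_mul'] at this
  have h2 : ‖α a‖ ^ 2 = 1 := by exact_mod_cast this
  exact (sq_eq_one_iff.1 h2).resolve_right (by linarith [norm_nonneg (α a)])

end CharSums

theorem mulChar_pow_q (θ : MulChar (Quad F) ℂ) (k : Quad F) : (θ ^ q) k = θ (k ^ q) := by
  rw [MulChar.pow_apply' θ Fintype.card_ne_zero, map_pow]

theorem pow_q_pow_q (θ : MulChar (Quad F) ℂ) : (θ ^ q) ^ q = θ := MulChar.ext fun k => by
  rw [mulChar_pow_q, mulChar_pow_q, quad_pow_pow]

/-- The restriction of a character of the quadratic extension. -/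
noncomputable def resF (θ : MulChar (Quad F) ℂ) : MulChar F ℂ where
  toMonoidHom := θ.toMonoidHom.comp (inc (F := F)).toMonoidHom
  map_nonunit' a ha := by
    rw [isUnit_iff_ne_zero, not_not] at ha
    subst ha
    exact (congrArg θ (map_zero (inc (F := F)))).trans θ.map_zero

theorem resF_apply (θ : MulChar (Quad F) ℂ) (a : F) : resF θ a = θ (inc a) := rfl

end Cfsg.Lib.TwoDim
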