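import Cfsg.Agent.Lib.TwoDim.Torus
import Cfsg.Agent.Lib.Linear.DicksonTwo
import Cfsg.Agent.S0261

/-!
# The two tori of `SL₂` and their normalisers
-/

set_option autoImplicit false
set_option linter.unusedSectionVars false

namespace Cfsg.Lib.TwoDim

open Finset Matrix Cfsg
open scoped MatrixGroups

universe u v

variable {F : Type u} [Field F]

/-- A torus given by a homomorphism with an inverting element of square `-1`. -/
structure IsTorus {A : Type v} [CommGroup A] (ι : A →* SL(2, F)) (w : SL(2, F)) : Prop where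
  inj : Function.Injective ι
  cent : ∀ a : A, a ^ 2 ≠ 1 → ∀ g : SL(2, F), g * ι a = ι a * g → g ∈ ι.range
  inv : ∀ a : A, w * ι a * w⁻¹ = ι a⁻¹
  sq : w * w = -1
  trace : ∀ a b : A, a ^ 2 ≠ 1 → (ι a : M2 F).trace = (ι b : M2 F).trace → b = a ∨ b = a⁻¹
  exists_reg : ∃ a : A, a ^ 2 ≠ 1

namespace IsTorus

variable {A : Type v} [CommGroup A] {ι : A →* SL(2, F)} {w : SL(2, F)}

theorem neg_one_mem (h : IsTorus ι w) : (-1 : SL(2, F)) ∈ ι.range := by
  obtain ⟨a, ha⟩ := h.exists_reg
  exact h.cent a ha _ (by rw [neg_mul, mul_neg, one_mul, mul_one])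

theorem not_mem (h : IsTorus ι w) (b : A) : w * ι b ∉ ι.range := by
  rintro ⟨c, hc⟩
  obtain ⟨a, ha⟩ := h.exists_reg
  have hw : w = ι (c * b⁻¹) := by rw [map_mul, map_inv, hc, mul_inv_cancel_right]
  have := h.inv a
  rw [hw, ← map_inv, ← map_mul, ← map_mul, mul_comm (c * b⁻¹) a, mul_inv_cancel_right] at this
  exact ha (by rw [_root_.sq]; exact mul_eq_one_iff_eq_inv.2 (h.inj this))

theorem move (h : IsTorus ι w) (a : A) : ι a * w = w * ι a⁻¹ := by
  have := h.inv a⁻¹
  rw [inv_inv] at this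
  rw [← this, inv_mul_cancel_right]

theorem sq_outside (h : IsTorus ι w) (a : A) : w * ι a * (w * ι a) = -1 := by
  rw [mul_assoc, ← mul_assoc (ι a), h.move, mul_assoc, ← map_mul, inv_mul_cancel, map_one, mul_one, h.sq]

theorem centralizer_singleton (h : IsTorus ι w) {a : A} (ha : a ^ 2 ≠ 1) :
    Subgroup.centralizer ({ι a} : Set SL(2, F)) = ι.range := by
  refine le_antisymm (fun g hg => h.cent a ha g (Subgroup.mem_centralizer_singleton_iff.1 hg)) ?_
  rintro _ ⟨b, rfl⟩
  rw [Subgroup.mem_centralizer_singleton_iff, ← map_mul, ← map_mul, mul_comm]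

theorem centralizer_range (h : IsTorus ι w) :
    Subgroup.centralizer (ι.range : Set SL(2, F)) = ι.range := by
  obtain ⟨a, ha⟩ := h.exists_reg
  refine le_antisymm ?_ ?_
  · exact (Subgroup.centralizer_le (Set.singleton_subset_iff.2 (show ι a ∈ (ι.range : Set SL(2, F)) from ⟨a, rfl⟩))).trans_eq
      (h.centralizer_singleton ha)
  · rintro _ ⟨b, rfl⟩
    rw [Subgroup.mem_centralizer_iff]
    rintro _ ⟨c, rfl⟩
    rw [← map_mul, ← map_mul, mul_comm]

theorem mem_normalizer (h : IsTorus ι w) {g : SL(2, F)} :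
    g ∈ Subgroup.normalizer (ι.range : Set SL(2, F)) ↔ g ∈ ι.range ∨ ∃ a, g = w * ι a := by
  constructor
  · intro hg
    obtain ⟨a, ha⟩ := h.exists_reg
    obtain ⟨b, hb⟩ := (Subgroup.mem_normalizer_iff.1 hg (ι a)).1 ⟨a, rfl⟩
    have htr : (ι a : M2 F).trace = (ι b : M2 F).trace := by
      have hP : (g : M2 F) * (ι a : M2 F) = (ι b : M2 F) * (g : M2 F) := by
        rw [← Matrix.SpecialLinearGroup.coe_mul, ← Matrix.SpecialLinearGroup.coe_mul, hb, inv_mul_cancel_right]
      exact (Cfsg.Agent.Lib.Linear.TwoClasses.trace_of_semiconj (by rw [g.2]; exact one_ne_zero) hP).1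
    rcases h.trace a b ha htr with e | e
    · left
      subst e
      exact h.cent b ha g (by nth_rw 2 [hb]; rw [inv_mul_cancel_right])
    · right
      subst e
      rw [← h.inv a] at hb
      obtain ⟨c, hc⟩ := h.cent a ha (w⁻¹ * g) (by
        calc w⁻¹ * g * ι a = w⁻¹ * (g * ι a * g⁻¹) * g := by group
          _ = ι a * (w⁻¹ * g) := by rw [← hb]; group)
      exact ⟨c, by rw [hc, mul_inv_cancel_left]⟩
  · intro hg
    rcases hg with hg | ⟨c, rfl⟩
    · exact Subgroup.le_normalizer hg
    · refine Subgroup.mul_mem _ ?_ (Subgroup.le_normalizer ⟨c, rfl⟩)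
      rw [Subgroup.mem_normalizer_iff]
      intro x
      constructor
      · rintro ⟨b, rfl⟩
        exact ⟨b⁻¹, (h.inv b).symm⟩
      · rintro ⟨b, hb⟩
        refine ⟨b⁻¹, ?_⟩
        rw [← mul_right_inj w, ← mul_left_inj w⁻¹, ← hb, h.inv, inv_inv]

/-- The elements of the normaliser, parametrised. -/
def elt (ι : A →* SL(2, F)) (w : SL(2, F)) : A × Bool → SL(2, F)
  | (a, false) => ι a
  | (a, true) => w * ι a

theorem elt_injective (h : IsTorus ι w) : Function.Injective (elt ι w) := by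
  rintro ⟨a, _ | _⟩ ⟨b, _ | _⟩ e <;> simp only [elt] at e
  · rw [h.inj e]
  · exact absurd ⟨a, e⟩ (h.not_mem b)
  · exact absurd ⟨b, e.symm⟩ (h.not_mem a)
  · rw [h.inj (mul_left_cancel e)]

theorem elt_mem (h : IsTorus ι w) (x : A × Bool) : elt ι w x ∈ Subgroup.normalizer (ι.range : Set SL(2, F)) := by
  rw [h.mem_normalizer]
  rcases x with ⟨a, _ | _⟩
  exacts [Or.inl ⟨a, rfl⟩, Or.inr ⟨a, rfl⟩]

/-- The normaliser as a type. -/
noncomputable def normEquiv (h : IsTorus ι w) :
    A × Bool ≃ ↥(Subgroup.normalizer (ι.range : Set SL(2, F))) :=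
  Equiv.ofBijective (fun x => ⟨elt ι w x, h.elt_mem x⟩)
    ⟨fun x y e => h.elt_injective (congrArg Subtype.val e), fun g => by
      rcases h.mem_normalizer.1 g.2 with ⟨a, ha⟩ | ⟨a, ha⟩
      exacts [⟨(a, false), Subtype.ext ha⟩, ⟨(a, true), Subtype.ext ha.symm⟩]⟩

theorem card_normalizer [Finite A] (h : IsTorus ι w) :
    Nat.card ↥(Subgroup.normalizer (ι.range : Set SL(2, F))) = 2 * Nat.card A := by
  rw [← Nat.card_congr h.normEquiv, Nat.card_prod, Nat.card_eq_fintype_card (α := Bool), Fintype.card_bool, mul_comm]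

theorem card_range (h : IsTorus ι w) : Nat.card ↥ι.range = Nat.card A :=
  (Nat.card_congr (MonoidHom.ofInjective h.inj).toEquiv).symm

theorem sq_of_not_mem (h : IsTorus ι w) {g : SL(2, F)}
    (hg : g ∈ Subgroup.normalizer (ι.range : Set SL(2, F))) (hg' : g ∉ ι.range) : g * g = -1 := by
  rcases h.mem_normalizer.1 hg with e | ⟨a, rfl⟩
  · exact absurd e hg'
  · exact h.sq_outside a

/-- The commutation relation in the normaliser. -/
def Rel : Bool → Bool → A → A → Prop
  | false, false, _, _ => True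
  | false, true, a, _ => a ^ 2 = 1
  | true, false, _, b => b ^ 2 = 1
  | true, true, a, b => (a⁻¹ * b) ^ 2 = 1

theorem commute_iff (h : IsTorus ι w) (a b : A) (s t : Bool) :
    Commute (elt ι w (a, s)) (elt ι w (b, t)) ↔ Rel s t a b := by
  have key : ∀ x y : A, ι x * (w * ι y) = w * ι y * ι x ↔ x ^ 2 = 1 := by
    intro x y
    rw [← mul_assoc, h.move, mul_assoc, mul_assoc, ← map_mul, ← map_mul, mul_comm y x, mul_right_inj, _root_.sq,
      mul_eq_one_iff_eq_inv]
    exact ⟨fun e => (mul_right_cancel (h.inj e)).symm, fun e => by rw [← e]⟩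
  cases s <;> cases t <;> simp only [elt, Rel, iff_true]
  · exact (Commute.all a b).map ι
  · exact key a b
  · rw [commute_iff_eq, eq_comm]; exact key b a
  · rw [commute_iff_eq, mul_assoc, mul_assoc, ← mul_assoc (ι a), ← mul_assoc (ι b), h.move, h.move, mul_right_inj,
      mul_assoc, mul_assoc, mul_right_inj, ← map_mul, ← map_mul, h.inj.eq_iff, _root_.sq, mul_eq_one_iff_eq_inv,
      _root_.mul_inv_rev, inv_inv]

theorem card_conjClasses [Finite A] [IsCyclic A] (h : IsTorus ι w) (heven : 2 ∣ Nat.card A) :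
    2 * Nat.card (ConjClasses ↥(Subgroup.normalizer (ι.range : Set SL(2, F)))) = Nat.card A + 6 := by
  classical
  have : Fintype A := Fintype.ofFinite A
  have : Finite ↥(Subgroup.normalizer (ι.range : Set SL(2, F))) := Finite.of_equiv _ h.normEquiv
  set N := Subgroup.normalizer (ι.range : Set SL(2, F))
  have h0 := card_comm_eq_card_conjClasses_mul_card ↥N
  have e1 : Nat.card {p : ↥N × ↥N // Commute p.1 p.2} =
      Nat.card {p : (A × Bool) × (A × Bool) // Rel p.1.2 p.2.2 p.1.1 p.2.1} := by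
    refine (Nat.card_congr (Equiv.subtypeEquiv (h.normEquiv.prodCongr h.normEquiv) fun p => ?_)).symm
    rw [← h.commute_iff p.1.1 p.2.1 p.1.2 p.2.2]
    refine ⟨fun e => Subtype.ext e, fun e => congrArg Subtype.val e.eq⟩
  have hsq : (Finset.univ.filter fun a : A => a ^ 2 = 1).card = 2 := by
    have hh := card_sq_eq_one (A := A)
    rw [← Nat.card_eq_fintype_card, Nat.gcd_eq_right heven] at hh
    refine (congrArg Finset.card (Finset.ext fun a => ?_)).trans hh
    simp
  have hrel : ∀ s t, (Finset.univ.filter fun p : A × A => Rel s t p.1 p.2).card =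
      if s = false ∧ t = false then Fintype.card A ^ 2 else 2 * Fintype.card A := by
    intro s t
    have hA : (Finset.univ.filter fun p : A × A => p.1 ^ 2 = 1).card = 2 * Fintype.card A := by
      calc (Finset.univ.filter fun p : A × A => p.1 ^ 2 = 1).card
          = ((Finset.univ.filter fun a : A => a ^ 2 = 1) ×ˢ (Finset.univ : Finset A)).card := by
            congr 1
            ext p
            simp
        _ = 2 * Fintype.card A := by rw [Finset.card_product, hsq, Finset.card_univ]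
    have hB : (Finset.univ.filter fun p : A × A => p.2 ^ 2 = 1).card = 2 * Fintype.card A := by
      calc (Finset.univ.filter fun p : A × A => p.2 ^ 2 = 1).card
          = ((Finset.univ : Finset A) ×ˢ (Finset.univ.filter fun a : A => a ^ 2 = 1)).card := by
            congr 1
            ext p
            simp
        _ = 2 * Fintype.card A := by rw [Finset.card_product, hsq, Finset.card_univ, mul_comm]
    have hC : (Finset.univ.filter fun p : A × A => (p.1⁻¹ * p.2) ^ 2 = 1).card = 2 * Fintype.card A := by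
      rw [← hB]
      refine Finset.card_equiv (Equiv.prodShear (Equiv.refl A) fun a => Equiv.mulLeft a⁻¹) fun p => ?_
      simp
    cases s <;> cases t
    · rw [if_pos ⟨rfl, rfl⟩, _root_.sq, ← Fintype.card_prod, ← Finset.card_univ]
      exact congrArg Finset.card (Finset.ext fun p =>
        ⟨fun _ => Finset.mem_univ _, fun _ => Finset.mem_filter.2 ⟨Finset.mem_univ _, trivial⟩⟩)
    · rw [if_neg (by simp)]
      exact (congrArg Finset.card (Finset.ext fun p =>
        ⟨fun e => Finset.mem_filter.2 ⟨Finset.mem_univ _, (Finset.mem_filter.1 e).2⟩,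
          fun e => Finset.mem_filter.2 ⟨Finset.mem_univ _, (Finset.mem_filter.1 e).2⟩⟩)).trans hA
    · rw [if_neg (by simp)]
      exact (congrArg Finset.card (Finset.ext fun p =>
        ⟨fun e => Finset.mem_filter.2 ⟨Finset.mem_univ _, (Finset.mem_filter.1 e).2⟩,
          fun e => Finset.mem_filter.2 ⟨Finset.mem_univ _, (Finset.mem_filter.1 e).2⟩⟩)).trans hB
    · rw [if_neg (by simp)]
      exact (congrArg Finset.card (Finset.ext fun p =>
        ⟨fun e => Finset.mem_filter.2 ⟨Finset.mem_univ _, (Finset.mem_filter.1 e).2⟩,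
          fun e => Finset.mem_filter.2 ⟨Finset.mem_univ _, (Finset.mem_filter.1 e).2⟩⟩)).trans hC
  have e2 : Nat.card {p : (A × Bool) × (A × Bool) // Rel p.1.2 p.2.2 p.1.1 p.2.1} =
      ∑ st : Bool × Bool, (Finset.univ.filter fun p : A × A => Rel st.1 st.2 p.1 p.2).card := by
    rw [← Finset.card_sigma, ← Fintype.card_coe, ← Nat.card_eq_fintype_card]
    refine Nat.card_congr
      { toFun := fun p => ⟨⟨(p.1.1.2, p.1.2.2), (p.1.1.1, p.1.2.1)⟩, Finset.mem_sigma.2 ⟨Finset.mem_univ _,
          Finset.mem_filter.2 ⟨Finset.mem_univ _, p.2⟩⟩⟩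
        invFun := fun x => ⟨((x.1.2.1, x.1.1.1), (x.1.2.2, x.1.1.2)),
          (Finset.mem_filter.1 (Finset.mem_sigma.1 x.2).2).2⟩
        left_inv := fun _ => rfl
        right_inv := fun _ => rfl }
  rw [e1, e2, Fintype.sum_prod_type, Fintype.sum_bool, Fintype.sum_bool, Fintype.sum_bool, hrel, hrel, hrel, hrel,
    h.card_normalizer, Nat.card_eq_fintype_card (α := A)] at h0
  simp at h0
  rw [Nat.card_eq_fintype_card (α := A)]
  have hpos : 0 < Fintype.card A := Fintype.card_pos
  refine mul_right_cancel₀ hpos.ne' ?_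
  calc 2 * Nat.card (ConjClasses ↥N) * Fintype.card A
      = Nat.card (ConjClasses ↥N) * (2 * Fintype.card A) := by ring
    _ = (Fintype.card A + 6) * Fintype.card A := by rw [← h0]; ring

end IsTorus

/-- The diagonal homomorphism. -/
def splitSL (F : Type u) [Field F] : Fˣ →* SL(2, F) where
  toFun a := ⟨!![(a : F), 0; 0, (↑a⁻¹ : F)], by simp [Matrix.det_fin_two]⟩
  map_one' := Subtype.ext (by simp [Matrix.one_fin_two])
  map_mul' a b := Subtype.ext (show !![((a * b : Fˣ) : F), 0; 0, ((a * b)⁻¹ : Fˣ)] =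
    !![(a : F), 0; 0, (↑a⁻¹ : F)] * !![(b : F), 0; 0, (↑b⁻¹ : F)] by simp [mul_comm])

theorem splitSL_coe (a : Fˣ) : (splitSL F a : M2 F) = !![(a : F), 0; 0, (↑a⁻¹ : F)] := rfl

/-- The Weyl element. -/
def weyl (F : Type u) [Field F] : SL(2, F) := ⟨!![0, 1; -1, 0], by simp [Matrix.det_fin_two]⟩

theorem weyl_coe : (weyl F : M2 F) = !![0, 1; -1, 0] := rfl

theorem mem_split_range {g : SL(2, F)} :
    g ∈ (splitSL F).range ↔ (g : M2 F) 0 1 = 0 ∧ (g : M2 F) 1 0 = 0 := by
  constructor
  · rintro ⟨a, rfl⟩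
    simp [splitSL_coe]
  · rintro ⟨h1, h2⟩
    have hd : (g : M2 F) 0 0 * (g : M2 F) 1 1 = 1 := by
      have := Matrix.det_fin_two (g : M2 F)
      rw [g.2, h1, zero_mul, sub_zero] at this
      exact this.symm
    refine ⟨Units.mk0 _ (left_ne_zero_of_mul_eq_one hd), Subtype.ext ?_⟩
    ext i j
    fin_cases i <;> fin_cases j <;> simp [splitSL_coe, h1, h2, ← eq_inv_of_mul_eq_one_right hd]

theorem splitSL_injective : Function.Injective (splitSL F) := fun a b h => Units.ext (by
  have := congrArg (fun g : SL(2, F) => (g : M2 F) 0 0) h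
  simpa [splitSL_coe] using this)

theorem isTorus_split (h : ∃ a : Fˣ, a ^ 2 ≠ 1) : IsTorus (splitSL F) (weyl F) where
  inj := splitSL_injective
  cent a ha g hg := by
    have hne : (a : F) ≠ (↑a⁻¹ : F) := fun e => ha (by
      rw [sq]; exact mul_eq_one_iff_eq_inv.2 (Units.ext e))
    have e01 := congrArg (fun z : SL(2, F) => (z : M2 F) 0 1) hg
    have e10 := congrArg (fun z : SL(2, F) => (z : M2 F) 1 0) hg
    simp [splitSL_coe, Matrix.mul_apply, Fin.sum_univ_two] at e01 e10
    rw [mem_split_range]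
    constructor
    · refine (mul_eq_zero.1 (show ((↑a⁻¹ : F) - a) * (g : M2 F) 0 1 = 0 from ?_)).resolve_left
        (sub_ne_zero.2 hne.symm)
      rw [Units.val_inv_eq_inv_val]
      linear_combination e01
    · refine (mul_eq_zero.1 (show ((a : F) - ↑a⁻¹) * (g : M2 F) 1 0 = 0 from ?_)).resolve_left (sub_ne_zero.2 hne)
      rw [Units.val_inv_eq_inv_val]
      linear_combination e10
  inv a := by
    rw [mul_inv_eq_iff_eq_mul]
    refine Subtype.ext ?_
    rw [Matrix.SpecialLinearGroup.coe_mul, Matrix.SpecialLinearGroup.coe_mul, weyl_coe, splitSL_coe, splitSL_coe]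
    simp
  sq := Subtype.ext (by
    rw [Matrix.SpecialLinearGroup.coe_mul, Matrix.SpecialLinearGroup.coe_neg, Matrix.SpecialLinearGroup.coe_one,
      weyl_coe]
    ext i j
    fin_cases i <;> fin_cases j <;> simp)
  trace a b _ hab := by
    simp [splitSL_coe, Matrix.trace_fin_two] at hab
    have ha := a.ne_zero
    have hb := b.ne_zero
    have hz : ((b : F) - a) * ((b : F) * a - 1) = 0 := by
      field_simp at hab
      linear_combination -hab
    rcases mul_eq_zero.1 hz with e | e
    · exact Or.inl (Units.ext (sub_eq_zero.1 e))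
    · exact Or.inr (mul_eq_one_iff_eq_inv.1 (Units.ext (sub_eq_zero.1 e)))
  exists_reg := h

section Nonsplit

variable [Fintype F] [DecidableEq F]

local notation "q" => Fintype.card F

theorem torusHom_coe_pow (k : (Quad F)ˣ) (g : SL(2, F)) (hg : (g : M2 F) = (torusHom k : M2 F)) :
    Matrix.SpecialLinearGroup.toGL g = torusHom k := Units.ext hg

theorem exists_isTorus_nonsplit (hodd : Odd q) : ∃ w, IsTorus (torusSL (F := F)) w := by
  have hchar := ringChar_ne_two hodd
  have h2 := two_le_q (F := F)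
  have hq3 : 3 ≤ q := by
    rcases hodd with ⟨m, hm⟩
    omega
  obtain ⟨k0, hgen⟩ := IsCyclic.exists_generator (α := ↥(normOne F))
  have hord : orderOf k0 = q + 1 := by
    rw [orderOf_eq_card_of_forall_mem_zpowers hgen, card_normOne]
  have hk0 : k0 ^ 2 ≠ 1 := fun e => by
    have := Nat.le_of_dvd two_pos (hord ▸ orderOf_dvd_of_pow_eq_one e)
    omega
  have hout := mem_outside_of_normOne hk0
  have hsc : ∀ a : ↥(normOne F), a ^ 2 ≠ 1 → ¬ IsSc (torusSL a : M2 F) := fun a ha e =>
    (isSc_torus _).1 e (mem_outside_of_normOne ha)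
  -- the centraliser
  have hcent : ∀ a : ↥(normOne F), a ^ 2 ≠ 1 → ∀ g : SL(2, F), g * torusSL a = torusSL a * g →
      g ∈ (torusSL (F := F)).range := by
    intro a ha g hg
    have hnc : torusSL a ∉ Subgroup.center SL(2, F) := fun hz => hsc a ha (by
      obtain ⟨r, -, hr⟩ := Matrix.SpecialLinearGroup.mem_center_iff.1 hz
      exact isSc_iff.2 ⟨r, by rw [← hr, Matrix.scalar_apply, Matrix.smul_one_eq_diagonal]⟩)
    obtain ⟨r, s, e00, e01, e10, e11⟩ := Cfsg.Lib.Linear.Dickson.exists_param hnc hg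
    set z : Quad F := inc r + inc s * ((a : (Quad F)ˣ) : Quad F) with hz
    have hgz : (g : M2 F) = Algebra.leftMulMatrix (quadBasis (F := F)) z := by
      rw [hz, map_add, map_mul, AlgHom.commutes, AlgHom.commutes, Algebra.algebraMap_eq_smul_one,
        Algebra.algebraMap_eq_smul_one, smul_mul_assoc, one_mul, ← torusHom_val, ← torusSL_coe]
      ext i j
      fin_cases i <;> fin_cases j <;> simp [e00, e01, e10, e11]
    have hn : nm z = 1 := by
      have := g.2
      rw [hgz, ← Algebra.norm_eq_matrix_det] at this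
      exact this
    have hz0 : z ≠ 0 := fun e => by
      have := g.2
      rw [hgz, e, map_zero, Matrix.det_zero] at this
      exact zero_ne_one this
    exact ⟨⟨Units.mk0 z hz0, mem_normOne.2 hn⟩, Subtype.ext (by rw [torusSL_coe, torusHom_val, Units.val_mk0, hgz])⟩
  -- an inverting element
  obtain ⟨x, hx⟩ := isConj_iff.1 (isConj_of_tr_det (g := torusHom (k0 : (Quad F)ˣ))
    (h := torusHom ((k0⁻¹ : ↥(normOne F)) : (Quad F)ˣ)) (hsc k0 hk0)
    (hsc k0⁻¹ fun e => hk0 (inv_eq_one.1 ((inv_pow k0 2).symm.trans e))) (by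
      rw [trace_torus, trace_torus, Subgroup.coe_inv, Units.val_inv_eq_inv_val,
        ← pow_q_of_nm_one (mem_normOne.1 k0.2), tr_pow])
    (by rw [det_torus, det_torus, mem_normOne.1 k0.2, mem_normOne.1 (k0⁻¹).2]))
  obtain ⟨z, hz⟩ := FiniteField.unitsMap_norm_surjective F (Quad F) ((Units.mk0 _ x.det_ne_zero)⁻¹)
  have hzn : nm (z : Quad F) = ((x : M2 F).det)⁻¹ := by
    have := congrArg Units.val hz
    rwa [Units.coe_map, Units.val_inv_eq_inv_val, Units.val_mk0] at this
  have hdet : ((x * torusHom z : GL (Fin 2) F) : M2 F).det = 1 := by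
    rw [Units.val_mul, Matrix.det_mul, det_torus, hzn, mul_inv_cancel₀ x.det_ne_zero]
  set w : SL(2, F) := ⟨((x * torusHom z : GL (Fin 2) F) : M2 F), hdet⟩ with hw
  have hwGL : Matrix.SpecialLinearGroup.toGL w = x * torusHom z := Units.ext rfl
  have hinv0 : w * torusSL k0 * w⁻¹ = torusSL k0⁻¹ := by
    apply Matrix.SpecialLinearGroup.toGL_injective
    rw [map_mul, map_mul, map_inv, hwGL, torusHom_coe_pow (k0 : (Quad F)ˣ) _ rfl,
      torusHom_coe_pow ((k0⁻¹ : ↥(normOne F)) : (Quad F)ˣ) _ rfl, _root_.mul_inv_rev]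
    rw [← hx]
    have hc : torusHom z * torusHom (k0 : (Quad F)ˣ) * (torusHom z)⁻¹ = torusHom (k0 : (Quad F)ˣ) := by
      rw [← map_inv, ← map_mul, ← map_mul, mul_comm z, mul_inv_cancel_right]
    conv_rhs => rw [← hc]
    group
  have hinv : ∀ a : ↥(normOne F), w * torusSL a * w⁻¹ = torusSL a⁻¹ := by
    intro a
    obtain ⟨i, rfl⟩ := Subgroup.mem_zpowers_iff.1 (hgen a)
    rw [map_zpow, ← conj_zpow, hinv0, ← map_zpow, _root_.inv_zpow]
  refine ⟨w, ⟨torusSL_injective, hcent, hinv, ?_, ?_, ⟨k0, hk0⟩⟩⟩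
  · have h22 : (2 : F) ≠ 0 := Ring.two_ne_zero hchar
    have hcomm : w * w * torusSL k0 = torusSL k0 * (w * w) := by
      have e1 := hinv k0
      have e2 := hinv k0⁻¹
      rw [inv_inv, ← e1] at e2
      calc w * w * torusSL k0 = w * (w * torusSL k0 * w⁻¹) * w⁻¹ * (w * w) := by group
        _ = torusSL k0 * (w * w) := by rw [e2]
    obtain ⟨b, hb⟩ := hcent k0 hk0 _ hcomm
    have hb2 : b ^ 2 = 1 := by
      have e := hinv b
      rw [hb, show w * (w * w) * w⁻¹ = w * w by group, ← hb] at e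
      rw [sq]
      exact mul_eq_one_iff_eq_inv.2 (torusSL_injective e)
    have hbs : (w * w) ^ 2 = 1 := by rw [← hb, ← map_pow, hb2, map_one]
    rcases Cfsg.Agent.S0261.sq_one h22 _ hbs with e | e
    · exfalso
      have hw1 : w ^ 2 = 1 := by rw [sq]; exact Subtype.ext e
      have hpm := Cfsg.Agent.S0261.sq_one h22 _ hw1
      have hcen : w * torusSL k0 * w⁻¹ = torusSL k0 := by
        rw [mul_inv_eq_iff_eq_mul]
        refine Subtype.ext ?_
        rw [Matrix.SpecialLinearGroup.coe_mul, Matrix.SpecialLinearGroup.coe_mul]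
        rcases hpm with e' | e' <;> simp [e']
      rw [hinv] at hcen
      exact hk0 (by rw [sq]; exact mul_eq_one_iff_eq_inv.2 (torusSL_injective hcen).symm)
    · exact Subtype.ext (by rw [e, Matrix.SpecialLinearGroup.coe_neg, Matrix.SpecialLinearGroup.coe_one])
  · intro a b ha hab
    rw [torusSL_coe, torusSL_coe, trace_torus, trace_torus] at hab
    rcases kroot_eq hab.symm ((mem_normOne.1 b.2).trans (mem_normOne.1 a.2).symm) with e | e
    · exact Or.inl (Subtype.ext (Units.ext e))
    · refine Or.inr (Subtype.ext (Units.ext ?_))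
      rw [e, pow_q_of_nm_one (mem_normOne.1 a.2), Subgroup.coe_inv, Units.val_inv_eq_inv_val]

theorem exists_reg_units (h : 5 ≤ q) : ∃ a : Fˣ, a ^ 2 ≠ 1 := by
  by_contra! hall
  obtain ⟨g, hg⟩ := IsCyclic.exists_generator (α := Fˣ)
  have := Nat.le_of_dvd two_pos (orderOf_dvd_of_pow_eq_one (hall g))
  rw [orderOf_eq_card_of_forall_mem_zpowers hg, Nat.card_eq_fintype_card, Fintype.card_units] at this
  omega

theorem card_split : Nat.card Fˣ = q - 1 := by rw [Nat.card_eq_fintype_card, Fintype.card_units]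

end Nonsplit

end Cfsg.Lib.TwoDim
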