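import Mathlib

/-!
# The quadratic extension of a finite field, and roots of monic quadratics

`Quad F` is a field with `q ^ 2` elements over `F`; `tr`, `nm` are trace and norm. For `t d : F`,
`roots t d` are the roots in `F` of `X ^ 2 - t X + d` and `kroots t d` those in `Quad F`.
-/

set_option autoImplicit false
set_option linter.unusedSectionVars false

namespace Cfsg.Lib.TwoDim

open Finset

universe u

variable (F : Type u) [Field F]

instance factPrimeRingChar [Finite F] : Fact (ringChar F).Prime := ⟨CharP.char_is_prime F _⟩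

/-- The quadratic extension. -/
abbrev Quad [Finite F] : Type := FiniteField.Extension F (ringChar F) 2

noncomputable instance fintypeQuad [Finite F] : Fintype (Quad F) := Fintype.ofFinite _

noncomputable instance decidableEqQuad [Finite F] : DecidableEq (Quad F) := Classical.decEq _

variable {F} [Fintype F]

local notation "q" => Fintype.card F

theorem card_quad : Fintype.card (Quad F) = q ^ 2 := by
  rw [← Nat.card_eq_fintype_card, ← Nat.card_eq_fintype_card]
  exact FiniteField.natCard_extension F (ringChar F) 2

theorem finrank_quad : Module.finrank F (Quad F) = 2 := FiniteField.finrank_extension F (ringChar F) 2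

theorem two_le_q : 2 ≤ q := Fintype.one_lt_card

/-- The inclusion. -/
noncomputable abbrev inc : F →+* Quad F := algebraMap F (Quad F)

theorem inc_injective : Function.Injective (inc (F := F)) := (inc (F := F)).injective

theorem inc_pow (a : F) : inc a ^ q = inc a := by rw [← map_pow, FiniteField.pow_card]

theorem quad_pow_pow (k : Quad F) : (k ^ q) ^ q = k := by
  rw [← pow_mul, ← sq, ← card_quad, FiniteField.pow_card]

theorem quad_add_pow (k l : Quad F) : (k + l) ^ q = k ^ q + l ^ q :=
  map_add (FiniteField.frobeniusAlgHom F (Quad F)) k l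

theorem quad_sub_pow (k l : Quad F) : (k - l) ^ q = k ^ q - l ^ q :=
  map_sub (FiniteField.frobeniusAlgHom F (Quad F)) k l

/-- The trace. -/
noncomputable def tr (k : Quad F) : F := Algebra.trace F (Quad F) k

/-- The norm. -/
noncomputable def nm (k : Quad F) : F := Algebra.norm F k

theorem inc_tr (k : Quad F) : inc (tr k) = k + k ^ q := by
  rw [inc, tr, FiniteField.algebraMap_trace_eq_sum_pow, finrank_quad, Finset.sum_range_succ, Finset.sum_range_one,
    pow_zero, pow_one, pow_one, Nat.card_eq_fintype_card]

theorem inc_nm (k : Quad F) : inc (nm k) = k * k ^ q := by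
  rw [inc, nm, FiniteField.algebraMap_norm_eq_prod_pow, finrank_quad, Finset.prod_range_succ, Finset.prod_range_one,
    pow_zero, pow_one, pow_one, Nat.card_eq_fintype_card]

theorem tr_inc (a : F) : tr (inc a) = 2 * a := by
  refine inc_injective ?_
  rw [inc_tr, inc_pow, map_mul, map_ofNat, two_mul]

theorem nm_inc (a : F) : nm (inc a) = a ^ 2 := by
  refine inc_injective ?_
  rw [inc_nm, inc_pow, map_pow, sq]

theorem tr_pow (k : Quad F) : tr (k ^ q) = tr k := by
  refine inc_injective ?_
  rw [inc_tr, inc_tr, quad_pow_pow, add_comm]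

theorem nm_pow (k : Quad F) : nm (k ^ q) = nm k := by
  refine inc_injective ?_
  rw [inc_nm, inc_nm, quad_pow_pow, mul_comm]

theorem nm_mul (k l : Quad F) : nm (k * l) = nm k * nm l := map_mul (Algebra.norm F) k l

theorem nm_ne_zero {k : Quad F} (hk : k ≠ 0) : nm k ≠ 0 := fun h => by
  have := congrArg inc h
  rw [inc_nm, map_zero, ← pow_succ'] at this
  exact hk ((pow_eq_zero_iff (Nat.succ_ne_zero q)).1 this)

open scoped Classical in
/-- The elements outside `F`. -/
noncomputable def outside : Finset (Quad F) := Finset.univ.filter fun k => k ^ q ≠ k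

theorem mem_outside {k : Quad F} : k ∈ outside ↔ k ^ q ≠ k := by simp [outside]

theorem inc_not_outside (a : F) : inc a ∉ outside := by simp [mem_outside, inc_pow]

theorem ne_zero_of_outside {k : Quad F} (hk : k ∈ outside) : k ≠ 0 := fun h => by
  rw [mem_outside, h, zero_pow Fintype.card_ne_zero] at hk
  exact hk rfl

theorem pow_mem_outside {k : Quad F} (hk : k ∈ outside) : k ^ q ∈ outside := by
  rw [mem_outside] at hk ⊢
  exact fun h => hk (h.symm.trans (quad_pow_pow k))

theorem exists_inc_of_fixed [DecidableEq F] {k : Quad F} (hk : k ^ q = k) : ∃ a, inc a = k := by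
  classical
  by_contra h
  push Not at h
  have hsub : insert k (Finset.univ.image (inc (F := F))) ⊆
      (Polynomial.X ^ q - Polynomial.X : Polynomial (Quad F)).roots.toFinset := by
    intro y hy
    rw [Multiset.mem_toFinset, Polynomial.mem_roots (FiniteField.X_pow_card_sub_X_ne_zero _ two_le_q)]
    rcases Finset.mem_insert.1 hy with rfl | hy
    · simp [hk]
    · obtain ⟨a, -, rfl⟩ := Finset.mem_image.1 hy
      simp [inc_pow]
  have h1 := (Finset.card_le_card hsub).trans ((Multiset.toFinset_card_le _).trans (Polynomial.card_roots' _))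
  rw [FiniteField.X_pow_card_sub_X_natDegree_eq _ two_le_q, Finset.card_insert_of_notMem (by simpa using h),
    Finset.card_image_of_injective _ inc_injective, Finset.card_univ] at h1
  omega

variable [DecidableEq F]

theorem compl_outside : (outside (F := F))ᶜ = Finset.univ.image inc := by
  ext k
  rw [Finset.mem_compl, mem_outside, not_not, Finset.mem_image]
  exact ⟨fun h => (exists_inc_of_fixed h).imp fun a ha => ⟨Finset.mem_univ a, ha⟩,
    fun ⟨a, _, h⟩ => h ▸ inc_pow a⟩

theorem card_outside : (outside (F := F)).card + q = q ^ 2 := by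
  rw [← card_quad, ← Finset.card_add_card_compl (outside (F := F)), compl_outside,
    Finset.card_image_of_injective _ inc_injective, Finset.card_univ]

/-- The roots of `X ^ 2 - t X + d` in `F`. -/
def roots (t d : F) : Finset F := Finset.univ.filter fun a => a ^ 2 - t * a + d = 0

theorem mem_roots {t d a : F} : a ∈ roots t d ↔ a ^ 2 - t * a + d = 0 := by simp [roots]

/-- The double roots. -/
def droots (t d : F) : Finset F := (roots t d).filter fun a => 2 * a = t

theorem roots_eq_pair {t d a : F} (ha : a ∈ roots t d) : roots t d = {a, t - a} := by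
  rw [mem_roots] at ha
  ext b
  rw [mem_roots, Finset.mem_insert, Finset.mem_singleton]
  constructor
  · intro hb
    have : (b - a) * (b - (t - a)) = 0 := by linear_combination hb - ha
    rcases mul_eq_zero.1 this with h | h
    · exact Or.inl (sub_eq_zero.1 h)
    · exact Or.inr (sub_eq_zero.1 h)
  · rintro (rfl | rfl)
    · exact ha
    · linear_combination ha

theorem roots_cases (t d : F) :
    (roots t d).card = 0 ∧ (droots t d).card = 0 ∨ (roots t d).card = 1 ∧ (droots t d).card = 1 ∨
      (roots t d).card = 2 ∧ (droots t d).card = 0 := by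
  rcases (roots t d).eq_empty_or_nonempty with h | ⟨a, ha⟩
  · exact Or.inl ⟨by rw [h]; rfl, by rw [droots, h]; rfl⟩
  have hp := roots_eq_pair ha
  by_cases he : 2 * a = t
  · have h1 : t - a = a := by linear_combination -he
    refine Or.inr (Or.inl ⟨by rw [hp, h1]; simp, ?_⟩)
    rw [droots, hp, h1]
    simp [he, Finset.filter_singleton]
  · have h1 : a ≠ t - a := fun h => he (by linear_combination h)
    refine Or.inr (Or.inr ⟨by rw [hp]; exact Finset.card_pair h1, ?_⟩)
    rw [Finset.card_eq_zero, droots, Finset.filter_eq_empty_iff]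
    intro b hb hb2
    rw [hp, Finset.mem_insert, Finset.mem_singleton] at hb
    rcases hb with rfl | rfl
    · exact he hb2
    · exact he (by linear_combination -hb2)

theorem sum_card_roots : ∑ p : F × F, (roots p.1 p.2).card = q ^ 2 := by
  rw [Fintype.sum_prod_type, Finset.sum_congr rfl fun t _ => show ∑ d, (roots t d).card = q from ?_]
  · simp [sq]
  rw [← Finset.card_univ, ← Finset.card_sigma]
  refine Finset.card_bij (fun x _ => x.2) (fun _ _ => Finset.mem_univ _) ?_ ?_
  · rintro ⟨d, a⟩ h1 ⟨d', a'⟩ h2 (rfl : a = a')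
    rw [Finset.mem_sigma, mem_roots] at h1 h2
    obtain rfl : d = d' := by linear_combination h1.2 - h2.2
    rfl
  · exact fun a _ => ⟨⟨t * a - a ^ 2, a⟩, by simp [mem_roots], rfl⟩

theorem sum_card_droots : ∑ p : F × F, (droots p.1 p.2).card = q := by
  rw [← Finset.card_univ, ← Finset.card_sigma]
  refine Finset.card_bij (fun x _ => x.2) (fun _ _ => Finset.mem_univ _) ?_ ?_
  · rintro ⟨⟨t, d⟩, a⟩ h1 ⟨⟨t', d'⟩, a'⟩ h2 (rfl : a = a')
    simp only [Finset.mem_sigma, droots, Finset.mem_filter, mem_roots] at h1 h2
    obtain rfl : t = t' := h1.2.2.symm.trans h2.2.2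
    obtain rfl : d = d' := by linear_combination h1.2.1 - h2.2.1
    rfl
  · exact fun a _ => ⟨⟨(2 * a, a ^ 2), a⟩, by simp [droots, mem_roots]; ring, rfl⟩

open scoped Classical in
/-- The roots in the quadratic extension. -/
noncomputable def kroots (t d : F) : Finset (Quad F) := Finset.univ.filter fun k => tr k = t ∧ nm k = d

theorem mem_kroots {t d : F} {k : Quad F} : k ∈ kroots t d ↔ tr k = t ∧ nm k = d := by simp [kroots]

theorem kroot_eq {k l : Quad F} (ht : tr l = tr k) (hn : nm l = nm k) : l = k ∨ l = k ^ q := by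
  have h1 := congrArg inc ht
  have h2 := congrArg inc hn
  rw [inc_tr, inc_tr] at h1
  rw [inc_nm, inc_nm] at h2
  have : (l - k) * (l - k ^ q) = 0 := by linear_combination l * h1 - h2
  rcases mul_eq_zero.1 this with h | h
  · exact Or.inl (sub_eq_zero.1 h)
  · exact Or.inr (sub_eq_zero.1 h)

theorem kroots_tr_nm (k : Quad F) : kroots (tr k) (nm k) = {k, k ^ q} := by
  ext l
  rw [mem_kroots, Finset.mem_insert, Finset.mem_singleton]
  constructor
  · exact fun h => kroot_eq h.1 h.2
  · rintro (rfl | rfl)
    · exact ⟨rfl, rfl⟩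
    · exact ⟨tr_pow k, nm_pow k⟩

theorem roots_tr_nm {k : Quad F} (hk : k ∈ outside) : roots (tr k) (nm k) = ∅ := by
  rw [Finset.eq_empty_iff_forall_notMem]
  intro a ha
  have h := congrArg inc (mem_roots.1 ha)
  rw [map_add, map_sub, map_mul, map_pow, map_zero, inc_tr, inc_nm] at h
  have : (inc a - k) * (inc a - k ^ q) = 0 := by linear_combination h
  rcases mul_eq_zero.1 this with h | h
  · exact inc_not_outside a ((sub_eq_zero.1 h).symm ▸ hk)
  · exact inc_not_outside a ((sub_eq_zero.1 h).symm ▸ pow_mem_outside hk)

/-- The roots outside `F` of an irreducible quadratic. -/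
theorem card_kroots_outside (t d : F) :
    ((kroots t d).filter (· ∈ outside)).card = if (roots t d).card = 0 then 2 else 0 := by
  classical
  set E : F × F → ℕ := fun p => ((kroots p.1 p.2).filter (· ∈ outside)).card with hE
  set Z := (Finset.univ : Finset (F × F)).filter fun p => (roots p.1 p.2).card = 0 with hZ
  have hsum : ∑ p, E p = (outside (F := F)).card := by
    rw [Finset.card_eq_sum_card_fiberwise (f := fun k => (tr k, nm k)) (t := Finset.univ) fun _ _ => Finset.mem_univ _]
    refine Finset.sum_congr rfl fun p _ => congrArg Finset.card ?_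
    ext k
    simp [mem_kroots, Prod.ext_iff, and_comm]
  have h2 : ∀ p, E p ≤ 2 := by
    intro p
    rcases ((kroots p.1 p.2).filter (· ∈ outside)).eq_empty_or_nonempty with h | ⟨k, hk⟩
    · simp [hE, h]
    rw [Finset.mem_filter, mem_kroots] at hk
    refine (Finset.card_filter_le _ _).trans ?_
    rw [← hk.1.1, ← hk.1.2, kroots_tr_nm]
    exact Finset.card_le_two
  have h0 : ∀ p, p ∉ Z → E p = 0 := by
    intro p hp
    rw [hE, Finset.card_eq_zero, Finset.filter_eq_empty_iff]
    intro k hk hko
    rw [mem_kroots] at hk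
    refine hp (Finset.mem_filter.2 ⟨Finset.mem_univ _, ?_⟩)
    rw [← hk.1, ← hk.2, roots_tr_nm hko, Finset.card_empty]
  have hZc : 2 * Z.card + q = q ^ 2 := by
    have e1 : ∀ p : F × F, (if (roots p.1 p.2).card = 0 then 2 else 0) + (roots p.1 p.2).card +
        (droots p.1 p.2).card = 2 := fun p => by
      rcases roots_cases p.1 p.2 with ⟨h, h'⟩ | ⟨h, h'⟩ | ⟨h, h'⟩ <;> simp [h, h']
    have := Finset.sum_congr (rfl : (Finset.univ : Finset (F × F)) = _) fun p _ => e1 p
    rw [Finset.sum_add_distrib, Finset.sum_add_distrib, sum_card_roots, sum_card_droots, ← Finset.sum_filter,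
      Finset.sum_const, Finset.sum_const, ← hZ, Finset.card_univ, Fintype.card_prod, smul_eq_mul, smul_eq_mul,
      ← sq] at this
    omega
  have hZs : ∑ p ∈ Z, E p = ∑ p ∈ Z, 2 := by
    rw [Finset.sum_const, smul_eq_mul, Finset.sum_subset (Finset.subset_univ Z) fun p _ hp => h0 p hp, hsum]
    have := card_outside (F := F)
    omega
  have := (Finset.sum_eq_sum_iff_of_le fun p _ => h2 p).1 hZs
  split_ifs with h
  · exact this (t, d) (Finset.mem_filter.2 ⟨Finset.mem_univ _, h⟩)
  · exact h0 (t, d) fun hm => h (Finset.mem_filter.1 hm).2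

end Cfsg.Lib.TwoDim
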