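import Cfsg.Agent.Lib.TwoDim.GL

/-!
# Restrictions to `SL₂` and their inner products
-/

set_option autoImplicit false
set_option linter.unusedSectionVars false

namespace Cfsg.Lib.TwoDim

open Finset Matrix Cfsg Cfsg.Lib.Char
open scoped MatrixGroups ComplexConjugate

universe u

variable {F : Type u} [Field F] [Fintype F] [DecidableEq F]

local notation "q" => Fintype.card F

/-- The trivial character. -/
noncomputable def oneR (F : Type u) [Field F] [Fintype F] [DecidableEq F] : SL(2, F) → ℂ :=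
  sF (linS (1 : MulChar F ℂ)) (linV (1 : MulChar F ℂ))

/-- The principal series of `SL₂`. -/
noncomputable def psR (α : MulChar F ℂ) : SL(2, F) → ℂ := sF (psS α 1) (psV α 1)

/-- The Steinberg character of `SL₂`. -/
noncomputable def stR (F : Type u) [Field F] [Fintype F] [DecidableEq F] : SL(2, F) → ℂ :=
  sF (stS (1 : MulChar F ℂ)) (stV (1 : MulChar F ℂ))

/-- The cuspidal functions of `SL₂`. -/
noncomputable def cuR (θ : MulChar (Quad F) ℂ) : SL(2, F) → ℂ := sF (cuS θ) (cuV θ)

theorem ne_zero_of_sq {c : F} (h : c ^ 2 = 1) : c ≠ 0 := fun h0 => by simp [h0] at h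

theorem oneR_eq : oneR F = fun _ => 1 := by
  funext g
  rw [oneR, sF_apply, ofData]
  split_ifs with h
  · rw [linS, MulChar.one_apply]
    refine Ne.isUnit (pow_ne_zero 2 fun h0 => ?_)
    have := Matrix.det_fin_two (g : M2 F)
    rw [g.2, h0, h.1] at this
    simp at this
  · rw [linV, g.2, map_one]

theorem irr_oneR : IsIrrCharacter SL(2, F) (oneR F) := by rw [oneR_eq]; exact isIrrCharacter_one

theorem linF_comp (lam : MulChar F ℂ) : linF lam ∘ Matrix.SpecialLinearGroup.toGL = oneR F := by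
  rw [linF, gF_comp_toGL, oneR]
  refine sF_congr (fun c hc => ?_) (fun t => ?_)
  · rw [linS, linS, hc, map_one, map_one]
  · rw [linV, linV, map_one, map_one]

theorem stF_comp (lam : MulChar F ℂ) : stF lam ∘ Matrix.SpecialLinearGroup.toGL = stR F := by
  rw [stF, gF_comp_toGL, stR]
  refine sF_congr (fun c hc => ?_) (fun t => ?_)
  · rw [stS, stS, hc, map_one, map_one]
  · rw [stV, stV, map_one, map_one]

theorem psF_comp (α β : MulChar F ℂ) : psF α β ∘ Matrix.SpecialLinearGroup.toGL = psR (α * β⁻¹) := by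
  rw [psF, gF_comp_toGL, psR]
  refine sF_congr (fun c hc => ?_) (fun t => Finset.sum_congr rfl fun a ha => ?_)
  · have hi : c⁻¹ = c := inv_eq_of_mul_eq_one_right (by rw [← sq]; exact hc)
    rw [psS, psS, MulChar.mul_apply, MulChar.inv_apply', hi, MulChar.one_apply (Ne.isUnit (ne_zero_of_sq hc)), mul_one]
  · have ha0 : a ≠ 0 := fun h => by rw [mem_roots, h] at ha; simp at ha
    rw [MulChar.mul_apply, MulChar.inv_apply', one_mul,
      MulChar.one_apply (Ne.isUnit (inv_ne_zero ha0)), mul_one]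

theorem psR_eq_comp (α : MulChar F ℂ) : psR α = psF α 1 ∘ Matrix.SpecialLinearGroup.toGL := by
  rw [psF_comp, inv_one, mul_one]

theorem cuF_comp (θ : MulChar (Quad F) ℂ) : cuF θ ∘ Matrix.SpecialLinearGroup.toGL = cuR θ := rfl

theorem indFun_psR (α : MulChar F ℂ) :
    indFun ((Cfsg.upperTriangularGL 2 F).comap Matrix.SpecialLinearGroup.toGL)
      (fun b => α (((b : SL(2, F)) : M2 F) 0 0)) = psR α := funext fun g => indFun_borel_sl α g

theorem isCharacter_psR (α : MulChar F ℂ) : IsCharacter SL(2, F) (psR α) := by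
  rw [psR_eq_comp]; exact (isCharacter_psF α 1).comp _

theorem isGeneralized_cuR (θ : MulChar (Quad F) ℂ) : IsGeneralizedCharacter SL(2, F) (cuR θ) := by
  rw [← cuF_comp]; exact (isGeneralized_cuF θ).comp _

theorem stR_eq : stR F = psR (1 : MulChar F ℂ) - oneR F := by
  funext g
  have e := congrFun (stF_eq (1 : MulChar F ℂ)) (Matrix.SpecialLinearGroup.toGL g)
  simp only [Pi.sub_apply] at e ⊢
  rw [← stF_comp (1 : MulChar F ℂ), psR_eq_comp, ← linF_comp (1 : MulChar F ℂ)]
  exact e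

theorem psR_one (α : MulChar F ℂ) : psR α 1 = ((q + 1 : ℕ) : ℂ) := by
  rw [psR_eq_comp, Function.comp_apply, map_one, psF_one]

theorem cuR_one (θ : MulChar (Quad F) ℂ) : cuR θ 1 = ((q - 1 : ℕ) : ℂ) := by
  rw [← cuF_comp, Function.comp_apply, map_one, cuF_one]

theorem stR_one : stR F 1 = ((q : ℕ) : ℂ) := by
  rw [← stF_comp (1 : MulChar F ℂ), Function.comp_apply, map_one, stF_one]

theorem oneR_one : oneR F 1 = ((1 : ℕ) : ℂ) := by rw [oneR_eq, Nat.cast_one]

section NormOneChar

/-- Restriction to the norm one elements. -/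
noncomputable def res1 (θ : MulChar (Quad F) ℂ) : ↥(normOne F) →* ℂˣ := θ.toUnitHom.comp (normOne F).subtype

theorem res1_apply (θ : MulChar (Quad F) ℂ) (x : ↥(normOne F)) :
    (res1 θ x : ℂ) = θ ((x : (Quad F)ˣ) : Quad F) := MulChar.coe_toUnitHom θ _

theorem res1_surjective : Function.Surjective (res1 (F := F)) := fun φ => by
  obtain ⟨ψ, hψ⟩ := φ.domRestrict_surjective ℂ (normOne F)
  refine ⟨MulChar.ofUnitHom ψ, MonoidHom.ext fun x => Units.ext ?_⟩
  rw [res1_apply, MulChar.ofUnitHom_coe, ← hψ]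
  rfl

theorem eq_of_res1 {θ η : MulChar (Quad F) ℂ} (h : res1 θ = res1 η) {k : Quad F} (hk : nm k = 1) : θ k = η k := by
  have hk0 : k ≠ 0 := fun h0 => by
    rw [h0, ← map_zero (inc (F := F)), nm_inc] at hk
    simp at hk
  have := congrArg Units.val (DFunLike.congr_fun h ⟨Units.mk0 k hk0, mem_normOne.2 hk⟩)
  rw [res1_apply, res1_apply] at this
  exact this

theorem pow_q_of_nm_one {k : Quad F} (hk : nm k = 1) : k ^ q = k⁻¹ := by
  refine eq_inv_of_mul_eq_one_left ?_
  rw [← pow_succ]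
  exact nm_eq_one_iff.1 hk

theorem res1_inv (θ : MulChar (Quad F) ℂ) : res1 θ⁻¹ = (res1 θ)⁻¹ := MonoidHom.ext fun x => Units.ext (by
  rw [res1_apply, MonoidHom.inv_apply, Units.val_inv_eq_inv_val, res1_apply, MulChar.inv_apply_eq_inv'])

theorem cuR_congr {θ η : MulChar (Quad F) ℂ} (h : res1 θ = res1 η) : cuR θ = cuR η := by
  refine sF_congr (fun c hc => ?_) (fun t => ?_)
  · rw [cuS, cuS, eq_of_res1 h (nm_inc_eq_one.2 hc)]
  · rw [cuV, cuV, tV, tV]
    congr 1
    · refine congrArg _ (Finset.sum_congr rfl fun k hk => eq_of_res1 h ?_)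
      rw [Finset.mem_filter, mem_kroots] at hk
      exact hk.1.2
    · refine Finset.sum_congr rfl fun c hc => eq_of_res1 h (nm_inc_eq_one.2 ?_)
      rw [droots, Finset.mem_filter, mem_roots] at hc
      linear_combination -hc.1 + c * hc.2

theorem cuR_inv (θ : MulChar (Quad F) ℂ) : cuR θ⁻¹ = cuR θ := by
  have h : res1 θ⁻¹ = res1 (θ ^ q) := MonoidHom.ext fun x => Units.ext (by
    rw [res1_apply, res1_apply, mulChar_pow_q, MulChar.inv_apply', pow_q_of_nm_one (mem_normOne.1 x.2)])
  rw [cuR_congr h, ← cuF_comp, ← cuF_comp θ, cuF_eq_iff.2 (Or.inr rfl : θ ^ q = θ ∨ θ ^ q = θ ^ q)]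

theorem sum_normOne_star (θ η : MulChar (Quad F) ℂ) [Decidable (res1 θ = res1 η)] :
    ∑ k ∈ normOneSet F, θ k * star (η k) = if res1 θ = res1 η then (q : ℂ) + 1 else 0 := by
  classical
  have : Fintype ↥(normOne F) := Fintype.ofFinite _
  rw [sum_normOneSet]
  split_ifs with h
  · rw [Finset.sum_congr rfl (g := fun _ => (1 : ℂ)) fun x _ => ?_, Finset.sum_const, Finset.card_univ,
      ← Nat.card_eq_fintype_card, card_normOne, nsmul_eq_mul, mul_one, Nat.cast_add, Nat.cast_one]
    rw [eq_of_res1 h (mem_normOne.1 x.2), mul_comm, star_mul_self]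
    exact Units.ne_zero _
  · have hne : (Units.coeHom ℂ).comp (res1 θ * (res1 η)⁻¹) ≠ 1 := fun e => h (MonoidHom.ext fun x => by
      have := DFunLike.congr_fun e x
      rw [MonoidHom.comp_apply, Units.coeHom_apply, MonoidHom.one_apply, Units.val_eq_one, MonoidHom.mul_apply,
        MonoidHom.inv_apply, mul_inv_eq_one] at this
      exact this)
    rw [← sum_hom_units_eq_zero _ hne]
    refine Finset.sum_congr rfl fun x _ => ?_
    rw [MonoidHom.comp_apply, Units.coeHom_apply, MonoidHom.mul_apply, Units.val_mul, MonoidHom.inv_apply,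
      Units.val_inv_eq_inv_val, res1_apply, res1_apply, MulChar.star_apply', MulChar.inv_apply_eq_inv']

theorem res1_eq_one_of_fixed {θ : MulChar (Quad F) ℂ} (h : θ ^ q = θ) : res1 θ = 1 := by
  refine MonoidHom.ext fun x => Units.ext ?_
  rw [MonoidHom.one_apply, Units.val_one, res1_apply]
  have hx : (x : (Quad F)ˣ) ∈ (powMonoidHom (q - 1) : (Quad F)ˣ →* (Quad F)ˣ).range := by
    have hle : (powMonoidHom (q - 1) : (Quad F)ˣ →* (Quad F)ˣ).range ≤ normOne F := by
      rintro _ ⟨k, rfl⟩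
      rw [normOne, MonoidHom.mem_ker, powMonoidHom_apply, powMonoidHom_apply, ← pow_mul, mul_comm,
        ← Nat.sq_sub_sq, one_pow]
      have := pow_card_eq_one (G := (Quad F)ˣ) (x := k)
      rwa [Fintype.card_units, card_quad] at this
    have heq := Subgroup.eq_of_le_of_card_ge hle (by
      have h1 := IsCyclic.index_powMonoidHom_range (G := (Quad F)ˣ) (q - 1)
      have h2 := Subgroup.card_mul_index (powMonoidHom (q - 1) : (Quad F)ˣ →* (Quad F)ˣ).range
      have h3 : q ^ 2 - 1 = (q + 1) * (q - 1) := by rw [← Nat.sq_sub_sq, one_pow]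
      rw [h1, Nat.card_eq_fintype_card (α := (Quad F)ˣ), Fintype.card_units, card_quad, h3,
        Nat.gcd_eq_right (dvd_mul_left _ _)] at h2
      rw [card_normOne, Nat.eq_of_mul_eq_mul_right (by have := two_le_q (F := F); omega) h2])
    rw [heq]; exact x.2
  obtain ⟨k, hk⟩ := hx
  rw [powMonoidHom_apply] at hk
  rw [← hk, Units.val_pow_eq_pow_val, map_pow]
  have hk0 : θ (k : Quad F) ≠ 0 := MulChar.apply_ne_zero_iff.2 k.isUnit
  have e : θ (k : Quad F) ^ (q - 1) * θ (k : Quad F) = θ (k : Quad F) := by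
    rw [← pow_succ, Nat.sub_add_cancel Fintype.card_pos, ← MulChar.pow_apply' θ Fintype.card_ne_zero, h]
  exact (mul_eq_right₀ hk0).1 e

theorem isCharacter_cuR {θ : MulChar (Quad F) ℂ} (h : res1 θ ≠ 1) : IsCharacter SL(2, F) (cuR θ) := by
  rw [← cuF_comp]
  exact (irr_cuF fun e => h (res1_eq_one_of_fixed e)).isCharacter.comp _

end NormOneChar

section InnerSL

theorem sum_split_range (f : F → ℂ) (h0 : f 0 = 0) :
    ∑ a ∈ Finset.univ.filter (fun a : F => a ≠ 0 ∧ a ^ 2 ≠ 1), f a =
      (∑ a, f a) - ∑ c ∈ Finset.univ.filter (fun c : F => c ^ 2 = 1), f c := by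
  rw [← Finset.sum_filter_add_sum_filter_not (Finset.univ : Finset F) (fun c => c ^ 2 = 1) f, add_sub_cancel_left]
  refine Finset.sum_subset (fun a ha => ?_) (fun a ha hna => ?_)
  · simp only [Finset.mem_filter, Finset.mem_univ, true_and] at ha ⊢
    exact ha.2
  · simp only [Finset.mem_filter, Finset.mem_univ, true_and, not_and, not_not] at ha hna
    by_cases h : a = 0
    · rw [h, h0]
    · exact absurd (hna h) ha

theorem sum_inv_arg (f : F → ℂ) : ∑ a, f a⁻¹ = ∑ a, f a := Equiv.sum_comp (Equiv.inv F) f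

theorem psV_one_split {a : F} (ha : a ≠ 0) (h : a ^ 2 ≠ 1) (α : MulChar F ℂ) :
    psV α 1 (a + a⁻¹) 1 = α a + α a⁻¹ := by
  rw [psV_split_one ha h, MulChar.one_apply (Ne.isUnit (inv_ne_zero ha)), MulChar.one_apply (Ne.isUnit ha),
    mul_one, mul_one]

theorem psV_one_double {c : F} (hc : c ^ 2 = 1) (α : MulChar F ℂ) : psV α 1 (2 * c) 1 = α c := by
  rw [psV_double_one hc, MulChar.one_apply (Ne.isUnit (ne_zero_of_sq hc)), mul_one]

theorem psS_one {c : F} (hc : c ^ 2 = 1) (α : MulChar F ℂ) : psS α 1 c = ((q : ℂ) + 1) * α c := by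
  rw [psS, MulChar.one_apply (Ne.isUnit (ne_zero_of_sq hc)), mul_one]

theorem psV_elliptic_one {k : Quad F} (hk : k ∈ outside) (h1 : nm k = 1) (α : MulChar F ℂ) :
    psV α 1 (tr k) 1 = 0 := by rw [← h1, psV_elliptic hk]

theorem cuV_elliptic_one {k : Quad F} (hk : k ∈ outside) (h1 : nm k = 1) (θ : MulChar (Quad F) ℂ) :
    cuV θ (tr k) 1 = -(θ k + θ k⁻¹) := by rw [← h1, cuV_elliptic hk, pow_q_of_nm_one h1]

theorem inner_psR_psR (α β : MulChar F ℂ) [Decidable (α = β)] [Decidable (α = β⁻¹)] :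
    classInner (psR α) (psR β) = (if α = β then 1 else 0) + (if α = β⁻¹ then 1 else 0) := by
  rw [psR, psR, classInner_sF]
  have hS : ∀ c ∈ Finset.univ.filter (fun c : F => c ^ 2 = 1),
      psS α 1 c * star (psS β 1 c) + ((q : ℂ) ^ 2 - 1) * (psV α 1 (2 * c) 1 * star (psV β 1 (2 * c) 1)) =
        2 * (q : ℂ) * ((q : ℂ) + 1) * (α c * star (β c)) := by
    intro c hc
    have hc' := (Finset.mem_filter.1 hc).2
    rw [psV_one_double hc', psV_one_double hc', psS_one hc', psS_one hc', StarMul.star_mul (((q : ℂ) + 1))]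
    simp only [star_add, star_natCast, star_one]
    ring
  have hP : ∀ a ∈ Finset.univ.filter (fun a : F => a ≠ 0 ∧ a ^ 2 ≠ 1),
      psV α 1 (a + a⁻¹) 1 * star (psV β 1 (a + a⁻¹) 1) = (α a + α a⁻¹) * star (β a + β a⁻¹) := by
    intro a ha
    obtain ⟨h1, h2⟩ := (Finset.mem_filter.1 ha).2
    rw [psV_one_split h1 h2, psV_one_split h1 h2]
  have hE : ∀ k ∈ outside.filter (fun k : Quad F => nm k = 1),
      psV α 1 (tr k) 1 * star (psV β 1 (tr k) 1) = 0 := by
    intro k hk
    rw [psV_elliptic_one (Finset.mem_filter.1 hk).1 (Finset.mem_filter.1 hk).2, zero_mul]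
  have hdiag : ∑ c ∈ Finset.univ.filter (fun c : F => c ^ 2 = 1), (α c + α c⁻¹) * star (β c + β c⁻¹) =
      4 * ∑ c ∈ Finset.univ.filter (fun c : F => c ^ 2 = 1), α c * star (β c) := by
    rw [Finset.mul_sum]
    refine Finset.sum_congr rfl fun c hc => ?_
    rw [inv_eq_of_mul_eq_one_right (show c * c = 1 by rw [← sq]; exact (Finset.mem_filter.1 hc).2)]
    simp only [star_add]
    ring
  have hall : ∑ a, (α a + α a⁻¹) * star (β a + β a⁻¹) =
      2 * (∑ a, α a * star (β a)) + 2 * ∑ a, α a * star (β⁻¹ a) := by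
    simp only [← MulChar.inv_apply', star_add, add_mul, mul_add, Finset.sum_add_distrib]
    have e1 : ∑ a, α⁻¹ a * star (β⁻¹ a) = ∑ a, α a * star (β a) := by
      rw [← sum_inv_arg fun a => α a * star (β a)]
      simp only [← MulChar.inv_apply']
    have e2 : ∑ a, α⁻¹ a * star (β a) = ∑ a, α a * star (β⁻¹ a) := by
      rw [← sum_inv_arg fun a => α a * star (β⁻¹ a)]
      simp only [← MulChar.inv_apply', inv_inv]
    rw [e1, e2]
    ring
  rw [Finset.sum_congr rfl hS, Finset.sum_congr rfl hP, Finset.sum_eq_zero hE,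
    sum_split_range _ (by simp [MulChar.map_zero]), hdiag, hall, ← Finset.mul_sum, sum_mul_star, sum_mul_star,
    inv_mul_eq_iff_eq_mul₀ (mul_ne_zero (mul_ne_zero q_ne_zero' q_add_one_ne_zero) q_sub_one_ne_zero)]
  split_ifs <;> ring

theorem inner_cuR_cuR (θ η : MulChar (Quad F) ℂ) [Decidable (res1 θ = res1 η)]
    [Decidable (res1 θ = (res1 η)⁻¹)] :
    classInner (cuR θ) (cuR η) = (if res1 θ = res1 η then 1 else 0) + (if res1 θ = (res1 η)⁻¹ then 1 else 0) := by
  rw [cuR, cuR, classInner_sF]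
  have hS : ∀ c ∈ Finset.univ.filter (fun c : F => c ^ 2 = 1),
      cuS θ c * star (cuS η c) + ((q : ℂ) ^ 2 - 1) * (cuV θ (2 * c) 1 * star (cuV η (2 * c) 1)) =
        2 * (q : ℂ) * ((q : ℂ) - 1) * (θ (inc c) * star (η (inc c))) := by
    intro c hc
    have hc' := (Finset.mem_filter.1 hc).2
    rw [cuV_double_one hc', cuV_double_one hc', cuS, cuS, StarMul.star_mul (((q : ℂ) - 1)), star_neg]
    simp only [star_sub, star_natCast, star_one]
    ring
  have hP : ∀ a ∈ Finset.univ.filter (fun a : F => a ≠ 0 ∧ a ^ 2 ≠ 1),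
      cuV θ (a + a⁻¹) 1 * star (cuV η (a + a⁻¹) 1) = 0 := by
    intro a ha
    rw [cuV_split_one (Finset.mem_filter.1 ha).2.1 (Finset.mem_filter.1 ha).2.2, zero_mul]
  have hE : ∀ k ∈ outside.filter (fun k : Quad F => nm k = 1),
      cuV θ (tr k) 1 * star (cuV η (tr k) 1) = (θ k + θ k⁻¹) * star (η k + η k⁻¹) := by
    intro k hk
    obtain ⟨h1, h2⟩ := Finset.mem_filter.1 hk
    rw [cuV_elliptic_one h1 h2, cuV_elliptic_one h1 h2, star_neg, neg_mul_neg]
  have hsplit := sum_normOne_split (F := F) (fun k => (θ k + θ k⁻¹) * star (η k + η k⁻¹))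
  have hdiag : ∑ c ∈ Finset.univ.filter (fun c : F => c ^ 2 = 1),
      (θ (inc c) + θ (inc c)⁻¹) * star (η (inc c) + η (inc c)⁻¹) =
      4 * ∑ c ∈ Finset.univ.filter (fun c : F => c ^ 2 = 1), θ (inc c) * star (η (inc c)) := by
    rw [Finset.mul_sum]
    refine Finset.sum_congr rfl fun c hc => ?_
    rw [← map_inv₀, inv_eq_of_mul_eq_one_right (show c * c = 1 by rw [← sq]; exact (Finset.mem_filter.1 hc).2)]
    simp only [star_add]
    ring
  have hinv : ∀ f : Quad F → ℂ, ∑ k ∈ normOneSet F, f k⁻¹ = ∑ k ∈ normOneSet F, f k := by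
    intro f
    have hmem : ∀ k ∈ normOneSet F, k⁻¹ ∈ normOneSet F := fun k hk => by
      rw [mem_normOneSet] at hk ⊢
      rw [← pow_q_of_nm_one hk, nm_pow, hk]
    exact Finset.sum_bij' (fun k _ => k⁻¹) (fun k _ => k⁻¹) hmem hmem (fun k _ => inv_inv k)
      (fun k _ => inv_inv k) (fun k _ => rfl)
  have hall : ∑ k ∈ normOneSet F, (θ k + θ k⁻¹) * star (η k + η k⁻¹) =
      2 * (∑ k ∈ normOneSet F, θ k * star (η k)) + 2 * ∑ k ∈ normOneSet F, θ k * star (η⁻¹ k) := by
    simp only [← MulChar.inv_apply', star_add, add_mul, mul_add, Finset.sum_add_distrib]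
    have e1 : ∑ k ∈ normOneSet F, θ⁻¹ k * star (η⁻¹ k) = ∑ k ∈ normOneSet F, θ k * star (η k) := by
      rw [← hinv fun a => θ a * star (η a)]
      simp only [← MulChar.inv_apply']
    have e2 : ∑ k ∈ normOneSet F, θ⁻¹ k * star (η k) = ∑ k ∈ normOneSet F, θ k * star (η⁻¹ k) := by
      rw [← hinv fun a => θ a * star (η⁻¹ a)]
      simp only [← MulChar.inv_apply', inv_inv]
    rw [e1, e2]
    ring
  classical
  rw [hall, hdiag, sum_normOne_star, sum_normOne_star] at hsplit
  simp only [res1_inv] at hsplit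
  rw [Finset.sum_congr rfl hS, Finset.sum_eq_zero hP, Finset.sum_congr rfl hE, eq_sub_of_add_eq' hsplit.symm,
    ← Finset.mul_sum,
    inv_mul_eq_iff_eq_mul₀ (mul_ne_zero (mul_ne_zero q_ne_zero' q_add_one_ne_zero) q_sub_one_ne_zero)]
  split_ifs <;> ring

theorem inner_psR_cuR (α : MulChar F ℂ) (θ : MulChar (Quad F) ℂ) : classInner (psR α) (cuR θ) = 0 := by
  rw [psR, cuR, classInner_sF,
    Finset.sum_eq_zero (s := Finset.univ.filter fun c : F => c ^ 2 = 1) fun c hc => ?_,
    Finset.sum_eq_zero (s := Finset.univ.filter fun a : F => a ≠ 0 ∧ a ^ 2 ≠ 1) fun a ha => by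
      rw [cuV_split_one (Finset.mem_filter.1 ha).2.1 (Finset.mem_filter.1 ha).2.2, star_zero, mul_zero],
    Finset.sum_eq_zero (s := outside.filter fun k : Quad F => nm k = 1) fun k hk => by
      rw [psV_elliptic_one (Finset.mem_filter.1 hk).1 (Finset.mem_filter.1 hk).2, zero_mul]]
  · ring
  · have hc' := (Finset.mem_filter.1 hc).2
    rw [psV_one_double hc', psS_one hc', cuV_double_one hc', cuS, StarMul.star_mul (((q : ℂ) - 1)), star_neg]
    simp only [star_sub, star_natCast, star_one]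
    ring

theorem inner_oneR_psR (α : MulChar F ℂ) [Decidable (α = 1)] :
    classInner (oneR F) (psR α) = if α = 1 then 1 else 0 := by
  classical
  rw [oneR, psR, classInner_sF]
  have hS : ∀ c ∈ Finset.univ.filter (fun c : F => c ^ 2 = 1),
      linS (1 : MulChar F ℂ) c * star (psS α 1 c) +
          ((q : ℂ) ^ 2 - 1) * (linV (1 : MulChar F ℂ) (2 * c) 1 * star (psV α 1 (2 * c) 1)) =
        (q : ℂ) * ((q : ℂ) + 1) * star (α c) := by
    intro c hc
    have hc' := (Finset.mem_filter.1 hc).2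
    rw [psV_one_double hc', psS_one hc', linS, linV, hc', map_one, StarMul.star_mul (((q : ℂ) + 1))]
    simp only [star_add, star_natCast, star_one]
    ring
  have hP : ∀ a ∈ Finset.univ.filter (fun a : F => a ≠ 0 ∧ a ^ 2 ≠ 1),
      linV (1 : MulChar F ℂ) (a + a⁻¹) 1 * star (psV α 1 (a + a⁻¹) 1) = star (α a + α a⁻¹) := by
    intro a ha
    rw [psV_one_split (Finset.mem_filter.1 ha).2.1 (Finset.mem_filter.1 ha).2.2, linV, map_one, one_mul]
  have hdiag : ∑ c ∈ Finset.univ.filter (fun c : F => c ^ 2 = 1), star (α c + α c⁻¹) =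
      2 * ∑ c ∈ Finset.univ.filter (fun c : F => c ^ 2 = 1), star (α c) := by
    rw [Finset.mul_sum]
    refine Finset.sum_congr rfl fun c hc => ?_
    rw [inv_eq_of_mul_eq_one_right (show c * c = 1 by rw [← sq]; exact (Finset.mem_filter.1 hc).2), star_add, two_mul]
  have hall : ∑ a, star (α a + α a⁻¹) = 2 * if α = 1 then (q : ℂ) - 1 else 0 := by
    simp only [star_add, Finset.sum_add_distrib]
    rw [sum_inv_arg fun a => star (α a), ← two_mul]
    congr 1
    have := sum_mul_star (1 : MulChar F ℂ) α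
    simp only [eq_comm (a := (1 : MulChar F ℂ))] at this
    rw [← this]
    refine Finset.sum_congr rfl fun a _ => ?_
    rcases eq_or_ne a 0 with rfl | ha
    · simp [MulChar.map_zero]
    · rw [MulChar.one_apply (Ne.isUnit ha), one_mul]
  rw [Finset.sum_congr rfl hS, Finset.sum_congr rfl hP,
    Finset.sum_eq_zero (s := outside.filter fun k : Quad F => nm k = 1) fun k hk => by
      rw [psV_elliptic_one (Finset.mem_filter.1 hk).1 (Finset.mem_filter.1 hk).2, star_zero, mul_zero],
    sum_split_range _ (by simp [MulChar.map_zero]), hdiag, hall, ← Finset.mul_sum,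
    inv_mul_eq_iff_eq_mul₀ (mul_ne_zero (mul_ne_zero q_ne_zero' q_add_one_ne_zero) q_sub_one_ne_zero)]
  split_ifs <;> ring

theorem inner_oneR_cuR {θ : MulChar (Quad F) ℂ} (hθ : res1 θ ≠ 1) : classInner (oneR F) (cuR θ) = 0 := by
  classical
  rw [← linF_comp (1 : MulChar F ℂ)]
  have hS : ∀ c ∈ Finset.univ.filter (fun c : F => c ^ 2 = 1),
      linS (1 : MulChar F ℂ) c * star (cuS θ c) +
          ((q : ℂ) ^ 2 - 1) * (linV (1 : MulChar F ℂ) (2 * c) 1 * star (cuV θ (2 * c) 1)) =
        -((q : ℂ) * ((q : ℂ) - 1)) * star (θ (inc c)) := by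
    intro c hc
    have hc' := (Finset.mem_filter.1 hc).2
    rw [cuV_double_one hc', cuS, linS, linV, hc', map_one, StarMul.star_mul (((q : ℂ) - 1)), star_neg]
    simp only [star_sub, star_natCast, star_one]
    ring
  have hE : ∀ k ∈ outside.filter (fun k : Quad F => nm k = 1),
      linV (1 : MulChar F ℂ) (tr k) 1 * star (cuV θ (tr k) 1) = -(star (θ k) + star (θ k⁻¹)) := by
    intro k hk
    rw [cuV_elliptic_one (Finset.mem_filter.1 hk).1 (Finset.mem_filter.1 hk).2, linV, map_one, one_mul, star_neg,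
      star_add]
  have hsplit := sum_normOne_split (F := F) (fun k => -(star (θ k) + star (θ k⁻¹)))
  have hdiag : ∑ c ∈ Finset.univ.filter (fun c : F => c ^ 2 = 1), -(star (θ (inc c)) + star (θ (inc c)⁻¹)) =
      -2 * ∑ c ∈ Finset.univ.filter (fun c : F => c ^ 2 = 1), star (θ (inc c)) := by
    rw [Finset.mul_sum]
    refine Finset.sum_congr rfl fun c hc => ?_
    rw [← map_inv₀, inv_eq_of_mul_eq_one_right (show c * c = 1 by rw [← sq]; exact (Finset.mem_filter.1 hc).2)]
    ring
  have h1 : ∀ η : MulChar (Quad F) ℂ, res1 η ≠ 1 → ∑ k ∈ normOneSet F, star (η k) = 0 := by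
    intro η hη
    have := sum_normOne_star (1 : MulChar (Quad F) ℂ) η
    have hone : res1 (1 : MulChar (Quad F) ℂ) = 1 := MonoidHom.ext fun x => Units.ext (by
      rw [res1_apply, MonoidHom.one_apply, Units.val_one, MulChar.one_apply_coe])
    rw [hone, if_neg (Ne.symm hη)] at this
    rw [← this]
    refine Finset.sum_congr rfl fun k hk => ?_
    have := nm_eq_one_iff.1 (mem_normOneSet.1 hk)
    rw [MulChar.one_apply (IsUnit.of_pow_eq_one this (Nat.succ_ne_zero _)), one_mul]
  have hall : ∑ k ∈ normOneSet F, -(star (θ k) + star (θ k⁻¹)) = 0 := by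
    simp only [← MulChar.inv_apply', Finset.sum_neg_distrib, Finset.sum_add_distrib]
    rw [h1 θ hθ, h1 θ⁻¹ (by
      rw [res1_inv]
      refine fun e => hθ (MonoidHom.ext fun x => ?_)
      have := DFunLike.congr_fun e x
      rwa [MonoidHom.inv_apply, MonoidHom.one_apply, inv_eq_one] at this), add_zero, neg_zero]
  rw [hall, hdiag] at hsplit
  rw [linF, gF_comp_toGL, cuR, classInner_sF, Finset.sum_congr rfl hS, Finset.sum_congr rfl hE,
    eq_sub_of_add_eq' hsplit.symm,
    Finset.sum_eq_zero (s := Finset.univ.filter fun a : F => a ≠ 0 ∧ a ^ 2 ≠ 1) fun a ha => by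
      rw [cuV_split_one (Finset.mem_filter.1 ha).2.1 (Finset.mem_filter.1 ha).2.2, star_zero, mul_zero],
    ← Finset.mul_sum]
  ring

theorem inner_oneR_oneR : classInner (oneR F) (oneR F) = 1 := classInner_irr_self irr_oneR

theorem inner_psR_oneR (α : MulChar F ℂ) [Decidable (α = 1)] :
    classInner (psR α) (oneR F) = if α = 1 then 1 else 0 := by
  rw [← classInner_conj_symm, inner_oneR_psR]
  split_ifs <;> simp

theorem inner_oneR_stR : classInner (oneR F) (stR F) = 0 := by
  classical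
  rw [stR_eq, classInner_sub_right, inner_oneR_psR, if_pos rfl, inner_oneR_oneR, sub_self]

theorem inner_stR_stR : classInner (stR F) (stR F) = 1 := by
  classical
  rw [stR_eq, classInner_sub_left, classInner_sub_right, classInner_sub_right, inner_psR_psR, if_pos rfl,
    if_pos inv_one.symm, inner_psR_oneR, inner_oneR_psR, if_pos rfl, inner_oneR_oneR]
  norm_num

theorem irr_stR : IsIrrCharacter SL(2, F) (stR F) :=
  irr_of_virtual (by rw [stR_eq]; exact (isCharacter_psR 1).isGeneralized.sub irr_oneR.isGeneralized)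
    inner_stR_stR stR_one

theorem inner_stR_psR (α : MulChar F ℂ) [Decidable (α = 1)] :
    classInner (stR F) (psR α) = if α = 1 then 1 else 0 := by
  classical
  rw [stR_eq, classInner_sub_left, inner_psR_psR, inner_oneR_psR]
  simp only [eq_comm (a := (1 : MulChar F ℂ)), inv_eq_one]
  split_ifs <;> norm_num

theorem inner_stR_cuR {θ : MulChar (Quad F) ℂ} (hθ : res1 θ ≠ 1) : classInner (stR F) (cuR θ) = 0 := by
  rw [stR_eq, classInner_sub_left, inner_oneR_cuR hθ, inner_psR_cuR, sub_zero]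

end InnerSL

end Cfsg.Lib.TwoDim
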