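import Cfsg.Agent.Lib.TwoDim.Induced
import Cfsg.Agent.Lib.Char.Orthogonality
import Cfsg.Agent.Lib.TwoDim.Norm

/-!
# Inner products of functions of trace and determinant on `GL₂` and `SL₂`
-/

set_option autoImplicit false
set_option linter.unusedSectionVars false

namespace Cfsg.Lib.TwoDim

open Finset Matrix Cfsg
open scoped MatrixGroups ComplexConjugate

universe u

variable {F : Type u} [Field F] [DecidableEq F]

/-- The function on `GL₂` with given data. -/
def gF (s : F → ℂ) (v : F → F → ℂ) (g : GL (Fin 2) F) : ℂ := ofData s v (g : M2 F)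

/-- The function on `SL₂` with given data. -/
def sF (s : F → ℂ) (v : F → F → ℂ) (g : SL(2, F)) : ℂ := ofData s v (g : M2 F)

theorem gF_apply (s : F → ℂ) (v : F → F → ℂ) (g : GL (Fin 2) F) : gF s v g = ofData s v (g : M2 F) := rfl

theorem sF_apply (s : F → ℂ) (v : F → F → ℂ) (g : SL(2, F)) : sF s v g = ofData s v (g : M2 F) := rfl

theorem gF_comp_toGL (s : F → ℂ) (v : F → F → ℂ) :
    gF s v ∘ Matrix.SpecialLinearGroup.toGL = sF s v := rfl

theorem gF_one (s : F → ℂ) (v : F → F → ℂ) : gF s v 1 = s 1 := by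
  have := ofData_smul s v (1 : F)
  rw [one_smul] at this
  rw [gF_apply, Units.val_one, this]

theorem sF_one (s : F → ℂ) (v : F → F → ℂ) : sF s v 1 = s 1 := by
  have := ofData_smul s v (1 : F)
  rw [one_smul] at this
  rw [sF_apply, Matrix.SpecialLinearGroup.coe_one, this]

theorem gF_congr {s s' : F → ℂ} {v v' : F → F → ℂ} (hs : ∀ c, c ≠ 0 → s c = s' c)
    (hv : ∀ t d, d ≠ 0 → v t d = v' t d) : gF s v = gF s' v' := by
  funext g
  rw [gF_apply, gF_apply, ofData, ofData]
  split_ifs with h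
  · refine hs _ fun h0 => g.det_ne_zero ?_
    rw [Matrix.det_fin_two, h.1, h0]
    ring
  · exact hv _ _ g.det_ne_zero

theorem sF_congr {s s' : F → ℂ} {v v' : F → F → ℂ} (hs : ∀ c, c ^ 2 = 1 → s c = s' c)
    (hv : ∀ t, v t 1 = v' t 1) : sF s v = sF s' v' := by
  funext g
  rw [sF_apply, sF_apply, ofData, ofData]
  split_ifs with h
  · refine hs _ ?_
    have := Matrix.det_fin_two (g : M2 F)
    rw [g.2, h.1, ← h.2.2] at this
    linear_combination -this
  · rw [g.2]; exact hv _

theorem gF_add (s s' : F → ℂ) (v v' : F → F → ℂ) :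
    gF s v + gF s' v' = gF (fun c => s c + s' c) (fun t d => v t d + v' t d) := by
  funext g
  simp only [Pi.add_apply, gF_apply, ofData]
  split_ifs <;> rfl

theorem gF_sub (s s' : F → ℂ) (v v' : F → F → ℂ) :
    gF s v - gF s' v' = gF (fun c => s c - s' c) (fun t d => v t d - v' t d) := by
  funext g
  simp only [Pi.sub_apply, gF_apply, ofData]
  split_ifs <;> rfl

theorem gF_mul (s s' : F → ℂ) (v v' : F → F → ℂ) :
    gF s v * gF s' v' = gF (fun c => s c * s' c) (fun t d => v t d * v' t d) := by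
  funext g
  exact ofData_mul _ _ _ _ _

theorem sF_add (s s' : F → ℂ) (v v' : F → F → ℂ) :
    sF s v + sF s' v' = sF (fun c => s c + s' c) (fun t d => v t d + v' t d) := by
  funext g
  simp only [Pi.add_apply, sF_apply, ofData]
  split_ifs <;> rfl

theorem sF_sub (s s' : F → ℂ) (v v' : F → F → ℂ) :
    sF s v - sF s' v' = sF (fun c => s c - s' c) (fun t d => v t d - v' t d) := by
  funext g
  simp only [Pi.sub_apply, sF_apply, ofData]
  split_ifs <;> rfl

variable [Fintype F]

local notation "q" => Fintype.card F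

theorem isClassFunction_gF (s : F → ℂ) (v : F → F → ℂ) : IsClassFunction (GL (Fin 2) F) (gF s v) := by
  intro g h
  refine (ofData_conj s v h.det_ne_zero ?_).symm
  rw [← Units.val_mul, ← Units.val_mul, inv_mul_cancel_right]

section Sums

/-- The three ranges of the sum over `GL₂`. -/
theorem sum_gl (s : F → ℂ) (v : F → F → ℂ) :
    ∑ g : GL (Fin 2) F, gF s v g =
      (∑ c ∈ Finset.univ.filter (fun c : F => c ≠ 0), (s c + ((q : ℂ) ^ 2 - 1) * v (2 * c) (c ^ 2))) +
      (q : ℂ) * ((q : ℂ) + 1) / 2 *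
        (∑ p ∈ Finset.univ.filter (fun p : F × F => p.1 ≠ 0 ∧ p.2 ≠ 0 ∧ p.1 ≠ p.2), v (p.1 + p.2) (p.1 * p.2)) +
      (q : ℂ) * ((q : ℂ) - 1) / 2 * (∑ k ∈ outside, v (tr k) (nm k)) := by
  classical
  have h0 : ∑ g : GL (Fin 2) F, gF s v g =
      ∑ d ∈ Finset.univ.filter (fun d : F => d ≠ 0),
        ∑ M ∈ Finset.univ.filter (fun M : M2 F => M.det = d), ofData s v M := by
    rw [Finset.sum_congr rfl (fun d _ => Finset.sum_congr rfl fun M _ => rfl),
      ← Finset.sum_biUnion fun d _ d' _ hne => by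
        rw [Function.onFun, Finset.disjoint_left]
        intro M h h'
        exact hne ((Finset.mem_filter.1 h).2.symm.trans (Finset.mem_filter.1 h').2)]
    refine Finset.sum_bij' (fun g _ => (g : M2 F))
      (fun M hM => Matrix.GeneralLinearGroup.mkOfDetNeZero M (by
        obtain ⟨d, hd, hM'⟩ := Finset.mem_biUnion.1 hM
        rw [(Finset.mem_filter.1 hM').2]
        exact (Finset.mem_filter.1 hd).2)) ?_ ?_ ?_ ?_ ?_
    · intro g _
      exact Finset.mem_biUnion.2 ⟨(g : M2 F).det, by simpa using g.det_ne_zero, by simp⟩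
    · intro M _
      exact Finset.mem_univ _
    · intro g _
      exact Units.ext rfl
    · intro M _
      rfl
    · intro g _
      rfl
  rw [h0, Finset.sum_congr rfl fun d hd => sum_det (Finset.mem_filter.1 hd).2 s v, Finset.sum_add_distrib,
    Finset.sum_add_distrib, ← Finset.mul_sum, ← Finset.mul_sum]
  congr 1
  · congr 1
    · rw [Finset.sum_sigma']
      refine Finset.sum_bij' (fun x _ => x.2) (fun c _ => ⟨c ^ 2, c⟩) ?_ ?_ ?_ ?_ ?_
      · rintro ⟨d, c⟩ hx
        simp only [Finset.mem_sigma, Finset.mem_filter, Finset.mem_univ, true_and] at hx ⊢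
        rintro rfl
        exact hx.1 (by rw [← hx.2]; ring)
      · intro c hc
        simp only [Finset.mem_sigma, Finset.mem_filter, Finset.mem_univ, true_and] at hc ⊢
        exact ⟨pow_ne_zero 2 hc, trivial⟩
      · rintro ⟨d, c⟩ hx
        simp only [Finset.mem_sigma, Finset.mem_filter, Finset.mem_univ, true_and] at hx ⊢
        rw [hx.2]
      · intro c _; rfl
      · rintro ⟨d, c⟩ hx
        simp only [Finset.mem_sigma, Finset.mem_filter, Finset.mem_univ, true_and] at hx
        rw [hx.2]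
    · congr 1
      rw [Finset.sum_sigma']
      refine Finset.sum_bij' (fun x _ => (x.2, x.1 * x.2⁻¹)) (fun p _ => ⟨p.1 * p.2, p.1⟩) ?_ ?_ ?_ ?_ ?_
      · rintro ⟨d, a⟩ hx
        simp only [Finset.mem_sigma, Finset.mem_filter, Finset.mem_univ, true_and] at hx ⊢
        refine ⟨hx.2.1, mul_ne_zero hx.1 (inv_ne_zero hx.2.1), fun h => hx.2.2 ?_⟩
        rw [sq]
        exact (eq_mul_inv_iff_mul_eq₀ hx.2.1).1 h
      · rintro ⟨a, b⟩ hp
        simp only [Finset.mem_sigma, Finset.mem_filter, Finset.mem_univ, true_and] at hp ⊢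
        refine ⟨mul_ne_zero hp.1 hp.2.1, hp.1, fun h => hp.2.2 ?_⟩
        rw [sq] at h
        exact mul_left_cancel₀ hp.1 h
      · rintro ⟨d, a⟩ hx
        simp only [Finset.mem_sigma, Finset.mem_filter, Finset.mem_univ, true_and] at hx ⊢
        rw [mul_comm a, inv_mul_cancel_right₀ hx.2.1]
      · rintro ⟨a, b⟩ hp
        simp only [Finset.mem_filter, Finset.mem_univ, true_and] at hp ⊢
        rw [mul_comm a b, mul_inv_cancel_right₀ hp.1]
      · rintro ⟨d, a⟩ hx
        simp only [Finset.mem_sigma, Finset.mem_filter, Finset.mem_univ, true_and] at hx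
        rw [mul_comm a (d * a⁻¹), inv_mul_cancel_right₀ hx.2.1]
  · congr 1
    rw [← Finset.sum_fiberwise_of_maps_to (g := fun k : Quad F => nm k)
      (t := Finset.univ.filter fun d : F => d ≠ 0) (s := outside)
      (fun k hk => Finset.mem_filter.2 ⟨Finset.mem_univ _, nm_ne_zero (ne_zero_of_outside hk)⟩)]
    refine Finset.sum_congr rfl fun d _ => Finset.sum_congr rfl fun k hk => ?_
    rw [(Finset.mem_filter.1 hk).2]

/-- The three ranges of the sum over `SL₂`. -/
theorem sum_sl (s : F → ℂ) (v : F → F → ℂ) :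
    ∑ g : SL(2, F), sF s v g =
      (∑ c ∈ Finset.univ.filter (fun c : F => c ^ 2 = 1), (s c + ((q : ℂ) ^ 2 - 1) * v (2 * c) 1)) +
      (q : ℂ) * ((q : ℂ) + 1) / 2 *
        (∑ a ∈ Finset.univ.filter (fun a : F => a ≠ 0 ∧ a ^ 2 ≠ 1), v (a + a⁻¹) 1) +
      (q : ℂ) * ((q : ℂ) - 1) / 2 * (∑ k ∈ outside.filter (fun k : Quad F => nm k = 1), v (tr k) 1) := by
  classical
  have h0 : ∑ g : SL(2, F), sF s v g =
      ∑ M ∈ Finset.univ.filter (fun M : M2 F => M.det = 1), ofData s v M := by
    refine Finset.sum_bij' (fun g _ => (g : M2 F)) (fun M hM => ⟨M, (Finset.mem_filter.1 hM).2⟩) ?_ ?_ ?_ ?_ ?_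
    · intro g _; simp
    · intro M _; exact Finset.mem_univ _
    · intro g _; rfl
    · intro M _; rfl
    · intro g _; rfl
  rw [h0, sum_det one_ne_zero]
  simp only [one_mul]

end Sums

section CardGroups

theorem card_gl_cast :
    (Nat.card (GL (Fin 2) F) : ℂ) = (q : ℂ) * ((q : ℂ) + 1) * ((q : ℂ) - 1) ^ 2 := by
  rw [Matrix.card_GL_field, Fin.prod_univ_two, Nat.cast_mul,
    Nat.cast_sub (Nat.pow_le_pow_right Fintype.card_pos (by norm_num)),
    Nat.cast_sub (Nat.pow_le_pow_right Fintype.card_pos (by norm_num))]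
  simp only [Fin.val_zero, Fin.val_one, pow_zero, pow_one]
  push_cast
  ring

theorem card_gl_ne_zero : (q : ℂ) * ((q : ℂ) + 1) * ((q : ℂ) - 1) ^ 2 ≠ 0 := by
  rw [← card_gl_cast]
  exact Nat.cast_ne_zero.2 Nat.card_pos.ne'

theorem q_sub_one_ne_zero : (q : ℂ) - 1 ≠ 0 := fun h => card_gl_ne_zero (F := F) (by simp [h])

theorem q_add_one_ne_zero : (q : ℂ) + 1 ≠ 0 := fun h => card_gl_ne_zero (F := F) (by simp [h])

theorem q_ne_zero' : (q : ℂ) ≠ 0 := Nat.cast_ne_zero.2 Fintype.card_ne_zero

theorem card_sl_cast :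
    (Nat.card SL(2, F) : ℂ) = (q : ℂ) * ((q : ℂ) + 1) * ((q : ℂ) - 1) := by
  have h := sum_sl (F := F) (fun _ => 1) (fun _ _ => 1)
  have e : ∀ g : SL(2, F), sF (fun _ : F => (1 : ℂ)) (fun _ _ => 1) g = 1 := fun g => by
    rw [sF_apply, ofData]; split_ifs <;> rfl
  simp only [e, Finset.sum_const, Finset.card_univ, nsmul_eq_mul, mul_one, ← Nat.card_eq_fintype_card] at h
  rw [h]
  have hq := Nat.card_eq_fintype_card (α := F)
  rw [hq]
  set A := (Finset.univ.filter fun c : F => c ^ 2 = 1).card with hA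
  set B := (Finset.univ.filter fun a : F => a ≠ 0 ∧ a ^ 2 ≠ 1).card with hB
  set C := (outside.filter fun k : Quad F => nm k = 1).card with hC
  have hAB : A + B + 1 = q := by
    rw [hA, hB, ← Finset.card_univ, ← Finset.card_union_of_disjoint, ← Finset.card_singleton (0 : F),
      ← Finset.card_union_of_disjoint]
    · congr 1
      ext a
      simp only [Finset.mem_union, Finset.mem_filter, Finset.mem_univ, true_and, Finset.mem_singleton, iff_true]
      tauto
    · rw [Finset.disjoint_left]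
      intro a ha h0
      simp only [Finset.mem_union, Finset.mem_filter, Finset.mem_univ, true_and, Finset.mem_singleton] at ha h0
      subst h0
      rcases ha with ha | ha
      · simp at ha
      · exact ha.1 rfl
    · rw [Finset.disjoint_filter]
      exact fun a _ h h' => h'.2 h
  have hAC : A + C = q + 1 := card_norm_one_split
  have hAB' : (A : ℂ) + B + 1 = q := by exact_mod_cast hAB
  have hAC' : (A : ℂ) + C = q + 1 := by exact_mod_cast hAC
  linear_combination ((q : ℂ) * ((q : ℂ) + 1) / 2) * hAB' + ((q : ℂ) * ((q : ℂ) - 1) / 2) * hAC'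

end CardGroups

end Cfsg.Lib.TwoDim
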