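import Cfsg.Agent.Lib.TwoDim.SLValues

/-!
# Cyclic subgroups of order `q + 1` of `SL₂`
-/

set_option autoImplicit false
set_option linter.unusedSectionVars false

namespace Cfsg.Lib.TwoDim

open Finset Matrix Cfsg
open scoped MatrixGroups

universe u

variable {F : Type u} [Field F] [Fintype F] [DecidableEq F]

local notation "q" => Fintype.card F

theorem pow_upper (a b : F) (n : ℕ) : ∃ e : F, (!![a, 1; 0, b] : M2 F) ^ n = !![a ^ n, e; 0, b ^ n] := by
  induction n with
  | zero => exact ⟨0, by simp [Matrix.one_fin_two]⟩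
  | succ n ih =>
    obtain ⟨e, he⟩ := ih
    exact ⟨a ^ n + e * b, by rw [pow_succ, he, pow_succ, pow_succ]; simp⟩

theorem pow_unitri (e : F) (n : ℕ) : (!![1, e; 0, 1] : M2 F) ^ n = !![1, (n : F) * e; 0, 1] := by
  induction n with
  | zero => simp [Matrix.one_fin_two]
  | succ n ih => rw [pow_succ, ih]; simp [add_mul, add_comm]

theorem cast_q : (q : F) = 0 := FiniteField.cast_card_eq_zero F

/-- An element with an eigenvalue in the field has order dividing `2 * (q - 1) * q`. -/
theorem order_dvd_of_root {g : SL(2, F)} {a : F} (hg : ¬ IsSc (g : M2 F))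
    (ha : a ∈ roots (g : M2 F).trace 1) : orderOf g ∣ (q - 1) * q := by
  rw [mem_roots] at ha
  have ha0 : a ≠ 0 := fun h => by rw [h] at ha; simp at ha
  have ht : a + a⁻¹ = (g : M2 F).trace := by field_simp; linear_combination ha
  have hdet : (!![a, 1; 0, a⁻¹] : M2 F).det = 1 := by simp [Matrix.det_fin_two, ha0]
  set M : SL(2, F) := ⟨!![a, 1; 0, a⁻¹], hdet⟩ with hM
  have hMs : ¬ IsSc (M : M2 F) := fun h => one_ne_zero (α := F) (by
    have := h.1
    rw [hM] at this
    simpa using this)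
  obtain ⟨x, hx⟩ := isConj_iff.1 (isConj_of_tr_det (g := Matrix.SpecialLinearGroup.toGL g)
    (h := Matrix.SpecialLinearGroup.toGL M) hg hMs
    (by
      show (g : M2 F).trace = (M : M2 F).trace
      rw [hM, ← ht]
      simp [Matrix.trace_fin_two]) (g.2.trans M.2.symm))
  rw [← toGL_cj] at hx
  have hxM : cj x g = M := Subtype.ext (congrArg Units.val hx)
  have hMp : M ^ ((q - 1) * q) = 1 := by
    refine Subtype.ext ?_
    rw [Matrix.SpecialLinearGroup.coe_pow, hM, Matrix.SpecialLinearGroup.coe_one, pow_mul]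
    show ((!![a, 1; 0, a⁻¹] : M2 F) ^ (q - 1)) ^ q = 1
    obtain ⟨e, he⟩ := pow_upper a a⁻¹ (q - 1)
    rw [he, FiniteField.pow_card_sub_one_eq_one a ha0, FiniteField.pow_card_sub_one_eq_one a⁻¹ (inv_ne_zero ha0),
      pow_unitri, cast_q, zero_mul, ← Matrix.one_fin_two]
  refine orderOf_dvd_of_pow_eq_one ?_
  have e1 : cj x (g ^ ((q - 1) * q)) = 1 := by rw [map_pow, hxM, hMp]
  have e2 := congrArg (cj x⁻¹) e1
  rwa [← cj_mul, inv_mul_cancel, cj_one, map_one] at e2

theorem roots_empty_of_order (hodd : Odd q) {g : SL(2, F)} (hg : orderOf g = q + 1) :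
    ¬ IsSc (g : M2 F) ∧ roots (g : M2 F).trace 1 = ∅ := by
  have h2 := two_le_q (F := F)
  have hs : ¬ IsSc (g : M2 F) := by
    intro h
    obtain ⟨c, hc⟩ := isSc_iff.1 h
    have hd := g.2
    rw [hc, Matrix.det_smul, Matrix.det_one, mul_one, Fintype.card_fin] at hd
    have : g ^ 2 = 1 := Subtype.ext (by
      rw [Matrix.SpecialLinearGroup.coe_pow, hc, Matrix.SpecialLinearGroup.coe_one, smul_pow, one_pow, hd, one_smul])
    have := Nat.le_of_dvd two_pos (hg ▸ orderOf_dvd_of_pow_eq_one this)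
    omega
  refine ⟨hs, Finset.eq_empty_iff_forall_notMem.2 fun a ha => ?_⟩
  have h := hg ▸ order_dvd_of_root hs ha
  have hc : Nat.Coprime (q + 1) q := (Nat.coprime_self_add_left (m := q) (n := 1)).2 (Nat.coprime_one_left q)
  have := Nat.le_of_dvd (by omega) (hc.dvd_of_dvd_mul_right h)
  omega

/-- A cyclic subgroup of order `q + 1` is a conjugate of the torus. -/
theorem exists_torus_of_cyclic (hodd : Odd q) {C : Subgroup SL(2, F)} (hC : IsCyclic C)
    (hcard : Nat.card C = q + 1) : ∃ x : GL (Fin 2) F, ((cj x).comp (torusSL (F := F))).range = C := by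
  obtain ⟨c, hc⟩ := hC.exists_generator
  have hord : orderOf (c : SL(2, F)) = q + 1 := by
    rw [Subgroup.orderOf_coe, orderOf_eq_card_of_forall_mem_zpowers hc, hcard]
  obtain ⟨hs, hr⟩ := roots_empty_of_order hodd hord
  obtain ⟨k, hk, ht, hn⟩ := exists_outside_of_roots_empty hr
  set k' : ↥(normOne F) := ⟨Units.mk0 k (ne_zero_of_outside hk), mem_normOne.2 hn⟩ with hk'
  have hsc : ¬ IsSc (torusHom (k' : (Quad F)ˣ) : M2 F) := fun e => (isSc_torus _).1 e hk
  obtain ⟨x, hx⟩ := isConj_iff.1 (isConj_of_tr_det (g := Matrix.SpecialLinearGroup.toGL (torusSL k'))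
    (h := Matrix.SpecialLinearGroup.toGL (c : SL(2, F))) hsc hs
    (by
      show (torusHom (k' : (Quad F)ˣ) : M2 F).trace = _
      rw [trace_torus]; exact ht)
    ((torusSL k').2.trans (c : SL(2, F)).2.symm))
  rw [← toGL_cj] at hx
  have hxc : cj x (torusSL k') = (c : SL(2, F)) := Subtype.ext (congrArg Units.val hx)
  refine ⟨x, (Subgroup.eq_of_le_of_card_ge ?_ ?_).symm⟩
  · intro g hg
    obtain ⟨i, hi⟩ := Subgroup.mem_zpowers_iff.1 (hc ⟨g, hg⟩)
    refine ⟨k' ^ i, ?_⟩
    rw [map_zpow, MonoidHom.comp_apply, hxc]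
    exact congrArg Subtype.val hi
  · rw [hcard, ← card_normOne (F := F)]
    exact (Nat.card_le_card_of_surjective _ ((cj x).comp (torusSL (F := F))).rangeRestrict_surjective)

theorem cj_injective (x : GL (Fin 2) F) : Function.Injective (cj x) := fun a b h => by
  have := congrArg (cj x⁻¹) h
  rwa [← cj_mul, ← cj_mul, inv_mul_cancel, cj_one, cj_one] at this

end Cfsg.Lib.TwoDim
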